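import Cfsg.Agent.Mrg.Omega.EH3.Kf.InL_m3
import Mathlib.LinearAlgebra.BilinearForm.Orthogonal
import Mathlib.LinearAlgebra.Dual.Lemmas
import Cfsg.Agent.Mrg.Omega.EH3.NodeHom
import Cfsg.Agent.Mrg.Omega.EH3.Irr.Main_m3
import Cfsg.Agent.SignalizersComponents.QsBasic
import Mathlib
import Cfsg.Agent.Omega.KFacts_m3
import Cfsg.Prelude.Def_LieTypeChar
import Cfsg.Agent.KFacts.SLRow.Psl
import Cfsg.Agent.KFacts.SLRow.OmegaPlus_m3
import Cfsg.Agent.KFacts.SLRow.Row
import Cfsg.Agent.Nodes.WittU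
import Cfsg.Agent.Nodes.WittRGDD
import Cfsg.Agent.OddHalf.DblR.MinusTor
import Cfsg.Agent.Nodes.RGDLift
import Cfsg.Agent.Nodes.Bruhat
import Cfsg.Agent.KFacts.RgdOver
import Cfsg.Agent.KFacts.RgdSL
import Cfsg.Agent.Nodes.CardWitt
import Cfsg.Agent.Nodes.WittAll
import Cfsg.Agent.KFacts.RgdFiltClass
import Cfsg.Agent.Nodes.RGDTwD4
import Cfsg.Agent.Hexagon.TwD4Par
import Cfsg.Agent.KFacts.ChevTwoSys
import Cfsg.Agent.Nodes.KindF
import Cfsg.Agent.KFacts.ChevTwoSysInst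
import Cfsg.Agent.Mrg.Omega.EH3.Rank1.Suz
import Cfsg.Agent.Nodes.KindBC
import Cfsg.Agent.KFacts.TwESix.Tor
import Cfsg.Agent.Nodes.RGDTwActE6
import Cfsg.Agent.Lib.FinFast
import Cfsg.Agent.FastGrp
import Cfsg.Agent.Prune
set_option linter.all false

section
prune_inst 0x7ffcfef9abb839dedffe7e7fa6dacffc39911fffe6dffd4b7fe0e1ff0bdf030009e52b8d0de010fe1ed6601410b87853f97ece7fe26bdc7ffffd5ff41ffbee0fa5e7b50851d488340fbc0ff703f0778a7f3fffffffffffffffffffffffffffbeffbdffffffff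

-- part: Mrg/Omega/EH3/Kf/Main
section
prune_inst 0x30000100642202000000001240001c62ea0001020008080000a00902048bfc610d022820baa0081208220004003000481208000000000000000004000118058100801000a108000002008e000800400000000000000000000000000000041000200000000
set_option linter.all false
open scoped Cfsg.Agent.FastGrp

-- merged: Cfsg.Agent.Omega.EH3.ETwo.Base
section

/-!
# THEOREM E2, step (1): the structure `Pt` at a point `c ∈ a^H`
-/

set_option autoImplicit false
set_option linter.unusedSectionVars false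

namespace Cfsg.Agent.Omega.EH3.ETwo.Base

open Module

variable {H V : Type*} [Group H] [AddCommGroup V] [Module (ZMod 2) V] [Module F4 V]

theorem z2 (c : ZMod 2) : c = 0 ∨ c = 1 := by revert c; decide

/-- multiplication by `l` as a `ZMod 2`-linear map -/
def sm (l : F4) : V →ₗ[ZMod 2] V where
  toFun v := l • v
  map_add' u v := smul_add l u v
  map_smul' c v := by
    rcases z2 c with rfl | rfl
    · simp
    · simp

@[simp] theorem sm_apply (l : F4) (v : V) : sm l v = l • v := rfl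

/-- `h` is `F4`-linear -/
def Lin (ρ : H →* (V ≃ₗ[ZMod 2] V)) (h : H) : Prop := ∀ (l : F4) (v : V), ρ h (l • v) = l • ρ h v

/-- `h` is semilinear -/
def Sem (ρ : H →* (V ≃ₗ[ZMod 2] V)) (h : H) : Prop := ∀ (l : F4) (v : V), ρ h (l • v) = l ^ 2 • ρ h v

/-- the ambient data, no bound on `w` -/
structure Amb0 (ρ : H →* (V ≃ₗ[ZMod 2] V)) (b : LinearMap.BilinForm (ZMod 2) V) (q : V → ZMod 2)
    (w : ℕ) : Prop where
  fin : Finite V
  dim : finrank (ZMod 2) V = 2 * w
  b_self : ∀ v, b v v = 0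
  nondeg : ∀ v, (∀ u, b v u = 0) → v = 0
  q_add : ∀ u v, q (u + v) = q u + q v + b u v
  q_inv : ∀ h v, q (ρ h v) = q v
  adj : (∀ (l : F4) u v, b (l • u) v = b u (l • v)) ∨ (∀ (l : F4), l ≠ 0 → ∀ u v, b (l • u) (l • v) = b u v)

/-- the ambient data, `7 ≤ w` -/
structure Amb (ρ : H →* (V ≃ₗ[ZMod 2] V)) (b : LinearMap.BilinForm (ZMod 2) V) (q : V → ZMod 2)
    (w : ℕ) : Prop extends Amb0 ρ b q w where
  seven : 7 ≤ w

instance {ρ : H →* (V ≃ₗ[ZMod 2] V)} {b : LinearMap.BilinForm (ZMod 2) V} {q : V → ZMod 2} {w : ℕ} :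
    Coe (Amb ρ b q w) (Amb0 ρ b q w) := ⟨Amb.toAmb0⟩

/-- the data at the point `c` -/
structure Pt (ρ : H →* (V ≃ₗ[ZMod 2] V)) (b : LinearMap.BilinForm (ZMod 2) V) (q : V → ZMod 2)
    (w : ℕ) (c : V) (D : Submodule (ZMod 2) V) (X : Subgroup H) : Prop where
  ne : c ≠ 0
  fmem : ∀ l : F4, l • c ∈ D
  qD : ∀ d ∈ D, q d = 0
  bD : ∀ d ∈ D, ∀ d' ∈ D, b d d' = 0
  lin : ∀ y ∈ X, Lin ρ y
  sq : ∀ y ∈ X, y * y = 1
  fix : ∀ y ∈ X, ρ y c = c
  onD : ∀ y ∈ X, ∀ d ∈ D, ρ y d = d ∨ ρ y d = d + c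
  rich : ∀ φ : V →ₗ[ZMod 2] ZMod 2, (∀ l : F4, φ (l • c) = 0) → ∃ y ∈ X, ∀ d ∈ D, ρ y d = d + φ d • c
  per : ∀ y ∈ X, ∀ v, b c v = 0 → ρ y v + v ∈ D
  semi : ∀ y ∈ X, ∀ v, b c v = 1 → ρ y v + v ∈ D → y = 1
  nD : ∀ h, Lin ρ h → ρ h c = c → ∀ d ∈ D, ρ h d ∈ D
  nX : ∀ h, Lin ρ h → ρ h c = c → ∀ y ∈ X, h * y * h⁻¹ ∈ X
  cen : ∀ v, (∀ y ∈ X, ρ y v = v) → ∃ l : F4, v = l • c
  dim : finrank (ZMod 2) D = w

variable {ρ : H →* (V ≃ₗ[ZMod 2] V)} {b : LinearMap.BilinForm (ZMod 2) V} {q : V → ZMod 2} {w : ℕ}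

theorem ρ_mul (g h : H) (v : V) : ρ (g * h) v = ρ g (ρ h v) := by rw [map_mul]; rfl

theorem ρ_one (v : V) : ρ 1 v = v := by rw [map_one]; rfl

theorem ρ_inv (g : H) (v : V) : ρ g⁻¹ (ρ g v) = v := by
  rw [← ρ_mul, inv_mul_cancel, ρ_one]

theorem ρ_inv' (g : H) (v : V) : ρ g (ρ g⁻¹ v) = v := by
  rw [← ρ_mul, mul_inv_cancel, ρ_one]

theorem Lin.mul {g h : H} (hg : Lin ρ g) (hh : Lin ρ h) : Lin ρ (g * h) := by
  intro l v
  rw [ρ_mul, hh, hg, ← ρ_mul]

theorem Lin.inv {g : H} (hg : Lin ρ g) : Lin ρ g⁻¹ := by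
  intro l v
  apply (ρ g).injective
  rw [hg, ρ_inv', ρ_inv']

theorem Lin.one : Lin ρ 1 := by
  intro l v
  rw [ρ_one, ρ_one]

/-- `v ⊥ F c` -/
def Perp (b : LinearMap.BilinForm (ZMod 2) V) (c v : V) : Prop := ∀ l : F4, b (l • c) v = 0

/-- `(F c)^⊥` -/
def perp (b : LinearMap.BilinForm (ZMod 2) V) (c : V) : Submodule (ZMod 2) V where
  carrier := {v | Perp b c v}
  zero_mem' l := map_zero _
  add_mem' {u v} hu hv l := by rw [map_add, hu l, hv l, add_zero]
  smul_mem' k v hv l := by rw [map_smul, hv l, smul_zero]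

theorem mem_perp {c v : V} : v ∈ perp b c ↔ Perp b c v := Iff.rfl

section Amb

variable (A : Amb0 ρ b q w)
include A

theorem Amb0.comm (u v : V) : b u v = b v u := by
  have h := A.b_self (u + v)
  rw [map_add, map_add, LinearMap.add_apply, LinearMap.add_apply, A.b_self, A.b_self, zero_add,
    add_zero] at h
  exact (CharTwo.add_eq_zero.1 h).symm

theorem Amb0.b_inv (h : H) (u v : V) : b (ρ h u) (ρ h v) = b u v := by
  have h1 := A.q_add (ρ h u) (ρ h v)
  rw [← map_add, A.q_inv, A.q_inv, A.q_inv, A.q_add] at h1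
  exact (add_left_cancel h1).symm

/-- `(F c)^⊥` is `F4`-invariant -/
theorem Amb0.perp_smul {c v : V} (h : Perp b c v) (k : F4) : Perp b c (k • v) := by
  intro l
  by_cases hk : k = 0
  · rw [hk, zero_smul, map_zero]
  rcases A.adj with ha | ha
  · rw [← ha, smul_smul]
    exact h _
  · have e : l • c = k • ((k⁻¹ * l) • c) := by
      rw [smul_smul, mul_inv_cancel_left₀ hk]
    rw [e, ha k hk]
    exact h _

theorem Amb0.perp_symm {c v : V} (h : Perp b c v) : Perp b v c := by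
  intro l
  rw [A.comm]
  have := A.perp_smul h l 1
  rwa [one_smul] at this

theorem Amb0.smul_perp {c v : V} (h : Perp b c v) (k : F4) : Perp b (k • c) v := by
  intro l
  rw [smul_smul]
  exact h _

theorem Amb0.perp_of_smul {c v : V} {k : F4} (hk : k ≠ 0) (h : Perp b c (k • v)) : Perp b c v := by
  have := A.perp_smul h k⁻¹
  rwa [inv_smul_smul₀ hk] at this

omit A in
theorem perp_add {c u v : V} (h : Perp b c u) (h' : Perp b c v) : Perp b c (u + v) :=
  (perp b c).add_mem h h'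

/-- `Perp c v` from two values -/
theorem perp_of_two {c v : V} (h1 : b c v = 0) (h2 : b (F4.w • c) v = 0) : Perp b c v := by
  have _ := A
  intro l
  cases l
  · have : (F4.o : F4) • c = 0 := zero_smul F4 c
    rw [this, map_zero, LinearMap.zero_apply]
  · have : (F4.i : F4) • c = c := one_smul F4 c
    rw [this, h1]
  · exact h2
  · have : (F4.z : F4) • c = F4.w • c + c := by
      have e : (F4.z : F4) = F4.w + 1 := rfl
      rw [e, add_smul, one_smul]
    rw [this, map_add, LinearMap.add_apply, h1, h2, add_zero]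

end Amb

section Pt

variable {c : V} {D : Submodule (ZMod 2) V} {X : Subgroup H}

theorem Pt.mem (P : Pt ρ b q w c D X) : c ∈ D := by
  have := P.fmem 1
  rwa [one_smul] at this

theorem Pt.fixF (P : Pt ρ b q w c D X) {y : H} (hy : y ∈ X) (l : F4) : ρ y (l • c) = l • c := by
  rw [P.lin y hy, P.fix y hy]

theorem Pt.comm (P : Pt ρ b q w c D X) {x y : H} (hx : x ∈ X) (hy : y ∈ X) : x * y = y * x := by
  have h1 := P.sq _ (X.mul_mem hx hy)
  have hx' : x⁻¹ = x := inv_eq_of_mul_eq_one_left (P.sq x hx)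
  have hy' : y⁻¹ = y := inv_eq_of_mul_eq_one_left (P.sq y hy)
  have h2 : (x * y)⁻¹ = x * y := inv_eq_of_mul_eq_one_left h1
  rw [mul_inv_rev, hx', hy'] at h2
  exact h2.symm

/-- `l • c ∈ {0, c}` only for `l ∈ {0, 1}` -/
theorem Pt.smul_eq (P : Pt ρ b q w c D X) {l k : F4} (h : l • c = k • c) : l = k := by
  by_contra hne
  have h1 : (l - k) • c = 0 := by rw [sub_smul, h, sub_self]
  have h2 : l - k ≠ 0 := sub_ne_zero.2 hne
  rcases smul_eq_zero.1 h1 with h3 | h3
  · exact h2 h3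
  · exact P.ne h3

/-- **L1** `D ∩ l⁻¹ D = F c` -/
theorem Pt.inf (P : Pt ρ b q w c D X) {l : F4} (h0 : l ≠ 0) (h1 : l ≠ 1) {d : V} (hd : d ∈ D)
    (hl : l • d ∈ D) : ∃ k : F4, d = k • c := by
  apply P.cen
  intro y hy
  rcases P.onD y hy d hd with h | h
  · exact h
  · exfalso
    have h2 := P.lin y hy l d
    rw [h, smul_add] at h2
    rcases P.onD y hy _ hl with h3 | h3
    · rw [h3] at h2
      have h4 : l • c = (0 : F4) • c := by
        rw [zero_smul]
        exact (left_eq_add.1 h2)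
      exact h0 (P.smul_eq h4)
    · rw [h3] at h2
      have h4 : l • c = (1 : F4) • c := by
        rw [one_smul]
        exact (add_left_cancel h2).symm
      exact h1 (P.smul_eq h4)

/-- **L3** -/
theorem Pt.perpD (P : Pt ρ b q w c D X) {d : V} (hd : d ∈ D) : Perp b c d :=
  fun l => P.bD _ (P.fmem l) _ hd

theorem Pt.perp_self (P : Pt ρ b q w c D X) : Perp b c c := P.perpD P.mem

/-- **L4** `[(F c)^⊥, X] ≤ F c` -/
theorem Pt.delta (P : Pt ρ b q w c D X) (A : Amb0 ρ b q w) {v : V} (hv : Perp b c v) {y : H} (hy : y ∈ X) :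
    ∃ l : F4, ρ y v = v + l • c := by
  have h1 : ρ y v + v ∈ D := P.per y hy v (by have := hv 1; rwa [one_smul] at this)
  have h2 : ρ y (F4.w • v) + F4.w • v ∈ D :=
    P.per y hy _ (by have := A.perp_smul hv F4.w 1; rwa [one_smul] at this)
  rw [P.lin y hy, ← smul_add] at h2
  obtain ⟨k, hk⟩ := P.inf (l := F4.w) (by decide) (by decide) h1 h2
  exact ⟨k, by rw [add_eq_iff] at hk; rw [hk, add_comm]⟩

theorem Pt.inv_eq (P : Pt ρ b q w c D X) {y : H} (hy : y ∈ X) : y⁻¹ = y :=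
  inv_eq_of_mul_eq_one_left (P.sq y hy)

/-- `ρ y (ρ y v) = v` -/
theorem Pt.twice (P : Pt ρ b q w c D X) {y : H} (hy : y ∈ X) (v : V) : ρ y (ρ y v) = v := by
  rw [← ρ_mul, P.sq y hy, ρ_one]

/-- **L6** double annihilator -/
theorem Pt.double (P : Pt ρ b q w c D X) (A : Amb0 ρ b q w) {W : Submodule (ZMod 2) V}
    (hF : ∀ l : F4, l • c ∈ W) {d : V} (hd : d ∈ D)
    (h : ∀ y ∈ X, (∀ u ∈ W, u ∈ D → ρ y u = u) → ρ y d = d) : d ∈ W := by
  have _ := A.fin
  by_contra hdW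
  obtain ⟨φ, h1, h2⟩ := Submodule.exists_le_ker_of_notMem hdW
  obtain ⟨y, hy, h3⟩ := P.rich φ (fun l => h2 (hF l))
  have h4 : ρ y d = d := h y hy (fun u hu huD => by
    have : φ u = 0 := h2 hu
    rw [h3 u huD, this, zero_smul, add_zero])
  rw [h3 d hd] at h4
  have h5 : φ d • c = 0 := left_eq_add.1 h4.symm
  rcases z2 (φ d) with h6 | h6
  · exact h1 h6
  · rw [h6, one_smul] at h5
    exact P.ne h5

/-- an element of `X` moving `d ∈ D`, `d ∉ F c` -/
theorem Pt.exists_move (P : Pt ρ b q w c D X) {d : V} (hd : d ∈ D) (h : ∀ l : F4, d ≠ l • c) :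
    ∃ y ∈ X, ρ y d = d + c := by
  by_contra hcon
  push Not at hcon
  obtain ⟨l, hl⟩ := P.cen d (fun y hy => (P.onD y hy d hd).resolve_right (hcon y hy))
  exact h l hl

/-! ### dimensions -/

/-- the `F4`-line -/
def line (c : V) : Submodule (ZMod 2) V := Submodule.span (ZMod 2) {c, F4.w • c}

theorem mem_line {c v : V} : v ∈ line c ↔ ∃ l : F4, v = l • c := by
  rw [line, Submodule.mem_span_pair]
  constructor
  · rintro ⟨x, y, rfl⟩
    rcases z2 x with rfl | rfl <;> rcases z2 y with rfl | rfl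
    · exact ⟨0, by simp⟩
    · exact ⟨F4.w, by simp⟩
    · exact ⟨1, by simp⟩
    · exact ⟨F4.z, by
        have e : (F4.z : F4) = 1 + F4.w := rfl
        rw [e, add_smul]; simp⟩
  · rintro ⟨l, rfl⟩
    cases l
    · exact ⟨0, 0, by rw [zero_smul, zero_smul, add_zero]; exact (zero_smul F4 c).symm⟩
    · exact ⟨1, 0, by rw [zero_smul, one_smul, add_zero]; exact (one_smul F4 c).symm⟩
    · exact ⟨0, 1, by simp⟩
    · exact ⟨1, 1, by
        have e : (F4.z : F4) = 1 + F4.w := rfl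
        rw [e, add_smul]; simp⟩

theorem finrank_line_le (c : V) : finrank (ZMod 2) (line c) ≤ 2 := by
  classical
  have h := finrank_span_le_card (R := ZMod 2) ({c, F4.w • c} : Set V)
  refine h.trans ?_
  rw [Set.toFinset_insert, Set.toFinset_singleton]
  exact Finset.card_le_two

theorem finrank_line {c : V} (hc : c ≠ 0) : finrank (ZMod 2) (line c) = 2 := by
  have hli : LinearIndependent (ZMod 2) ![c, F4.w • c] := by
    rw [LinearIndependent.pair_iff]
    intro x y h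
    have hw : (F4.w • c) ≠ 0 := by
      intro h'
      rcases smul_eq_zero.1 h' with h1 | h1
      · exact absurd h1 (by decide)
      · exact hc h1
    rcases z2 x with rfl | rfl <;> rcases z2 y with rfl | rfl
    · exact ⟨rfl, rfl⟩
    · simp only [zero_smul, one_smul, zero_add] at h
      exact absurd h hw
    · simp only [zero_smul, one_smul, add_zero] at h
      exact absurd h hc
    · simp only [one_smul] at h
      have h2 : (F4.z : F4) • c = 0 := by
        have e : (F4.z : F4) = 1 + F4.w := rfl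
        rw [e, add_smul, one_smul, h]
      rcases smul_eq_zero.1 h2 with h1 | h1
      · exact absurd h1 (by decide)
      · exact absurd h1 hc
  have h := finrank_span_eq_card hli
  have e : Set.range ![c, F4.w • c] = {c, F4.w • c} := by
    rw [Matrix.range_cons, Matrix.range_cons, Matrix.range_empty, Set.union_empty]
    rfl
  rw [e] at h
  rw [line, h]; rfl

/-- `l • D` -/
def sD (l : F4) (D : Submodule (ZMod 2) V) : Submodule (ZMod 2) V := D.map (sm l)

theorem mem_sD {l : F4} {D : Submodule (ZMod 2) V} {v : V} : v ∈ sD l D ↔ ∃ d ∈ D, l • d = v := by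
  rw [sD, Submodule.mem_map]; rfl

theorem finrank_sD {l : F4} (hl : l ≠ 0) (D : Submodule (ZMod 2) V) :
    finrank (ZMod 2) (sD l D) = finrank (ZMod 2) D := by
  have hinj : Function.Injective (sm l : V →ₗ[ZMod 2] V) := by
    intro u v h
    have := congrArg (fun x => l⁻¹ • x) h
    simpa [inv_smul_smul₀ hl] using this
  exact (LinearEquiv.finrank_eq (Submodule.equivMapOfInjective _ hinj D)).symm

theorem Pt.inf_sD (P : Pt ρ b q w c D X) : D ⊓ sD F4.w D = line c := by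
  apply le_antisymm
  · rintro v ⟨h1, h2⟩
    obtain ⟨d, hd, rfl⟩ := mem_sD.1 h2
    obtain ⟨k, rfl⟩ := P.inf (l := F4.w) (by decide) (by decide) hd h1
    exact mem_line.2 ⟨F4.w * k, by rw [smul_smul]⟩
  · intro v hv
    obtain ⟨l, rfl⟩ := mem_line.1 hv
    refine ⟨P.fmem l, mem_sD.2 ⟨(F4.w⁻¹ * l) • c, P.fmem _, ?_⟩⟩
    rw [smul_smul, mul_inv_cancel_left₀ (by decide : F4.w ≠ 0)]

/-- the dimension of `(F c)^⊥` -/
theorem Amb0.finrank_perp (A : Amb0 ρ b q w) {c : V} (hc : c ≠ 0) :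
    finrank (ZMod 2) (perp b c) ≤ 2 * w - 2 := by
  have _ := A.fin
  have hr : b.IsRefl := by
    intro u v h
    rw [A.comm]; exact h
  have hn : b.Nondegenerate := by
    refine ⟨fun v h => A.nondeg v h, fun v h => A.nondeg v fun u => ?_⟩
    rw [A.comm]; exact h u
  have h1 : perp b c = b.orthogonal (line c) := by
    ext v
    rw [mem_perp, LinearMap.BilinForm.mem_orthogonal_iff]
    constructor
    · intro h u hu
      obtain ⟨l, rfl⟩ := mem_line.1 hu
      exact h l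
    · intro h l
      exact h _ (mem_line.2 ⟨l, rfl⟩)
  rw [h1, LinearMap.BilinForm.finrank_orthogonal hn, finrank_line hc, A.dim]

/-- **L5** `(F c)^⊥ = D + w D` -/
theorem Pt.decomp (P : Pt ρ b q w c D X) (A : Amb0 ρ b q w) {v : V} (hv : Perp b c v) :
    ∃ d ∈ D, ∃ d' ∈ D, v = d + F4.w • d' := by
  have _ := A.fin
  have h1 : D ⊔ sD F4.w D ≤ perp b c := by
    refine sup_le (fun d hd => P.perpD hd) ?_
    intro v hv
    obtain ⟨d, hd, rfl⟩ := mem_sD.1 hv
    exact A.perp_smul (P.perpD hd) _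
  have h2 := Submodule.finrank_sup_add_finrank_inf_eq D (sD F4.w D)
  rw [P.inf_sD, finrank_line P.ne, finrank_sD (by decide), P.dim] at h2
  have h3 := A.finrank_perp P.ne
  have h4 : D ⊔ sD F4.w D = perp b c :=
    Submodule.eq_of_le_of_finrank_le h1 (by omega)
  have h5 : v ∈ D ⊔ sD F4.w D := by rw [h4]; exact hv
  obtain ⟨d, hd, x, hx, rfl⟩ := Submodule.mem_sup.1 h5
  obtain ⟨d', hd', rfl⟩ := mem_sD.1 hx
  exact ⟨d, hd, d', hd', rfl⟩

end Pt

end Cfsg.Agent.Omega.EH3.ETwo.Base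

end

-- merged: Cfsg.Agent.Omega.EH3.ETwo.Type
section

/-!
# THEOREM E2, steps (2), (3)
-/

set_option autoImplicit false
set_option linter.unusedSectionVars false

namespace Cfsg.Agent.Omega.EH3.ETwo.Type

open Module Cfsg.Agent.Omega.EH3.ETwo.Base

variable {H V : Type*} [Group H] [AddCommGroup V] [Module (ZMod 2) V] [Module F4 V]
  {ρ : H →* (V ≃ₗ[ZMod 2] V)} {b : LinearMap.BilinForm (ZMod 2) V} {q : V → ZMod 2} {w : ℕ}
  {a e : V} {D E : Submodule (ZMod 2) V} {X Y : Subgroup H}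

/-- `D ∩ (F e)^⊥` has codimension at most 2 in `D` -/
theorem finrank_inf (A : Amb0 ρ b q w) (P : Pt ρ b q w a D X) (e : V) :
    w ≤ finrank (ZMod 2) ((D ⊓ perp b e : Submodule (ZMod 2) V)) + 2 := by
  have _ := A.fin
  have key : ∀ (U : Submodule (ZMod 2) V) (φ : V →ₗ[ZMod 2] ZMod 2),
      finrank (ZMod 2) U ≤ finrank (ZMod 2) (U ⊓ LinearMap.ker φ : Submodule (ZMod 2) V) + 1 := by
    intro U φ
    have h := LinearMap.finrank_range_add_finrank_ker (φ.domRestrict U)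
    have h1 : finrank (ZMod 2) (LinearMap.range (φ.domRestrict U)) ≤ 1 := by
      have := Submodule.finrank_le (LinearMap.range (φ.domRestrict U))
      rwa [finrank_self] at this
    have h2 : finrank (ZMod 2) (LinearMap.ker (φ.domRestrict U)) =
        finrank (ZMod 2) (U ⊓ LinearMap.ker φ : Submodule (ZMod 2) V) := by
      have e1 : (LinearMap.ker (φ.domRestrict U)).map U.subtype = U ⊓ LinearMap.ker φ := by
        ext v
        rw [Submodule.mem_map, Submodule.mem_inf, LinearMap.mem_ker]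
        constructor
        · rintro ⟨⟨x, hx⟩, h1, rfl⟩
          exact ⟨hx, h1⟩
        · rintro ⟨hx, h1⟩
          exact ⟨⟨v, hx⟩, h1, rfl⟩
      rw [← e1]
      exact (LinearEquiv.finrank_eq (Submodule.equivMapOfInjective _ U.injective_subtype _))
    omega
  have e1 : D ⊓ perp b e = D ⊓ LinearMap.ker (b e) ⊓ LinearMap.ker (b (F4.w • e)) := by
    ext v
    simp only [Submodule.mem_inf, LinearMap.mem_ker, mem_perp]
    constructor
    · rintro ⟨h1, h2⟩
      refine ⟨⟨h1, ?_⟩, h2 _⟩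
      have := h2 1
      rwa [one_smul] at this
    · rintro ⟨⟨h1, h2⟩, h3⟩
      exact ⟨h1, perp_of_two A h2 h3⟩
  have h1 := key D (b e)
  have h2 := key (D ⊓ LinearMap.ker (b e)) (b (F4.w • e))
  rw [← e1] at h2
  have := P.dim
  omega

/-- **(2)** every `e ∈ a^H`, `e ⊥ F a`, `e ∉ F a` lies in some `l⁻¹ D(a)` -/
theorem type_one (A : Amb ρ b q w) (P : Pt ρ b q w a D X) (Q : Pt ρ b q w e E Y)
    (hp : Perp b a e) (hne : ∀ l : F4, e ≠ l • a) : ∃ l : F4, l ≠ 0 ∧ l • e ∈ D := by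
  have _ := A.fin
  by_contra hcon
  push Not at hcon
  have hpe := A.perp_symm hp
  obtain ⟨d1, hd1, d2, hd2, ha⟩ := Q.decomp A hpe
  -- the elements of `Y` fixing `a`
  have hS : ∀ y ∈ Y, ρ y a = a → ∀ v ∈ D, Perp b e v → ρ y v = v := by
    intro y hy hya v hv hev
    obtain ⟨l, hl⟩ := Q.delta A hev hy
    have h1 := P.nD y (Q.lin y hy) hya v hv
    rw [hl] at h1
    have h2 : l • e ∈ D := by
      have := D.add_mem hv h1
      rwa [← add_assoc, self_add, zero_add] at this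
    by_cases h0 : l = 0
    · rw [hl, h0, zero_smul, add_zero]
    · exact absurd h2 (hcon l h0)
  set W : Submodule (ZMod 2) V := line e ⊔ Submodule.span (ZMod 2) {d1, d2} with hW
  have hWF : ∀ l : F4, l • e ∈ W := fun l => Submodule.mem_sup_left (mem_line.2 ⟨l, rfl⟩)
  have hW1 : d1 ∈ W := Submodule.mem_sup_right (Submodule.subset_span (by simp))
  have hW2 : d2 ∈ W := Submodule.mem_sup_right (Submodule.subset_span (by simp))
  set Z : Submodule (ZMod 2) V := W ⊔ sD F4.w W with hZ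
  set D1 : Submodule (ZMod 2) V := D ⊓ perp b e with hD1
  have h1 : D1 ≤ Z := by
    rintro v ⟨hv, hev⟩
    obtain ⟨d, hd, d', hd', hdec⟩ := Q.decomp A hev
    have key : ∀ y ∈ Y, (∀ u ∈ W, u ∈ E → ρ y u = u) → ρ y d = d ∧ ρ y d' = d' := by
      intro y hy hfix
      have hya : ρ y a = a := by
        rw [ha, map_add, Q.lin y hy, hfix d1 hW1 hd1, hfix d2 hW2 hd2]
      have h2 := hS y hy hya v hv hev
      rw [hdec, map_add, Q.lin y hy] at h2
      rcases Q.onD y hy d hd with h3 | h3 <;> rcases Q.onD y hy d' hd' with h4 | h4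
      · exact ⟨h3, h4⟩
      · exfalso
        rw [h3, h4, smul_add, add_right_inj] at h2
        have h5 : F4.w • e = (0 : F4) • e := by rw [zero_smul]; exact left_eq_add.1 h2.symm
        exact absurd (Q.smul_eq h5) (by decide)
      · exfalso
        rw [h3, h4, add_left_inj] at h2
        exact Q.ne (left_eq_add.1 h2.symm)
      · exfalso
        rw [h3, h4, smul_add] at h2
        have h6 : e + F4.w • e = 0 := by
          have h7 : d + F4.w • d' + (e + F4.w • e) = d + e + (F4.w • d' + F4.w • e) := by abel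
          rw [h2] at h7
          exact left_eq_add.1 h7.symm
        have h7 : (F4.z : F4) • e = (0 : F4) • e := by
          have e1 : (F4.z : F4) = 1 + F4.w := rfl
          rw [e1, add_smul, one_smul, zero_smul, h6]
        exact absurd (Q.smul_eq h7) (by decide)
    have hdW : d ∈ W := Q.double A hWF hd fun y hy hfix => (key y hy hfix).1
    have hdW' : d' ∈ W := Q.double A hWF hd' fun y hy hfix => (key y hy hfix).2
    rw [hdec]
    exact Submodule.add_mem_sup hdW (mem_sD.2 ⟨d', hdW', rfl⟩)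
  have h2 : sD F4.w D1 ≤ Z := by
    rintro _ hx0
    obtain ⟨v, hv, rfl⟩ := mem_sD.1 hx0
    obtain ⟨x, hx, y, hy, rfl⟩ := Submodule.mem_sup.1 (h1 hv)
    obtain ⟨z, hz, rfl⟩ := mem_sD.1 hy
    have e1 : F4.w • (x + F4.w • z) = z + F4.w • (x + z) := by
      rw [smul_add, smul_smul]
      have : (F4.w * F4.w : F4) = 1 + F4.w := rfl
      rw [this, add_smul, one_smul, smul_add]
      abel
    rw [e1]
    exact Submodule.add_mem_sup hz (mem_sD.2 ⟨_, W.add_mem hx hz, rfl⟩)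
  -- dimension of `Z`
  have hZ6 : finrank (ZMod 2) Z ≤ 6 := by
    classical
    have h3 : Z ≤ Submodule.span (ZMod 2)
        (({e, F4.w • e, d1, d2, F4.w • d1, F4.w • d2} : Finset V) : Set V) := by
      have hWs : ∀ l : F4, l = 1 ∨ l = F4.w → ∀ x ∈ W, l • x ∈ Submodule.span (ZMod 2)
          (({e, F4.w • e, d1, d2, F4.w • d1, F4.w • d2} : Finset V) : Set V) := by
        intro l hl x hx
        set T := Submodule.span (ZMod 2)
          (({e, F4.w • e, d1, d2, F4.w • d1, F4.w • d2} : Finset V) : Set V) with hT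
        have he1 : e ∈ T := Submodule.subset_span (by simp only [_root_.Finset.coe_insert, _root_.Finset.coe_singleton, _root_.Set.mem_insert_iff, _root_.Set.mem_singleton_iff, _root_.true_or])
        have he2 : F4.w • e ∈ T := Submodule.subset_span (by simp only [_root_.Finset.coe_insert, _root_.Finset.coe_singleton, _root_.Set.mem_insert_iff, _root_.ne_eq, _root_.reduceCtorEq, _root_.not_false_eq_true, _root_.smul_right_inj, _root_.Set.mem_singleton_iff, _root_.true_or, _root_.or_true])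
        have hd1T : d1 ∈ T := Submodule.subset_span (by simp only [_root_.Finset.coe_insert, _root_.Finset.coe_singleton, _root_.Set.mem_insert_iff, _root_.Set.mem_singleton_iff, _root_.true_or, _root_.or_true])
        have hd2T : d2 ∈ T := Submodule.subset_span (by simp only [_root_.Finset.coe_insert, _root_.Finset.coe_singleton, _root_.Set.mem_insert_iff, _root_.Set.mem_singleton_iff, _root_.true_or, _root_.or_true])
        have hd3T : F4.w • d1 ∈ T := Submodule.subset_span (by simp only [_root_.Finset.coe_insert, _root_.Finset.coe_singleton, _root_.Set.mem_insert_iff, _root_.ne_eq, _root_.reduceCtorEq, _root_.not_false_eq_true, _root_.smul_right_inj, _root_.Set.mem_singleton_iff, _root_.true_or, _root_.or_true])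
        have hd4T : F4.w • d2 ∈ T := Submodule.subset_span (by simp only [_root_.Finset.coe_insert, _root_.Finset.coe_singleton, _root_.Set.mem_insert_iff, _root_.ne_eq, _root_.reduceCtorEq, _root_.not_false_eq_true, _root_.smul_right_inj, _root_.Set.mem_singleton_iff, _root_.or_true])
        have hlT : W ≤ T.comap (sm l) := by
          refine sup_le ?_ ?_
          · rw [line, Submodule.span_le]
            intro x hx
            simp only [Set.mem_insert_iff, Set.mem_singleton_iff] at hx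
            rcases hx with hx | hx
            · rw [hx]
              rcases hl with rfl | rfl
              · change (1 : F4) • e ∈ T
                rw [one_smul]; exact he1
              · exact he2
            · rw [hx]
              rcases hl with rfl | rfl
              · change (1 : F4) • (F4.w • e) ∈ T
                rw [one_smul]; exact he2
              · change F4.w • (F4.w • e) ∈ T
                rw [smul_smul]
                have : (F4.w * F4.w : F4) = 1 + F4.w := rfl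
                rw [this, add_smul, one_smul]
                exact T.add_mem he1 he2
          · rw [Submodule.span_le]
            intro x hx
            simp only [Set.mem_insert_iff, Set.mem_singleton_iff] at hx
            rcases hx with hx | hx
            · rw [hx]
              rcases hl with rfl | rfl
              · change (1 : F4) • d1 ∈ T
                rw [one_smul]; exact hd1T
              · exact hd3T
            · rw [hx]
              rcases hl with rfl | rfl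
              · change (1 : F4) • d2 ∈ T
                rw [one_smul]; exact hd2T
              · exact hd4T
        exact hlT hx
      refine sup_le (fun x hx => ?_) ?_
      · have := hWs 1 (Or.inl rfl) x hx
        rwa [one_smul] at this
      · intro x hx
        obtain ⟨z, hz, rfl⟩ := mem_sD.1 hx
        exact hWs _ (Or.inr rfl) z hz
    refine (Submodule.finrank_mono h3).trans ((finrank_span_finset_le_card _).trans ?_)
    exact Finset.card_le_six
  have h3 := Submodule.finrank_sup_add_finrank_inf_eq D1 (sD F4.w D1)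
  have h4 : D1 ⊓ sD F4.w D1 ≤ line a := by
    rw [← P.inf_sD]
    exact inf_le_inf inf_le_left (Submodule.map_mono inf_le_left)
  have h5 := Submodule.finrank_mono h4
  have h6 := finrank_line_le a
  rw [finrank_sD (by decide)] at h3
  have h7 := Submodule.finrank_mono (sup_le h1 h2)
  have h8 := finrank_inf A P e
  have h9 := A.seven
  rw [← hD1] at h8
  omega

/-- the commutator computation of (3) -/
theorem beta_mem (A : Amb0 ρ b q w) (P : Pt ρ b q w a D X) (Q : Pt ρ b q w e E Y)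
    (hp : Perp b a e) {l : F4} (hl0 : l ≠ 0) (hl : l • e ∈ D) (hne : ∀ l : F4, e ≠ l • a)
    {s : H} (hs : s ∈ Y) (hsa : ρ s a = a) {v : V} (hv : v ∈ D) (hev : Perp b e v) :
    ∃ k : F4, ρ s v = v + k • e ∧ (k * l⁻¹ = 0 ∨ k * l⁻¹ = 1) := by
  have _ := hp
  have hne' : ∀ k : F4, l • e ≠ k • a := by
    intro k h
    apply hne (l⁻¹ * k)
    rw [mul_smul, ← h, inv_smul_smul₀ hl0]
  obtain ⟨y, hy, hye⟩ := P.exists_move hl hne'
  obtain ⟨k, hk⟩ := Q.delta A hev hs
  refine ⟨k, hk, ?_⟩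
  have hye' : ρ y e = e + l⁻¹ • a := by
    have h1 := P.lin y hy l⁻¹ (l • e)
    rw [inv_smul_smul₀ hl0, hye, smul_add, inv_smul_smul₀ hl0] at h1
    exact h1
  have ht := P.nX s (Q.lin s hs) hsa y hy
  -- `v + δ_y v`
  have hv' : v ∈ D := hv
  obtain ⟨c1, hc1⟩ : ∃ c1 : F4, ρ y v = v + c1 • a := by
    rcases P.onD y hy v hv with h | h
    · exact ⟨0, by rw [h, zero_smul, add_zero]⟩
    · exact ⟨1, by rw [h, one_smul]⟩
  have hs1 : ρ s⁻¹ v = v + k • e := by rw [Q.inv_eq hs, hk]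
  have hs2 : ρ s e = e := Q.fix s hs
  have h1 : ρ (s * y * s⁻¹ * y⁻¹) v = v + (k * l⁻¹) • a := by
    have hyi : y⁻¹ = y := P.inv_eq hy
    have hsa' : ρ s⁻¹ a = a := by rw [Q.inv_eq hs, hsa]
    have e0 : ρ (s * y * s⁻¹ * y⁻¹) v = ρ s (ρ y (ρ s⁻¹ (ρ y⁻¹ v))) := by
      rw [ρ_mul, ρ_mul, ρ_mul]
    rw [e0, hyi, hc1, map_add (ρ s⁻¹), hs1, (Q.lin s hs).inv, hsa', map_add (ρ y), map_add (ρ y), hc1,
      P.lin y hy k, hye', P.fixF hy, map_add (ρ s), map_add (ρ s), map_add (ρ s), hk, Q.lin s hs,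
      hsa, Q.lin s hs, map_add (ρ s), hs2, Q.lin s hs, hsa, smul_add, smul_smul]
    have h2 := self_add (k • e)
    have h3 := self_add (c1 • a)
    calc v + k • e + c1 • a + (k • e + (k * l⁻¹) • a) + c1 • a
        = v + (k * l⁻¹) • a + (k • e + k • e) + (c1 • a + c1 • a) := by abel
      _ = _ := by rw [h2, h3, add_zero, add_zero]
  have hmem : s * y * s⁻¹ * y⁻¹ ∈ X := X.mul_mem ht (X.inv_mem hy)
  rcases P.onD _ hmem v hv with h2 | h2
  · left
    rw [h1] at h2
    have h3 : (k * l⁻¹) • a = (0 : F4) • a := by rw [zero_smul]; exact left_eq_add.1 h2.symm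
    exact P.smul_eq h3
  · right
    rw [h1] at h2
    have h3 : (k * l⁻¹) • a = (1 : F4) • a := by rw [one_smul]; exact add_left_cancel h2
    exact P.smul_eq h3

/-- one half of (3): `l⁻¹ v ∈ E + F a` for `v ∈ D`, `v ⊥ F e` -/
theorem half (A : Amb0 ρ b q w) (P : Pt ρ b q w a D X) (Q : Pt ρ b q w e E Y)
    (hp : Perp b a e) {l : F4} (hl0 : l ≠ 0) (hl : l • e ∈ D) (hne : ∀ l : F4, e ≠ l • a)
    {k : F4} (hk0 : k ≠ 0) (hk : k • a ∈ E) {v : V} (hv : v ∈ D) (hev : Perp b e v) :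
    ∃ d ∈ E, ∃ t : F4, l⁻¹ • v = d + t • a := by
  obtain ⟨d, hd, d', hd', hdec⟩ := Q.decomp A (A.perp_smul hev l⁻¹)
  set W : Submodule (ZMod 2) V := line e ⊔ Submodule.span (ZMod 2) {k • a} with hW
  have hWF : ∀ l : F4, l • e ∈ W := fun l => Submodule.mem_sup_left (mem_line.2 ⟨l, rfl⟩)
  have hWa : k • a ∈ W := Submodule.mem_sup_right (Submodule.subset_span rfl)
  have hdW : d' ∈ W := by
    refine Q.double A hWF hd' fun s hs hfix => ?_
    have hsa : ρ s a = a := by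
      have h1 := hfix _ hWa hk
      rw [Q.lin s hs] at h1
      have h2 := congrArg (fun x => k⁻¹ • x) h1
      simpa [inv_smul_smul₀ hk0] using h2
    obtain ⟨t, ht, ht'⟩ := beta_mem A P Q hp hl0 hl hne hs hsa hv hev
    have h3 : ρ s (l⁻¹ • v) = l⁻¹ • v + (t * l⁻¹) • e := by
      rw [Q.lin s hs, ht, smul_add, smul_smul, mul_comm]
    rw [hdec, map_add, Q.lin s hs] at h3
    rcases Q.onD s hs d' hd' with h5 | h5
    · exact h5
    exfalso
    have h6 : ∃ c : F4, (c = 0 ∨ c = 1) ∧ F4.w • e = c • e := by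
      rcases Q.onD s hs d hd with h4 | h4
      · refine ⟨t * l⁻¹, ht', ?_⟩
        rw [h4, h5, smul_add, ← add_assoc] at h3
        exact add_left_cancel h3
      · refine ⟨t * l⁻¹ + 1, ?_, ?_⟩
        · rcases ht' with h | h
          · right; rw [h]; rfl
          · left; rw [h]; rfl
        · rw [h4, h5, smul_add] at h3
          rw [add_smul, one_smul]
          have h7 : d + F4.w • d' + (e + F4.w • e) = d + F4.w • d' + (t * l⁻¹) • e := by
            rw [← h3]; abel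
          have h8 := add_left_cancel h7
          rw [← h8, add_comm e, add_self_add]
    obtain ⟨c, hc, hce⟩ := h6
    have := Q.smul_eq hce
    rcases hc with rfl | rfl
    · exact absurd this (by decide)
    · exact absurd this (by decide)
  obtain ⟨x, hx, y, hy, hxy⟩ := Submodule.mem_sup.1 hdW
  obtain ⟨c, rfl⟩ := mem_line.1 hx
  obtain ⟨t, rfl⟩ := Submodule.mem_span_singleton.1 hy
  refine ⟨d + F4.w • (c • e), ?_, F4.w * ((if t = 0 then 0 else 1) * k), ?_⟩
  · refine E.add_mem hd ?_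
    rw [smul_smul]; exact Q.fmem _
  · rw [hdec, ← hxy, smul_add, ← add_assoc]
    congr 1
    rcases z2 t with rfl | rfl
    · simp
    · simp only [smul_smul, _root_.one_smul, _root_.smul_smul, _root_.one_ne_zero, ↓ _root_.reduceIte, _root_.one_mul]

/-- **(3)** `ν(a, e) ν(e, a) = 1` -/
theorem inv_type (A : Amb ρ b q w) (P : Pt ρ b q w a D X) (Q : Pt ρ b q w e E Y)
    (hp : Perp b a e) (hne : ∀ l : F4, e ≠ l • a) {l k : F4} (hl0 : l ≠ 0) (hl : l • e ∈ D)
    (hk0 : k ≠ 0) (hk : k • a ∈ E) : l * k = 1 := by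
  have _ := A.fin
  have hpe := A.perp_symm hp
  have hne' : ∀ t : F4, a ≠ t • e := by
    intro t h
    by_cases ht : t = 0
    · rw [ht, zero_smul] at h; exact P.ne h
    · apply hne t⁻¹
      rw [h, inv_smul_smul₀ ht]
  by_contra hcon
  set κ : F4 := k⁻¹ * l⁻¹ with hκ
  have hκ0 : κ ≠ 0 := mul_ne_zero (inv_ne_zero hk0) (inv_ne_zero hl0)
  have hκ1 : κ ≠ 1 := by
    intro h
    apply hcon
    have : (l * k)⁻¹ = 1 := by rw [mul_inv_rev, ← hκ, h]
    rw [← inv_inv (l * k), this, inv_one]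
  have key : D ⊓ perp b e ≤ line a ⊔ Submodule.span (ZMod 2) {l • e} := by
    rintro v ⟨hv, hev⟩
    obtain ⟨d, hd, t, h1⟩ := half A P Q hp hl0 hl hne hk0 hk hv hev
    have hpd : Perp b a d := by
      have h2 : d = l⁻¹ • v + t • a := by rw [h1, add_self_add]
      rw [h2]
      exact perp_add (A.perp_smul (P.perpD hv) _) (A.perp_smul P.perp_self _)
    obtain ⟨d3, hd3, t', h3⟩ := half A Q P hpe hk0 hk hne' hl0 hl hd hpd
    -- `κ v = d₄ + γ (l e)`
    have h4 : κ • v = (d3 + (k⁻¹ * t) • a) + (t' * l⁻¹) • (l • e) := by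
      rw [hκ, mul_smul, h1, smul_add, h3, smul_smul, smul_smul, mul_assoc, inv_mul_cancel₀ hl0, mul_one]
      abel
    have hdec : ∀ κ γ : F4, κ ≠ 0 → κ ≠ 1 → ∃ g0 g1 : ZMod 2, γ = (if g0 = 0 then 0 else 1) +
        κ * (if g1 = 0 then 0 else 1) := by decide
    obtain ⟨g0, g1, hg⟩ := hdec κ (t' * l⁻¹) hκ0 hκ1
    have h5 : κ • (v + (if g1 = 0 then (0 : F4) else 1) • (l • e)) =
        (d3 + (k⁻¹ * t) • a) + (if g0 = 0 then (0 : F4) else 1) • (l • e) := by
      rw [smul_add, h4, hg, add_smul, smul_smul κ]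
      have := self_add ((κ * (if g1 = 0 then (0 : F4) else 1)) • (l • e))
      calc _ = (d3 + (k⁻¹ * t) • a) + (if g0 = 0 then (0 : F4) else 1) • (l • e) +
          ((κ * (if g1 = 0 then (0 : F4) else 1)) • (l • e) +
            (κ * (if g1 = 0 then (0 : F4) else 1)) • (l • e)) := by abel
        _ = _ := by rw [this, add_zero]
    have hif : ∀ g : ZMod 2, (if g = 0 then (0 : F4) else 1) • (l • e) ∈ D := by
      intro g
      rcases z2 g with rfl | rfl
      · simp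
      · simpa only [_root_.one_ne_zero, ↓ _root_.reduceIte, _root_.one_smul] using hl
    have h6 : v + (if g1 = 0 then (0 : F4) else 1) • (l • e) ∈ D := D.add_mem hv (hif g1)
    have h7 : κ • (v + (if g1 = 0 then (0 : F4) else 1) • (l • e)) ∈ D := by
      rw [h5]
      exact D.add_mem (D.add_mem hd3 (P.fmem _)) (hif g0)
    obtain ⟨c, hc⟩ := P.inf hκ0 hκ1 h6 h7
    have h8 : v = c • a + g1 • (l • e) := by
      rw [← hc]
      rcases z2 g1 with rfl | rfl
      · simp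
      · simp only [add_self_add, _root_.one_ne_zero, ↓ _root_.reduceIte, _root_.one_smul, _root_.Cfsg.Agent.Omega.EH3.ETwo.add_self_add]
    rw [h8]
    exact Submodule.add_mem_sup (mem_line.2 ⟨c, rfl⟩) (Submodule.smul_mem _ _ (Submodule.subset_span rfl))
  have h1 := Submodule.finrank_mono key
  have h2 := Submodule.finrank_sup_add_finrank_inf_eq (line a) (Submodule.span (ZMod 2) {l • e})
  have h3 := finrank_line_le a
  have h4 : finrank (ZMod 2) (Submodule.span (ZMod 2) {l • e}) ≤ 1 := by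
    classical
    have := finrank_span_finset_le_card (R := ZMod 2) ({l • e} : Finset V)
    rw [Finset.card_singleton] at this
    rwa [Finset.coe_singleton] at this
  have h5 := finrank_inf A P e
  have h6 := A.seven
  omega

end Cfsg.Agent.Omega.EH3.ETwo.Type

end

-- merged: Cfsg.Agent.Omega.EH3.ETwo.Map
section

/-!
# THEOREM E2: transport of `Pt` by elements of `H`
-/

set_option autoImplicit false
set_option linter.unusedSectionVars false

namespace Cfsg.Agent.Omega.EH3.ETwo.Map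

open Module Cfsg.Agent.Omega.EH3.ETwo.Base

variable {H V : Type*} [Group H] [AddCommGroup V] [Module (ZMod 2) V] [Module F4 V]
  {ρ : H →* (V ≃ₗ[ZMod 2] V)} {b : LinearMap.BilinForm (ZMod 2) V} {q : V → ZMod 2} {w : ℕ}
  {c : V} {D : Submodule (ZMod 2) V} {X : Subgroup H}

theorem exists_t {h : H} (hh : Lin ρ h ∨ Sem ρ h) :
    ∃ t : F4 → F4, (∀ l (v : V), ρ h (l • v) = t l • ρ h v) ∧ (∀ l (v : V), l • ρ h v = ρ h (t l • v)) := by
  rcases hh with h1 | h1
  · exact ⟨id, h1, fun l v => (h1 l v).symm⟩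
  · refine ⟨fun l => l ^ 2, h1, fun l v => ?_⟩
    rw [h1]
    have : ∀ l : F4, (l ^ 2) ^ 2 = l := by decide
    rw [this]

/-- conjugates of linear elements are linear -/
theorem lin_conj {h y : H} (hh : Lin ρ h ∨ Sem ρ h) (hy : Lin ρ y) : Lin ρ (h * y * h⁻¹) := by
  obtain ⟨t, h1, h2⟩ := exists_t hh
  intro l v
  have e : ∀ v, ρ (h * y * h⁻¹) v = ρ h (ρ y (ρ h⁻¹ v)) := fun v => by rw [ρ_mul, ρ_mul]
  rw [e, e]
  have h3 : ρ h⁻¹ (l • v) = t l • ρ h⁻¹ v := by
    apply (ρ h).injective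
    rw [ρ_inv', ← h2, ρ_inv']
  rw [h3, hy, ← h2]

theorem map (A : Amb0 ρ b q w) (P : Pt ρ b q w c D X) (h : H) (hh : Lin ρ h ∨ Sem ρ h) :
    Pt ρ b q w (ρ h c) (D.map (ρ h : V →ₗ[ZMod 2] V)) (X.map (MulAut.conj h).toMonoidHom) := by
  obtain ⟨t, h1, h2⟩ := exists_t hh
  have hconj : ∀ y v, ρ (h * y * h⁻¹) (ρ h v) = ρ h (ρ y v) := fun y v => by
    rw [← ρ_mul, ← ρ_mul]; congr 2; group
  have hmem : ∀ d : V, ρ h d ∈ D.map (ρ h : V →ₗ[ZMod 2] V) ↔ d ∈ D := fun d => by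
    rw [Submodule.mem_map]
    constructor
    · rintro ⟨x, hx, e⟩
      rwa [← (ρ h).injective e]
    · intro hd; exact ⟨d, hd, rfl⟩
  refine ⟨?_, ?_, ?_, ?_, ?_, ?_, ?_, ?_, ?_, ?_, ?_, ?_, ?_, ?_, ?_⟩
  · intro h3
    exact P.ne ((ρ h).map_eq_zero_iff.1 h3)
  · intro l
    rw [h2, hmem]
    exact P.fmem _
  · rintro _ ⟨d, hd, rfl⟩
    exact (A.q_inv h d).trans (P.qD d hd)
  · rintro _ ⟨d, hd, rfl⟩ _ ⟨d', hd', rfl⟩
    exact (A.b_inv h d d').trans (P.bD d hd d' hd')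
  · rintro _ ⟨y, hy, rfl⟩
    exact lin_conj hh (P.lin y hy)
  · rintro _ ⟨y, hy, rfl⟩
    change h * y * h⁻¹ * (h * y * h⁻¹) = 1
    have : h * y * h⁻¹ * (h * y * h⁻¹) = h * (y * y) * h⁻¹ := by group
    rw [this, P.sq y hy, mul_one, mul_inv_cancel]
  · rintro _ ⟨y, hy, rfl⟩
    change ρ (h * y * h⁻¹) (ρ h c) = ρ h c
    rw [hconj, P.fix y hy]
  · rintro _ ⟨y, hy, rfl⟩ _ ⟨d, hd, rfl⟩
    change ρ (h * y * h⁻¹) (ρ h d) = ρ h d ∨ ρ (h * y * h⁻¹) (ρ h d) = ρ h d + ρ h c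
    rw [hconj]
    rcases P.onD y hy d hd with h3 | h3
    · left; rw [h3]
    · right; rw [h3, map_add]
  · intro φ hφ
    obtain ⟨y, hy, h3⟩ := P.rich (φ ∘ₗ (ρ h : V →ₗ[ZMod 2] V)) (fun l => by
      change φ (ρ h (l • c)) = 0
      rw [h1]; exact hφ _)
    refine ⟨_, ⟨y, hy, rfl⟩, ?_⟩
    rintro _ ⟨d, hd, rfl⟩
    change ρ (h * y * h⁻¹) (ρ h d) = ρ h d + φ (ρ h d) • ρ h c
    rw [hconj, h3 d hd, map_add, map_smul]
    rfl
  · rintro _ ⟨y, hy, rfl⟩ v hv
    change ρ (h * y * h⁻¹) v + v ∈ _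
    have e : v = ρ h (ρ h⁻¹ v) := (ρ_inv' h v).symm
    have h3 : b c (ρ h⁻¹ v) = 0 := by
      rw [← A.b_inv h, ρ_inv']; exact hv
    rw [e, hconj, ← map_add, hmem]
    exact P.per y hy _ h3
  · rintro _ ⟨y, hy, rfl⟩ v hv h3
    change h * y * h⁻¹ = 1
    change ρ (h * y * h⁻¹) v + v ∈ _ at h3
    have e : v = ρ h (ρ h⁻¹ v) := (ρ_inv' h v).symm
    have h4 : b c (ρ h⁻¹ v) = 1 := by
      rw [← A.b_inv h, ρ_inv']; exact hv
    rw [e, hconj, ← map_add, hmem] at h3
    rw [P.semi y hy _ h4 h3, mul_one, mul_inv_cancel]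
  · intro g hg hgc
    rintro _ ⟨d, hd, rfl⟩
    have hg' : Lin ρ (h⁻¹ * g * h) := by
      have h5 : Lin ρ h⁻¹ ∨ Sem ρ h⁻¹ := by
        rcases hh with h6 | h6
        · exact Or.inl h6.inv
        · right
          intro l v
          apply (ρ h).injective
          have e2 : ∀ l : F4, (l ^ 2) ^ 2 = l := by decide
          rw [ρ_inv', h6, e2, ρ_inv']
      have := lin_conj h5 hg
      rwa [inv_inv] at this
    have h3 : ρ (h⁻¹ * g * h) c = c := by
      rw [ρ_mul, ρ_mul, hgc, ρ_inv]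
    have h4 := P.nD _ hg' h3 d hd
    change ρ g (ρ h d) ∈ _
    have e : ρ g (ρ h d) = ρ h (ρ (h⁻¹ * g * h) d) := by
      rw [← ρ_mul, ← ρ_mul]; congr 2; group
    rw [e, hmem]
    exact h4
  · intro g hg hgc
    rintro _ ⟨y, hy, rfl⟩
    have hg' : Lin ρ (h⁻¹ * g * h) := by
      have h5 : Lin ρ h⁻¹ ∨ Sem ρ h⁻¹ := by
        rcases hh with h6 | h6
        · exact Or.inl h6.inv
        · right
          intro l v
          apply (ρ h).injective
          have e2 : ∀ l : F4, (l ^ 2) ^ 2 = l := by decide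
          rw [ρ_inv', h6, e2, ρ_inv']
      have := lin_conj h5 hg
      rwa [inv_inv] at this
    have h3 : ρ (h⁻¹ * g * h) c = c := by
      rw [ρ_mul, ρ_mul, hgc, ρ_inv]
    have h4 := P.nX _ hg' h3 y hy
    refine ⟨_, h4, ?_⟩
    change h * (h⁻¹ * g * h * y * (h⁻¹ * g * h)⁻¹) * h⁻¹ = g * (h * y * h⁻¹) * g⁻¹
    group
  · intro v hv
    have h3 : ∀ y ∈ X, ρ y (ρ h⁻¹ v) = ρ h⁻¹ v := by
      intro y hy
      have h4 := hv _ ⟨y, hy, rfl⟩
      change ρ (h * y * h⁻¹) v = v at h4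
      apply (ρ h).injective
      rw [ρ_inv', ← hconj, ρ_inv']
      exact h4
    obtain ⟨l, hl⟩ := P.cen _ h3
    refine ⟨t l, ?_⟩
    rw [← h1, ← hl, ρ_inv']
  · rw [← P.dim]
    exact LinearEquiv.finrank_eq (Submodule.equivMapOfInjective _ (ρ h).injective D).symm

end Cfsg.Agent.Omega.EH3.ETwo.Map

end

-- merged: Cfsg.Agent.Omega.EH3.ETwo.Opp
section

/-!
# THEOREM E2, step (4): opposite points
-/

set_option autoImplicit false
set_option linter.unusedSectionVars false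

namespace Cfsg.Agent.Omega.EH3.ETwo.Opp

open Module Cfsg.Agent.Omega.EH3.ETwo.Base Cfsg.Agent.Omega.EH3.ETwo.Type
  Cfsg.Agent.Omega.EH3.ETwo.Map

variable {H V : Type*} [Group H] [AddCommGroup V] [Module (ZMod 2) V] [Module F4 V]
  {ρ : H →* (V ≃ₗ[ZMod 2] V)} {b : LinearMap.BilinForm (ZMod 2) V} {q : V → ZMod 2} {w : ℕ}
  {a c : V} {D E : Submodule (ZMod 2) V} {X Y : Subgroup H} {m : F4}

/-- two opposite points -/
structure Op (ρ : H →* (V ≃ₗ[ZMod 2] V)) (b : LinearMap.BilinForm (ZMod 2) V) (q : V → ZMod 2) (w : ℕ)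
    (a c : V) (D E : Submodule (ZMod 2) V) (X Y : Subgroup H) (m : F4) : Prop where
  A : Amb ρ b q w
  P : Pt ρ b q w a D X
  Q : Pt ρ b q w c E Y
  one : b a c = 1
  m0 : m ≠ 0
  m1 : m ≠ 1
  hm : b a (m • c) = 0

theorem add_one_smul (v : V) : F4.z • v = v + F4.w • v := by
  have e : (F4.z : F4) = 1 + F4.w := rfl
  rw [e, add_smul, one_smul]

theorem exists_m (h : b a c = 1) : ∃ m : F4, m ≠ 0 ∧ m ≠ 1 ∧ b a (m • c) = 0 := by
  have h1 : b a (F4.z • c) = b a c + b a (F4.w • c) := by rw [add_one_smul, map_add]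
  rcases z2 (b a (F4.w • c)) with h2 | h2
  · exact ⟨F4.w, by decide, by decide, h2⟩
  · refine ⟨F4.z, by decide, by decide, ?_⟩
    rw [h1, h, h2]; rfl

/-- the coefficient in `{0, 1}` -/
def cf (k : ZMod 2) : F4 := if k = 0 then 0 else 1

theorem cf_smul (k : ZMod 2) (v : V) : cf k • v = k • v := by
  rcases z2 k with rfl | rfl
  · simp [cf]
  · simp only [cf, _root_.Cfsg.Agent.Omega.EH3.ETwo.Opp.cf, _root_.one_ne_zero, ↓ _root_.reduceIte, _root_.one_smul]

theorem cf_add (k l : ZMod 2) : cf (k + l) = cf k + cf l := by revert k l; decide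

namespace Op

variable (O : Op ρ b q w a c D E X Y m)
include O

theorem perp_ac {k : F4} (h : Perp b a (k • c)) : k = 0 := by
  by_contra hk
  have h1 := O.A.perp_of_smul hk h 1
  rw [one_smul, O.one] at h1
  exact one_ne_zero h1

theorem perp_ca {k : F4} (h : Perp b c (k • a)) : k = 0 := by
  by_contra hk
  have h1 := O.A.perp_of_smul hk h 1
  rw [one_smul, O.A.comm, O.one] at h1
  exact one_ne_zero h1

/-- projection along `F a` -/
theorem proj (v : V) : ∃ l : F4, Perp b c (v + l • a) := by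
  let f : F4 → ZMod 2 × ZMod 2 := fun l => (b c (l • a), b (F4.w • c) (l • a))
  have hf : Function.Injective f := by
    intro l k h
    have h1 : b c (l • a) = b c (k • a) := congrArg Prod.fst h
    have h2 : b (F4.w • c) (l • a) = b (F4.w • c) (k • a) := congrArg Prod.snd h
    have h3 : Perp b c ((l - k) • a) := by
      refine perp_of_two O.A.toAmb0 ?_ ?_
      · rw [sub_smul, map_sub, h1, sub_self]
      · rw [sub_smul, map_sub, h2, sub_self]
    exact sub_eq_zero.1 (O.perp_ca h3)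
  have hs : Function.Surjective f :=
    ((Fintype.bijective_iff_injective_and_card f).2 ⟨hf, by decide⟩).2
  obtain ⟨l, hl⟩ := hs (b c v, b (F4.w • c) v)
  have h1 : b c (l • a) = b c v := congrArg Prod.fst hl
  have h2 : b (F4.w • c) (l • a) = b (F4.w • c) v := congrArg Prod.snd hl
  refine ⟨l, perp_of_two O.A.toAmb0 ?_ ?_⟩
  · rw [map_add, h1, CharTwo.add_self_eq_zero]
  · rw [map_add, h2, CharTwo.add_self_eq_zero]

omit O in
/-- `δ_y c` -/
def dl (ρ : H →* (V ≃ₗ[ZMod 2] V)) (c : V) (y : H) : V := ρ y c + c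

theorem dl_mem {y : H} (hy : y ∈ X) : m • dl ρ c y ∈ D := by
  have := O.P.per y hy (m • c) O.hm
  rwa [O.P.lin y hy, ← smul_add] at this

theorem ρ_c (y : H) : ρ y c = c + dl ρ c y := by
  rw [dl, add_comm, add_self_add]

/-- the splitting `m δ_y c = u + κ a` -/
theorem split {y : H} (hy : y ∈ X) : ∃ k : ZMod 2, Perp b c (m • dl ρ c y + cf k • a) := by
  obtain ⟨l, hl⟩ := O.proj (m • dl ρ c y)
  have hd := O.dl_mem hy
  -- `b (m c) (m δ) = 0`
  have h1 : b (m • c) (m • dl ρ c y) = 0 := by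
    have h2 := O.A.q_inv y (m • c)
    have h3 : ρ y (m • c) = m • c + m • dl ρ c y := by
      rw [O.P.lin y hy, O.ρ_c y, smul_add]
    rw [h3, O.A.q_add, O.P.qD _ hd, add_zero] at h2
    exact left_eq_add.1 h2.symm
  have h2 : b (m • c) (l • a) = 0 := by
    have := hl m
    rwa [map_add, h1, zero_add] at this
  have h3 : b (m • c) a = 0 := by rw [O.A.comm]; exact O.hm
  by_cases h4 : l = 0
  · exact ⟨0, by rw [h4] at hl; exact hl⟩
  by_cases h5 : l = 1
  · exact ⟨1, by rw [h5] at hl; exact hl⟩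
  exfalso
  have hex : ∀ l : F4, l ≠ 0 → l ≠ 1 → F4.w = l ∨ F4.w = l + 1 := by decide
  have h6 : b (m • c) (F4.w • a) = 0 := by
    rcases hex l h4 h5 with h | h
    · rw [h]; exact h2
    · rw [h, add_smul, one_smul, map_add, h2, h3, add_zero]
  have h7 : Perp b a (m • c) := by
    refine perp_of_two O.A.toAmb0 O.hm ?_
    rw [O.A.comm]; exact h6
  exact O.m0 (O.perp_ac h7)

omit O in
/-- `κ(y)` -/
noncomputable def kap (b : LinearMap.BilinForm (ZMod 2) V) (ρ : H →* (V ≃ₗ[ZMod 2] V)) (a c : V) (m : F4) (y : H) :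
    ZMod 2 := by
  classical
  exact if Perp b c (m • dl ρ c y) then 0 else 1

theorem kap_spec {y : H} (hy : y ∈ X) : Perp b c (m • dl ρ c y + cf (kap b ρ a c m y) • a) := by
  classical
  obtain ⟨k, hk⟩ := O.split hy
  have h : kap b ρ a c m y = k := by
    rw [kap]
    split_ifs with h1
    · rcases z2 k with rfl | rfl
      · rfl
      · exfalso
        have h2 := perp_add h1 hk
        rw [self_add_add] at h2
        exact absurd (O.perp_ca h2) (by decide)
    · rcases z2 k with rfl | rfl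
      · exfalso
        apply h1
        have : cf 0 • a = 0 := by rw [cf_smul, zero_smul]
        rwa [this, add_zero] at hk
      · rfl
  rw [h]
  exact hk

theorem kap_unique {y : H} (hy : y ∈ X) {k : ZMod 2} (h : Perp b c (m • dl ρ c y + cf k • a)) :
    kap b ρ a c m y = k := by
  have h1 := perp_add h (O.kap_spec hy)
  have h2 : m • dl ρ c y + cf k • a + (m • dl ρ c y + cf (kap b ρ a c m y) • a) =
      (cf k + cf (kap b ρ a c m y)) • a := by
    rw [add_smul]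
    have := self_add (m • dl ρ c y)
    calc _ = (m • dl ρ c y + m • dl ρ c y) + (cf k • a + cf (kap b ρ a c m y) • a) := by abel
      _ = _ := by rw [this, zero_add]
  rw [h2] at h1
  have h3 := O.perp_ca h1
  have h4 : ∀ k l : ZMod 2, cf k + cf l = 0 → l = k := by decide
  exact h4 _ _ h3

omit O in
/-- `β(y, z)` : `ρ y (m δ_z) = m δ_z + β a` -/
noncomputable def bet (ρ : H →* (V ≃ₗ[ZMod 2] V)) (c : V) (m : F4) (y z : H) : ZMod 2 := by
  classical
  exact if ρ y (m • dl ρ c z) = m • dl ρ c z then 0 else 1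

theorem bet_spec {y z : H} (hy : y ∈ X) (hz : z ∈ X) :
    ρ y (m • dl ρ c z) = m • dl ρ c z + bet ρ c m y z • a := by
  classical
  rw [bet]
  split_ifs with h
  · rw [h, zero_smul, add_zero]
  · rw [one_smul]
    exact (O.P.onD y hy _ (O.dl_mem hz)).resolve_left h

theorem a_cancel {v : V} {k l : ZMod 2} (h : v + k • a = v + l • a) : k = l := by
  have h1 := add_left_cancel h
  rcases z2 k with rfl | rfl <;> rcases z2 l with rfl | rfl
  · rfl
  · rw [zero_smul, one_smul] at h1; exact absurd h1.symm O.P.ne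
  · rw [zero_smul, one_smul] at h1; exact absurd h1 O.P.ne
  · rfl

/-- `m δ_{yz} = m δ_y + m δ_z + β a` -/
theorem dl_mul {y z : H} (hy : y ∈ X) (hz : z ∈ X) :
    m • dl ρ c (y * z) = m • dl ρ c y + m • dl ρ c z + bet ρ c m y z • a := by
  have h1 : m • ρ (y * z) c = m • c + m • dl ρ c y + (m • dl ρ c z + bet ρ c m y z • a) := by
    rw [← O.bet_spec hy hz, ← smul_add, ← O.ρ_c y, O.P.lin y hy, ← smul_add, ρ_mul, O.ρ_c z, map_add]
  rw [dl, smul_add, h1]
  have := self_add (m • c)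
  calc _ = (m • c + m • c) + (m • dl ρ c y + m • dl ρ c z + bet ρ c m y z • a) := by abel
    _ = _ := by rw [this, zero_add]

theorem bet_symm {y z : H} (hy : y ∈ X) (hz : z ∈ X) : bet ρ c m y z = bet ρ c m z y := by
  have h1 := O.dl_mul hy hz
  have h2 := O.dl_mul hz hy
  rw [O.P.comm hy hz, h2, add_comm (m • dl ρ c z)] at h1
  exact (O.a_cancel h1).symm

theorem bet_mul {y z z' : H} (hy : y ∈ X) (hz : z ∈ X) (hz' : z' ∈ X) :
    bet ρ c m y (z * z') = bet ρ c m y z + bet ρ c m y z' := by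
  have h1 := O.bet_spec hy (X.mul_mem hz hz')
  have hfa : ∀ k : ZMod 2, ρ y (k • a) = k • a := fun k => by rw [map_smul, O.P.fix y hy]
  rw [O.dl_mul hz hz', map_add, map_add, O.bet_spec hy hz, O.bet_spec hy hz', hfa] at h1
  have h2 : m • dl ρ c z + m • dl ρ c z' + bet ρ c m z z' • a + (bet ρ c m y z + bet ρ c m y z') • a =
      m • dl ρ c z + m • dl ρ c z' + bet ρ c m z z' • a + bet ρ c m y (z * z') • a := by
    rw [← h1, add_smul]; abel
  exact (O.a_cancel h2).symm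

theorem kap_mul {y z : H} (hy : y ∈ X) (hz : z ∈ X) :
    kap b ρ a c m (y * z) = kap b ρ a c m y + kap b ρ a c m z + bet ρ c m y z := by
  apply O.kap_unique (X.mul_mem hy hz)
  have h1 := perp_add (O.kap_spec hy) (O.kap_spec hz)
  rw [O.dl_mul hy hz, cf_add, cf_add, add_smul, add_smul]
  have e : bet ρ c m y z • a = cf (bet ρ c m y z) • a := (cf_smul _ _).symm
  rw [e]
  have h2 := self_add (cf (bet ρ c m y z) • a)
  have h3 : m • dl ρ c y + m • dl ρ c z + cf (bet ρ c m y z) • a +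
      (cf (kap b ρ a c m y) • a + cf (kap b ρ a c m z) • a + cf (bet ρ c m y z) • a) =
      m • dl ρ c y + cf (kap b ρ a c m y) • a + (m • dl ρ c z + cf (kap b ρ a c m z) • a) := by
    calc _ = m • dl ρ c y + cf (kap b ρ a c m y) • a + (m • dl ρ c z + cf (kap b ρ a c m z) • a) +
          (cf (bet ρ c m y z) • a + cf (bet ρ c m y z) • a) := by abel
      _ = _ := by rw [h2, add_zero]
  rw [h3]
  exact h1

/-- `m δ_z ∈ F a` only for `z = 1` -/
theorem dl_line {z : H} (hz : z ∈ X) {l : F4} (h : m • dl ρ c z = l • a) : z = 1 := by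
  apply O.P.semi z hz c O.one
  have h1 : dl ρ c z = (m⁻¹ * l) • a := by
    rw [mul_smul, ← h, inv_smul_smul₀ O.m0]
  change dl ρ c z ∈ D
  rw [h1]
  exact O.P.fmem _

theorem bet_rich {φ : V →ₗ[ZMod 2] ZMod 2} (hφ : ∀ l : F4, φ (l • a) = 0) :
    ∃ y ∈ X, (∀ d ∈ D, ρ y d = d + φ d • a) ∧ ∀ z ∈ X, bet ρ c m y z = φ (m • dl ρ c z) := by
  obtain ⟨y, hy, h⟩ := O.P.rich φ hφ
  refine ⟨y, hy, h, fun z hz => ?_⟩
  have h1 := O.bet_spec hy hz
  rw [h _ (O.dl_mem hz)] at h1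
  exact (O.a_cancel h1).symm

/-- **(4d)** `κ(y) = 0` implies `δ_y c ∈ D(c)` -/
theorem good_mem {y : H} (hy : y ∈ X) (hk : kap b ρ a c m y = 0) : dl ρ c y ∈ E := by
  have h0 := O.kap_spec hy
  rw [hk] at h0
  have h1 : Perp b c (m • dl ρ c y) := by
    have : cf 0 • a = 0 := by rw [cf_smul, zero_smul]
    rwa [this, add_zero] at h0
  have h2 : Perp b c (dl ρ c y) := O.A.perp_of_smul O.m0 h1
  have h3 : Perp b c (ρ y c) := by
    rw [O.ρ_c y]
    exact perp_add O.Q.perp_self h2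
  by_cases hne : ∀ l : F4, ρ y c ≠ l • c
  · have Q' := Map.map O.A O.Q y (Or.inl (O.P.lin y hy))
    obtain ⟨l, hl0, hl⟩ := type_one O.A O.Q Q' h3 hne
    have h4 : l • c ∈ E.map (ρ y : V →ₗ[ZMod 2] V) := by
      refine ⟨_, hl, ?_⟩
      change ρ y (l • ρ y c) = l • c
      rw [O.P.lin y hy, O.P.twice hy]
    have h5 := inv_type O.A O.Q Q' h3 hne hl0 hl hl0 h4
    have h6 : ∀ l : F4, l * l = 1 → l = 1 := by decide
    rw [h6 l h5, one_smul] at hl
    exact E.add_mem hl O.Q.mem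
  · push Not at hne
    obtain ⟨l, hl⟩ := hne
    have h4 : dl ρ c y = (l + 1) • c := by rw [dl, hl, add_smul, one_smul]
    have h5 := O.dl_mem hy
    rw [h4, smul_smul] at h5
    have h6 := O.perp_ac (O.P.perpD h5)
    have h7 : l + 1 = 0 := (mul_eq_zero.1 h6).resolve_left O.m0
    rw [h4, h7, zero_smul]
    exact E.zero_mem

/-- **(4e)** -/
theorem exists_gen {y : H} (hy : y ∈ X) (hk : kap b ρ a c m y = 1) :
    ∃ z ∈ X, kap b ρ a c m z = 0 ∧ bet ρ c m y z = 1 := by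
  have _ := O.A.fin
  by_contra hcon
  push Not at hcon
  have hcon' : ∀ z ∈ X, bet ρ c m y z = 1 → kap b ρ a c m z = 1 := by
    intro z hz h
    rcases z2 (kap b ρ a c m z) with h1 | h1
    · exact absurd h (hcon z hz h1)
    · exact h1
  set W0 : Submodule (ZMod 2) V := line a ⊔ Submodule.span (ZMod 2) {m • dl ρ c y} with hW0
  have hW0F : ∀ l : F4, l • a ∈ W0 := fun l => Submodule.mem_sup_left (mem_line.2 ⟨l, rfl⟩)
  have hW0y : m • dl ρ c y ∈ W0 := Submodule.mem_sup_right (Submodule.subset_span rfl)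
  have hsp : ∀ v : V, finrank (ZMod 2) (Submodule.span (ZMod 2) {v}) ≤ 1 := by
    intro v
    classical
    have := finrank_span_finset_le_card (R := ZMod 2) ({v} : Finset V)
    rw [Finset.card_singleton] at this
    rwa [Finset.coe_singleton] at this
  have hsup : ∀ U W : Submodule (ZMod 2) V,
      finrank (ZMod 2) (U ⊔ W : Submodule (ZMod 2) V) ≤ finrank (ZMod 2) U + finrank (ZMod 2) W := by
    intro U W
    have := Submodule.finrank_sup_add_finrank_inf_eq U W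
    omega
  have hW0r : finrank (ZMod 2) W0 ≤ 3 := by
    have h1 := hsup (line a) (Submodule.span (ZMod 2) {m • dl ρ c y})
    have h2 := finrank_line_le a
    have h3 := hsp (m • dl ρ c y)
    rw [hW0]
    omega
  have hex : ∀ U : Submodule (ZMod 2) V, finrank (ZMod 2) U ≤ 6 → ∃ d ∈ D, d ∉ U := by
    intro U hU
    by_contra hc
    push Not at hc
    have h1 := Submodule.finrank_mono (show D ≤ U from hc)
    have h2 := O.P.dim
    have h3 := O.A.seven
    omega
  -- `m δ_y ∉ F a`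
  have hy1 : ∀ l : F4, m • dl ρ c y ≠ l • a := by
    intro l h
    have := O.dl_line hy h
    rw [this] at hk
    have h2 : kap b ρ a c m (1 : H) = 0 := by
      apply O.kap_unique X.one_mem
      have h3 : dl ρ c (1 : H) = 0 := by rw [dl, ρ_one, self_add]
      rw [h3, smul_zero, zero_add, cf_smul, zero_smul]
      exact (perp b c).zero_mem
    rw [h2] at hk
    exact zero_ne_one hk
  -- `z'` with `β(y, z') = 1`
  obtain ⟨z', hz', hyz'⟩ : ∃ z' ∈ X, bet ρ c m y z' = 1 := by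
    have h1 : m • dl ρ c y ∉ line a := fun h => by
      obtain ⟨l, hl⟩ := mem_line.1 h
      exact hy1 l hl
    obtain ⟨φ, h2, h3⟩ := Submodule.exists_le_ker_of_notMem h1
    obtain ⟨z', hz', -, h4⟩ := O.bet_rich (φ := φ) (fun l => h3 (mem_line.2 ⟨l, rfl⟩))
    refine ⟨z', hz', ?_⟩
    rw [O.bet_symm hy hz', h4 y hy]
    exact (z2 _).resolve_left h2
  -- on `y^⊥`: `κ(t) = β(z', t)`
  have h1 : ∀ t ∈ X, bet ρ c m y t = 0 → kap b ρ a c m t = bet ρ c m z' t := by
    intro t ht h0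
    have h2 := hcon' (z' * t) (X.mul_mem hz' ht) (by rw [O.bet_mul hy hz' ht, hyz', h0, add_zero])
    rw [O.kap_mul hz' ht, hcon' z' hz' hyz', add_assoc] at h2
    have h3 : kap b ρ a c m t + bet ρ c m z' t = 0 := left_eq_add.1 h2.symm
    exact CharTwo.add_eq_zero.1 h3
  have h2 : ∀ t ∈ X, ∀ t' ∈ X, bet ρ c m y t = 0 → bet ρ c m y t' = 0 → bet ρ c m t t' = 0 := by
    intro t ht t' ht' h3 h4
    have h5 := h1 (t * t') (X.mul_mem ht ht') (by rw [O.bet_mul hy ht ht', h3, h4, add_zero])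
    rw [O.kap_mul ht ht', O.bet_mul hz' ht ht', h1 t ht h3, h1 t' ht' h4] at h5
    exact left_eq_add.1 h5.symm
  -- `t ∈ y^⊥`, `t ≠ 1, y`
  obtain ⟨d0, hd0, hd0'⟩ := hex W0 (by omega)
  obtain ⟨d1, hd1, hd1'⟩ := hex (W0 ⊔ Submodule.span (ZMod 2) {d0}) (by
    have := hsup W0 (Submodule.span (ZMod 2) {d0})
    have := hsp d0
    omega)
  have hd01 : d0 ∉ W0 ⊔ Submodule.span (ZMod 2) {d1} := by
    intro h
    obtain ⟨x, hx, z, hz, hxz⟩ := Submodule.mem_sup.1 h
    obtain ⟨k, rfl⟩ := Submodule.mem_span_singleton.1 hz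
    rcases z2 k with rfl | rfl
    · rw [zero_smul, add_zero] at hxz
      exact hd0' (hxz ▸ hx)
    · rw [one_smul] at hxz
      apply hd1'
      have : d1 = x + d0 := by rw [← hxz, self_add_add]
      rw [this]
      exact Submodule.add_mem_sup hx (Submodule.subset_span rfl)
  obtain ⟨t, ht, ht0, ht1, hty⟩ : ∃ t ∈ X, bet ρ c m y t = 0 ∧ t ≠ 1 ∧ t ≠ y := by
    obtain ⟨φ1, h3, h4⟩ := Submodule.exists_le_ker_of_notMem hd1'
    obtain ⟨φ2, h5, h6⟩ := Submodule.exists_le_ker_of_notMem hd01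
    obtain ⟨t1, ht1, ht1D, ht1b⟩ := O.bet_rich (φ := φ1) (fun l => h4 (Submodule.mem_sup_left (hW0F l)))
    obtain ⟨t2, ht2, ht2D, ht2b⟩ := O.bet_rich (φ := φ2) (fun l => h6 (Submodule.mem_sup_left (hW0F l)))
    have h1y : bet ρ c m y t1 = 0 := by
      rw [O.bet_symm hy ht1, ht1b y hy]; exact h4 (Submodule.mem_sup_left hW0y)
    have h2y : bet ρ c m y t2 = 0 := by
      rw [O.bet_symm hy ht2, ht2b y hy]; exact h6 (Submodule.mem_sup_left hW0y)
    have h7 : φ1 d1 = 1 := (z2 _).resolve_left h3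
    have h8 : φ2 d0 = 1 := (z2 _).resolve_left h5
    have h9 : φ1 d0 = 0 := h4 (Submodule.mem_sup_right (Submodule.subset_span rfl))
    by_cases h10 : t1 = y
    · refine ⟨t2, ht2, h2y, ?_, ?_⟩
      · rintro rfl
        have := ht2D d0 hd0
        rw [ρ_one, h8, one_smul] at this
        exact O.P.ne (left_eq_add.1 this)
      · intro h11
        have h12 := ht2D d0 hd0
        have h13 := ht1D d0 hd0
        rw [h11, h8, one_smul] at h12
        rw [h10, h9, zero_smul, add_zero, h12] at h13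
        exact O.P.ne (left_eq_add.1 h13.symm)
    · refine ⟨t1, ht1, h1y, ?_, h10⟩
      rintro rfl
      have := ht1D d1 hd1
      rw [ρ_one, h7, one_smul] at this
      exact O.P.ne (left_eq_add.1 this)
  -- `m δ_t ∉ W0`
  have htW : m • dl ρ c t ∉ W0 := by
    intro h
    obtain ⟨x, hx, z, hz, hxz⟩ := Submodule.mem_sup.1 h
    obtain ⟨k, rfl⟩ := Submodule.mem_span_singleton.1 hz
    obtain ⟨l, rfl⟩ := mem_line.1 hx
    rcases z2 k with rfl | rfl
    · rw [zero_smul, add_zero] at hxz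
      exact ht1 (O.dl_line ht hxz.symm)
    · rw [one_smul] at hxz
      have h3 := O.dl_mul ht hy
      rw [← hxz, add_self_add, ← cf_smul, ← add_smul] at h3
      have h4 := O.dl_line (X.mul_mem ht hy) h3
      apply hty
      have h5 := O.P.sq y hy
      calc t = t * (y * y) := by rw [h5, mul_one]
        _ = t * y * y := by rw [mul_assoc]
        _ = y := by rw [h4, one_mul]
  obtain ⟨φ, h3, h4⟩ := Submodule.exists_le_ker_of_notMem htW
  obtain ⟨t', ht', -, ht'b⟩ := O.bet_rich (φ := φ) (fun l => h4 (hW0F l))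
  have h5 : bet ρ c m y t' = 0 := by
    rw [O.bet_symm hy ht', ht'b y hy]; exact h4 hW0y
  have h6 := h2 t ht t' ht' ht0 h5
  rw [O.bet_symm ht ht', ht'b t ht] at h6
  exact h3 h6

/-- **(4e)** `δ_y c ∈ D(c) + {0, m⁻¹ a}` -/
theorem mem_E {y : H} (hy : y ∈ X) : ∃ k : ZMod 2, dl ρ c y + (cf k * m⁻¹) • a ∈ E := by
  rcases z2 (kap b ρ a c m y) with h | h
  · refine ⟨0, ?_⟩
    have : cf 0 = 0 := rfl
    rw [this, zero_mul, zero_smul, add_zero]
    exact O.good_mem hy h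
  · obtain ⟨z, hz, h1, h2⟩ := O.exists_gen hy h
    refine ⟨1, ?_⟩
    have h3 : kap b ρ a c m (y * z) = 0 := by
      rw [O.kap_mul hy hz, h, h1, h2]; rfl
    have h4 := O.good_mem (X.mul_mem hy hz) h3
    have h5 := O.good_mem hz h1
    have h6 := O.dl_mul hy hz
    rw [h2, one_smul] at h6
    have h7 : dl ρ c (y * z) = dl ρ c y + dl ρ c z + m⁻¹ • a := by
      have := congrArg (fun x => m⁻¹ • x) h6
      simp only [smul_add, inv_smul_smul₀ O.m0] at this
      exact this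
    have h8 := E.add_mem h4 h5
    have h9 : dl ρ c (y * z) + dl ρ c z = dl ρ c y + (cf 1 * m⁻¹) • a := by
      have e : cf 1 = 1 := rfl
      rw [h7, e, one_mul]
      have := self_add (dl ρ c z)
      calc _ = dl ρ c y + m⁻¹ • a + (dl ρ c z + dl ρ c z) := by abel
        _ = _ := by rw [this, add_zero]
    rwa [h9] at h8

/-- **(4f)** surjectivity -/
theorem surj {u : V} (hu : u ∈ D) (hp : Perp b c u) :
    ∃ y ∈ X, m • dl ρ c y = u + kap b ρ a c m y • a := by
  have _ := O.A.fin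
  let I : Submodule (ZMod 2) V :=
    { carrier := {d | ∃ y ∈ X, ∃ l : F4, d = m • dl ρ c y + l • a}
      zero_mem' := ⟨1, X.one_mem, 0, by rw [dl, ρ_one, self_add, smul_zero, zero_smul, add_zero]⟩
      add_mem' := by
        rintro _ _ ⟨y, hy, l, rfl⟩ ⟨z, hz, k, rfl⟩
        refine ⟨y * z, X.mul_mem hy hz, cf (bet ρ c m y z) + l + k, ?_⟩
        rw [O.dl_mul hy hz, add_smul, add_smul, cf_smul]
        have := self_add (bet ρ c m y z • a)
        calc _ = m • dl ρ c y + m • dl ρ c z + (l • a + k • a) := by abel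
          _ = m • dl ρ c y + m • dl ρ c z + (l • a + k • a) + (bet ρ c m y z • a + bet ρ c m y z • a) := by
            rw [this, add_zero]
          _ = _ := by abel
      smul_mem' := by
        rintro k _ ⟨y, hy, l, rfl⟩
        rcases z2 k with rfl | rfl
        · rw [zero_smul]
          exact ⟨1, X.one_mem, 0, by rw [dl, ρ_one, self_add, smul_zero, zero_smul, add_zero]⟩
        · rw [one_smul]; exact ⟨y, hy, l, rfl⟩ }
  have hI : u ∈ I := by
    by_contra hc
    obtain ⟨φ, h1, h2⟩ := Submodule.exists_le_ker_of_notMem hc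
    have hIa : ∀ l : F4, l • a ∈ I := fun l =>
      ⟨1, X.one_mem, l, by rw [dl, ρ_one, self_add, smul_zero, zero_add]⟩
    obtain ⟨z, hz, h3, h4⟩ := O.bet_rich (φ := φ) (fun l => h2 (hIa l))
    have h5 : ∀ y ∈ X, ρ y (m • dl ρ c z) = m • dl ρ c z := by
      intro y hy
      rw [O.bet_spec hy hz, O.bet_symm hy hz, h4 y hy]
      have : φ (m • dl ρ c y) = 0 := h2 ⟨y, hy, 0, by rw [zero_smul, add_zero]⟩
      rw [this, zero_smul, add_zero]
    obtain ⟨l, hl⟩ := O.P.cen _ h5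
    have h6 := O.dl_line hz hl
    rw [h6] at h3
    have h7 := h3 u hu
    rw [ρ_one, (z2 _).resolve_left h1, one_smul] at h7
    exact O.P.ne (left_eq_add.1 h7)
  obtain ⟨y, hy, l, h⟩ := hI
  refine ⟨y, hy, ?_⟩
  have h1 : m • dl ρ c y = u + l • a := by rw [h, add_self_add]
  have h2 := O.kap_spec hy
  rw [h1, add_assoc, ← add_smul] at h2
  have h3 := perp_add hp h2
  rw [self_add_add] at h3
  have h4 := O.perp_ca h3
  have h5 : l = cf (kap b ρ a c m y) := by
    have h6 : ∀ l k : F4, l + k = 0 → l = k := by decide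
    exact h6 _ _ h4
  rw [h1, h5, cf_smul]

/-- **(4g)** `m⁻¹ u ∈ D(c)` for `u ∈ U_a = D(a) ∩ (F c)^⊥` -/
theorem inv_mem {u : V} (hu : u ∈ D) (hp : Perp b c u) : m⁻¹ • u ∈ E := by
  obtain ⟨y, hy, h⟩ := O.surj hu hp
  obtain ⟨k, hk⟩ := O.mem_E hy
  have h1 : dl ρ c y = m⁻¹ • u + (cf (kap b ρ a c m y) * m⁻¹) • a := by
    have := congrArg (fun x => m⁻¹ • x) h
    simp only [smul_add, inv_smul_smul₀ O.m0] at this
    rw [this, ← cf_smul, smul_smul, mul_comm]
  rw [h1, add_assoc, ← add_smul] at hk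
  have h2 := O.Q.perpD hk
  have h3 := perp_add (O.A.perp_smul hp m⁻¹) h2
  rw [self_add_add] at h3
  have h4 := O.perp_ca h3
  rw [h4, zero_smul, add_zero] at hk
  exact hk

/-- the number `m'` of the opposite pair `(c, a)` -/
theorem symm_B (hB : ∀ (l : F4) (u v : V), b (l • u) v = b u (l • v)) : Op ρ b q w c a E D Y X m where
  A := O.A
  P := O.Q
  Q := O.P
  one := by rw [O.A.comm]; exact O.one
  m0 := O.m0
  m1 := O.m1
  hm := by rw [← hB, O.A.comm]; exact O.hm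

theorem symm_U (hU : ∀ (l : F4), l ≠ 0 → ∀ (u v : V), b (l • u) (l • v) = b u v) :
    Op ρ b q w c a E D Y X m⁻¹ where
  A := O.A
  P := O.Q
  Q := O.P
  one := by rw [O.A.comm]; exact O.one
  m0 := inv_ne_zero O.m0
  m1 := by
    intro h
    apply O.m1
    rw [← inv_inv m, h, inv_one]
  hm := by
    rw [← hU m O.m0, smul_smul, mul_inv_cancel₀ O.m0, one_smul, O.A.comm]
    exact O.hm

/-- `D(a) ∩ (F c)^⊥ ≠ 0` -/
theorem exists_U : ∃ u ∈ D, Perp b c u ∧ u ≠ 0 := by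
  have _ := O.A.fin
  by_contra hc
  push Not at hc
  have h1 : D ⊓ perp b c = ⊥ := by
    rw [eq_bot_iff]
    rintro u ⟨hu, hp⟩
    exact hc u hu hp
  have h2 := finrank_inf O.A O.P c
  rw [h1, finrank_bot] at h2
  have := O.A.seven
  omega

/-- the bilinear case is impossible -/
theorem not_B (hB : ∀ (l : F4) (u v : V), b (l • u) v = b u (l • v)) : False := by
  obtain ⟨u, hu, hp, hu0⟩ := O.exists_U
  have h1 := O.inv_mem hu hp
  have hpa : Perp b a (m⁻¹ • u) := O.A.perp_smul (O.P.perpD hu) _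
  have h2 := (O.symm_B hB).inv_mem h1 hpa
  rw [smul_smul] at h2
  have hm2 : ∀ m : F4, m ≠ 0 → m ≠ 1 → m⁻¹ * m⁻¹ ≠ 0 ∧ m⁻¹ * m⁻¹ ≠ 1 := by decide
  obtain ⟨h3, h4⟩ := hm2 m O.m0 O.m1
  obtain ⟨k, hk⟩ := O.P.inf h3 h4 hu h2
  rw [hk] at hp
  have := O.perp_ca hp
  rw [this, zero_smul] at hk
  exact hu0 hk

/-- `b` is hermitian -/
theorem isU : ∀ (l : F4), l ≠ 0 → ∀ (u v : V), b (l • u) (l • v) = b u v :=
  O.A.adj.resolve_left fun h => O.not_B h

theorem symm : Op ρ b q w c a E D Y X m⁻¹ := O.symm_U O.isU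

end Op

end Cfsg.Agent.Omega.EH3.ETwo.Opp

end

-- merged: Cfsg.Agent.Omega.EH3.ETwo.Inst
section

/-!
# THEOREM E2, step (7): the input side (helper924)

From helper888's `Cfg ρ b q a D X w`, `7 ≤ w`, and `om ∈ End(V)`, `om² + om + 1 = 0`, normalised by `H`, self-adjoint or
isometric for `b`, not centralised by `X`: `Amb ρ b q w`, `Pt ρ b q w a D X0` (`X0 = C_X(om)`), the points `a^h`, and an
opposite pair `Op`.
-/

set_option autoImplicit false
set_option linter.unusedSectionVars false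
set_option linter.style.haveILetI false

namespace Cfsg.Agent.Omega.EH3.ETwo.Inst

open Module Cfsg.Agent.Omega.EH3.ETwo.Base Cfsg.Agent.Omega.EH3.ETwo.Map
  Cfsg.Agent.Omega.EH3.ETwo.Opp

variable {H V : Type*} [Group H] [AddCommGroup V] [Module (ZMod 2) V]
  {ρ : H →* (V ≃ₗ[ZMod 2] V)} {b : LinearMap.BilinForm (ZMod 2) V} {q : V → ZMod 2}
  {a : V} {D : Submodule (ZMod 2) V} {X : Subgroup H} {w : ℕ} {om : V →ₗ[ZMod 2] V}

/-- the hypotheses on `om` -/
structure Om (ρ : H →* (V ≃ₗ[ZMod 2] V)) (b : LinearMap.BilinForm (ZMod 2) V) (X : Subgroup H)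
    (om : V →ₗ[ZMod 2] V) : Prop where
  hom : ∀ v, om (om v) = om v + v
  norm : ∀ h, (∀ v, ρ h (om v) = om (ρ h v)) ∨ (∀ v, ρ h (om v) = om (om (ρ h v)))
  form : (∀ u v, b (om u) v = b u (om v)) ∨ (∀ u v, b (om u) (om v) = b u v)
  ne : ∃ x ∈ X, ¬ ∀ v, ρ x (om v) = om (ρ x v)

theorem rm (g h : H) (v : V) : ρ (g * h) v = ρ g (ρ h v) := by rw [map_mul]; rfl

theorem r1 (v : V) : ρ 1 v = v := by rw [map_one]; rfl

theorem ri (g : H) (v : V) : ρ g (ρ g⁻¹ v) = v := by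
  rw [← rm, mul_inv_cancel, r1]

theorem om3 (hom : ∀ v, om (om v) = om v + v) (v : V) : om (om (om v)) = v := by
  rw [hom, hom, add_right_comm, self_add, zero_add]

/-- `X_0 = C_X(om)` -/
def Xo (ρ : H →* (V ≃ₗ[ZMod 2] V)) (X : Subgroup H) (om : V →ₗ[ZMod 2] V) : Subgroup H where
  carrier := {x | x ∈ X ∧ ∀ v, ρ x (om v) = om (ρ x v)}
  one_mem' := ⟨X.one_mem, fun v => by rw [r1, r1]⟩
  mul_mem' := by
    rintro g h ⟨hg, hg'⟩ ⟨hh, hh'⟩
    exact ⟨X.mul_mem hg hh, fun v => by rw [rm, hh', hg', rm]⟩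
  inv_mem' := by
    rintro g ⟨hg, hg'⟩
    refine ⟨X.inv_mem hg, fun v => ?_⟩
    apply (ρ g).injective
    rw [hg', ri, ri]

section act

variable (hom : ∀ v, om (om v) = om v + v)

theorem o_smul (v : V) : letI := modOf om hom; (F4.o : F4) • v = 0 := rfl
theorem i_smul (v : V) : letI := modOf om hom; (F4.i : F4) • v = v := rfl
theorem w_smul (v : V) : letI := modOf om hom; (F4.w : F4) • v = om v := rfl
theorem z_smul (v : V) : letI := modOf om hom; (F4.z : F4) • v = om v + v := rfl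

theorem lin_of {h : H} (h1 : ∀ v, ρ h (om v) = om (ρ h v)) :
    letI := modOf om hom; Lin ρ h := by
  letI := modOf om hom
  intro l v
  cases l
  · rw [o_smul, o_smul, map_zero]
  · rw [i_smul, i_smul]
  · rw [w_smul, w_smul, h1]
  · rw [z_smul, z_smul, map_add, h1]

theorem of_lin {h : H} (h1 : letI := modOf om hom; Lin ρ h) : ∀ v, ρ h (om v) = om (ρ h v) := by
  letI := modOf om hom
  intro v
  exact h1 F4.w v

theorem sem_of {h : H} (h1 : ∀ v, ρ h (om v) = om (om (ρ h v))) :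
    letI := modOf om hom; Sem ρ h := by
  letI := modOf om hom
  intro l v
  cases l
  · rw [show (F4.o : F4) ^ 2 = F4.o by decide, o_smul, o_smul, map_zero]
  · rw [show (F4.i : F4) ^ 2 = F4.i by decide, i_smul, i_smul]
  · rw [show (F4.w : F4) ^ 2 = F4.z by decide, w_smul, z_smul, h1, hom]
  · rw [show (F4.z : F4) ^ 2 = F4.w by decide, z_smul, w_smul, map_add, h1, hom, add_self_add]

end act

namespace Om

variable (O : Om ρ b X om)
include O

theorem lin_or (h : H) : letI := modOf om O.hom; Lin ρ h ∨ Sem ρ h := by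
  rcases O.norm h with h1 | h1
  · exact Or.inl (lin_of O.hom h1)
  · exact Or.inr (sem_of O.hom h1)

/-- the ambient data -/
theorem amb0 (C : Cfg ρ b q a D X w) : letI := modOf om O.hom; Amb0 ρ b q w := by
  letI := modOf om O.hom
  have := C.finite_V
  refine ⟨C.finite_V, ?_, C.b_self, C.nondeg, C.q_add, C.q_inv, ?_⟩
  · have : Module.Finite (ZMod 2) V := Module.Finite.of_finite
    have h1 := Module.natCard_eq_pow_finrank (K := ZMod 2) (V := V)
    rw [C.card_V, Nat.card_zmod] at h1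
    exact (Nat.pow_right_injective (le_refl 2) h1).symm
  · rcases O.form with h1 | h1
    · left
      intro l u v
      cases l
      · rw [o_smul, o_smul, map_zero, map_zero, LinearMap.zero_apply]
      · rw [i_smul, i_smul]
      · rw [w_smul, w_smul, h1]
      · rw [z_smul, z_smul, map_add, map_add, LinearMap.add_apply, h1]
    · right
      intro l hl u v
      cases l
      · exact absurd rfl hl
      · rw [i_smul, i_smul]
      · rw [w_smul, w_smul, h1]
      · rw [z_smul, z_smul, ← O.hom, ← O.hom, h1, h1]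

/-- the ambient data -/
theorem amb (C : Cfg ρ b q a D X w) (h7 : 7 ≤ w) : letI := modOf om O.hom; Amb ρ b q w := by
  letI := modOf om O.hom
  exact { O.amb0 C with seven := h7 }

/-- `[om a, x] ∈ {0, a}` -/
theorem om_a (C : Cfg ρ b q a D X w) {x : H} (hx : x ∈ X) :
    (x ∈ Xo ρ X om ∧ ρ x (om a) = om a) ∨ (x ∉ Xo ρ X om ∧ ρ x (om a) = om a + a) := by
  by_cases h1 : x ∈ Xo ρ X om
  · left
    refine ⟨h1, ?_⟩
    rw [h1.2, C.X_a hx]
  · right
    refine ⟨h1, ?_⟩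
    rcases O.norm x with h2 | h2
    · exact absurd ⟨hx, h2⟩ h1
    · rw [h2, C.X_a hx, O.hom]

theorem om_a_mem (C : Cfg ρ b q a D X w) : om a ∈ D := by
  apply C.mem_D_of_fix_mod
  intro x hx
  rcases O.om_a C hx with ⟨-, h1⟩ | ⟨-, h1⟩
  · exact ⟨0, by rw [h1, zero_smul, self_add]⟩
  · exact ⟨1, by rw [h1, one_smul, add_right_comm, self_add, zero_add]⟩

/-- the product of two elements outside `X_0` -/
theorem mul_mem {x y : H} (hx : x ∈ X) (hx' : x ∉ Xo ρ X om) (hy : y ∈ X)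
    (hy' : y ∉ Xo ρ X om) : x * y ∈ Xo ρ X om := by
  refine ⟨X.mul_mem hx hy, fun v => ?_⟩
  rcases O.norm x with h1 | h1
  · exact absurd ⟨hx, h1⟩ hx'
  rcases O.norm y with h2 | h2
  · exact absurd ⟨hy, h2⟩ hy'
  rw [rm, h2, h1, h1, om3 O.hom, rm]

/-- `C_V(X_0) = {0, a, om a, om a + a}` -/
theorem cen (C : Cfg ρ b q a D X w) {v : V} (hv : ∀ y ∈ Xo ρ X om, ρ y v = v) :
    v = 0 ∨ v = a ∨ v = om a ∨ v = om a + a := by
  obtain ⟨x, hx, hx1⟩ := O.ne
  have hx0 : x ∉ Xo ρ X om := fun h => hx1 h.2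
  have hx2 : ∀ u, ρ x (om u) = om (om (ρ x u)) := by
    rcases O.norm x with h1 | h1
    · exact absurd h1 hx1
    · exact h1
  -- vectors `u + u^x` for `u` fixed by `X_0`
  have key : ∀ u, (∀ y ∈ Xo ρ X om, ρ y u = u) → ρ x u + u = 0 ∨ ρ x u + u = a := by
    intro u hu
    apply C.fix_X
    intro z hz
    by_cases h1 : z ∈ Xo ρ X om
    · rw [map_add, hu z h1, ← rm, C.X_comm hz hx, rm, hu z h1]
    · have h2 := hu _ (O.mul_mem hz h1 hx hx0)
      rw [rm] at h2
      have h3 : ρ z u = ρ x u := by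
        have h4 : ρ z (ρ z (ρ x u)) = ρ x u := by
          rw [← rm z z, C.X_sq z hz, r1]
        rw [← h4, h2]
      rw [map_add, h2, h3, add_comm]
  have h1 := key v hv
  have h2 := key (om v) (fun y hy => by rw [hy.2, hv y hy])
  rw [hx2, O.hom] at h2
  -- `om (ρ x v) + ρ x v + om v`
  have e : om (ρ x v) + ρ x v + om v = om (ρ x v + v) + (ρ x v + v) + v := by
    rw [map_add]
    have : om (ρ x v) + om v + (ρ x v + v) + v = om (ρ x v) + ρ x v + om v + (v + v) := by abel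
    rw [this, self_add, add_zero]
  rw [e] at h2
  rcases h1 with h1 | h1 <;> rcases h2 with h2 | h2 <;> rw [h1] at h2
  · left
    rw [map_zero, zero_add, zero_add] at h2
    exact h2
  · right; left
    rw [map_zero, zero_add, zero_add] at h2
    exact h2
  · right; right; right
    exact (eq_of_add h2).symm
  · right; right; left
    have h3 : om a + a + v + (om a + a) = a + (om a + a) := by rw [h2]
    have h4 : om a + a + v + (om a + a) = v := by
      have : om a + a + v + (om a + a) = (om a + om a) + (a + a) + v := by abel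
      rw [this, self_add, self_add, zero_add, zero_add]
    rw [h4] at h3
    rw [h3, add_left_comm, self_add, add_zero]

/-- the data at `a` -/
theorem pt (C : Cfg ρ b q a D X w) : letI := modOf om O.hom; Pt ρ b q w a D (Xo ρ X om) := by
  letI := modOf om O.hom
  have := C.finite_V
  have hD := O.om_a_mem C
  refine ⟨C.a_ne, ?_, C.q_D, fun d hd d' hd' => C.b_D hd hd', ?_, fun y hy => C.X_sq y hy.1,
    fun y hy => C.X_a hy.1, fun y hy d hd => C.X_D y hy.1 d hd, ?_,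
    fun y hy v hv => C.X_perp y hy.1 v hv, fun y hy v hv h => C.X_semi y hy.1 v hv h,
    fun h _ ha d hd => C.D_inv h ha d hd, ?_, ?_, ?_⟩
  · intro l
    cases l
    · rw [o_smul]; exact D.zero_mem
    · rw [i_smul]; exact C.a_mem
    · rw [w_smul]; exact hD
    · rw [z_smul]; exact D.add_mem hD C.a_mem
  · intro y hy
    exact lin_of O.hom hy.2
  · intro φ hφ
    have h1 : φ a = 0 := hφ F4.i
    have h2 : φ (om a) = 0 := hφ F4.w
    obtain ⟨x, hx, hxd⟩ := C.X_all φ h1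
    refine ⟨x, ?_, hxd⟩
    have h3 := hxd _ hD
    rw [h2, zero_smul, add_zero] at h3
    rcases O.om_a C hx with ⟨h4, -⟩ | ⟨-, h4⟩
    · exact h4
    · exfalso
      rw [h3] at h4
      exact C.a_ne (left_eq_add.1 h4)
  · intro h hh ha y hy
    refine ⟨C.X_norm h ha y hy.1, ?_⟩
    apply of_lin O.hom
    have h1 : Lin ρ y := lin_of O.hom hy.2
    exact (hh.mul h1).mul hh.inv
  · intro v hv
    rcases O.cen C hv with h | h | h | h
    · exact ⟨F4.o, by rw [o_smul]; exact h⟩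
    · exact ⟨F4.i, by rw [i_smul]; exact h⟩
    · exact ⟨F4.w, by rw [w_smul]; exact h⟩
    · exact ⟨F4.z, by rw [z_smul]; exact h⟩
  · have : Module.Finite (ZMod 2) D := Module.Finite.of_finite
    have h1 := Module.natCard_eq_pow_finrank (K := ZMod 2) (V := D)
    rw [C.card_D, Nat.card_zmod] at h1
    exact (Nat.pow_right_injective (le_refl 2) h1).symm

/-- the data at `a^h` -/
theorem pt_map (C : Cfg ρ b q a D X w) (h7 : 7 ≤ w) (h : H) : letI := modOf om O.hom;
    Pt ρ b q w (ρ h a) (D.map (ρ h : V →ₗ[ZMod 2] V))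
      ((Xo ρ X om).map (MulAut.conj h).toMonoidHom) := by
  letI := modOf om O.hom
  exact map (O.amb C h7) (O.pt C) h (O.lin_or h)

/-- an opposite pair -/
theorem op (C : Cfg ρ b q a D X w) (h7 : 7 ≤ w) {h : H} (hh : b a (ρ h a) = 1) :
    letI := modOf om O.hom; ∃ m : F4,
      Op ρ b q w a (ρ h a) D (D.map (ρ h : V →ₗ[ZMod 2] V)) (Xo ρ X om)
        ((Xo ρ X om).map (MulAut.conj h).toMonoidHom) m := by
  letI := modOf om O.hom
  obtain ⟨m, m0, m1, hm⟩ := exists_m hh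
  exact ⟨m, O.amb C h7, O.pt C, O.pt_map C h7 h, hh, m0, m1, hm⟩

/-- there is an opposite pair -/
theorem exists_op (C : Cfg ρ b q a D X w) (h7 : 7 ≤ w) :
    letI := modOf om O.hom; ∃ (h : H) (m : F4),
      Op ρ b q w a (ρ h a) D (D.map (ρ h : V →ₗ[ZMod 2] V)) (Xo ρ X om)
        ((Xo ρ X om).map (MulAut.conj h).toMonoidHom) m := by
  letI := modOf om O.hom
  obtain ⟨h, hh⟩ := C.exists_opp
  obtain ⟨m, hm⟩ := O.op C h7 hh
  exact ⟨h, m, hm⟩

/-- the form is of unitary type -/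
theorem isU (C : Cfg ρ b q a D X w) (h7 : 7 ≤ w) : ∀ u v, b (om u) (om v) = b u v := by
  letI := modOf om O.hom
  obtain ⟨h, m, hm⟩ := O.exists_op C h7
  intro u v
  exact hm.isU F4.w (by decide) u v

end Om

end Cfsg.Agent.Omega.EH3.ETwo.Inst

end

-- merged: Cfsg.Agent.Omega.EH3.ETwo.V0
section

/-!
# THEOREM E2, step (4), end: the `F₂`-form `V₀` of an opposite pair
-/

set_option autoImplicit false
set_option linter.unusedSectionVars false

namespace Cfsg.Agent.Omega.EH3.ETwo.V0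

open Module Cfsg.Agent.Omega.EH3.ETwo.Base Cfsg.Agent.Omega.EH3.ETwo.Type
  Cfsg.Agent.Omega.EH3.ETwo.Map Cfsg.Agent.Omega.EH3.ETwo.Opp

variable {H V : Type*} [Group H] [AddCommGroup V] [Module (ZMod 2) V] [Module F4 V]
  {ρ : H →* (V ≃ₗ[ZMod 2] V)} {b : LinearMap.BilinForm (ZMod 2) V} {q : V → ZMod 2} {w : ℕ}
  {a c : V} {D E : Submodule (ZMod 2) V} {X Y : Subgroup H} {m : F4}

/-- the coefficient of `1` -/
def re : F4 → ZMod 2
  | .o => 0
  | .i => 1
  | .w => 0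
  | .z => 1

/-- the coefficient of `w` -/
def im : F4 → ZMod 2
  | .o => 0
  | .i => 0
  | .w => 1
  | .z => 1

theorem reim (k : F4) : k = cf (re k) + F4.w * cf (im k) := by revert k; decide

theorem smul_reim (k : F4) (v : V) : k • v = re k • v + F4.w • (im k • v) := by
  conv_lhs => rw [reim k]
  rw [add_smul, mul_smul, cf_smul, cf_smul]

/-- the `F₂`-form -/
def V0 (b : LinearMap.BilinForm (ZMod 2) V) (a c : V) (D : Submodule (ZMod 2) V) (m : F4) :
    Submodule (ZMod 2) V :=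
  (D ⊓ perp b c) ⊔ Submodule.span (ZMod 2) {a, m • c}

theorem mem_V0 {v : V} : v ∈ V0 b a c D m ↔
    ∃ u ∈ D, Perp b c u ∧ ∃ α γ : ZMod 2, v = u + (α • a + γ • (m • c)) := by
  rw [V0, Submodule.mem_sup]
  constructor
  · rintro ⟨u, ⟨hu, hp⟩, x, hx, rfl⟩
    obtain ⟨α, γ, rfl⟩ := Submodule.mem_span_pair.1 hx
    exact ⟨u, hu, hp, α, γ, rfl⟩
  · rintro ⟨u, hu, hp, α, γ, rfl⟩
    exact ⟨u, ⟨hu, hp⟩, _, Submodule.mem_span_pair.2 ⟨α, γ, rfl⟩, rfl⟩

theorem U_mem {u : V} (hu : u ∈ D) (hp : Perp b c u) : u ∈ V0 b a c D m :=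
  Submodule.mem_sup_left ⟨hu, hp⟩

theorem a_mem : a ∈ V0 b a c D m :=
  Submodule.mem_sup_right (Submodule.subset_span (by simp))

theorem mc_mem : m • c ∈ V0 b a c D m :=
  Submodule.mem_sup_right (Submodule.subset_span (by simp))

/-- `g(u, v) = b(ω u, v)` -/
def gf (b : LinearMap.BilinForm (ZMod 2) V) (u v : V) : ZMod 2 := b (F4.w • u) v

theorem gf_add_left (u u' v : V) : gf b (u + u') v = gf b u v + gf b u' v := by
  rw [gf, smul_add, map_add, LinearMap.add_apply]; rfl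

theorem gf_add_right (u v v' : V) : gf b u (v + v') = gf b u v + gf b u v' := by
  rw [gf, map_add]; rfl

variable (O : Op ρ b q w a c D E X Y m)
include O

/-! ### values of `b` and `g` -/

theorem b_U_a {u : V} (hu : u ∈ D) : b u a = 0 := O.P.bD _ hu _ O.P.mem

theorem b_U_mc {u : V} (hp : Perp b c u) : b u (m • c) = 0 := by
  rw [O.A.comm]; exact hp m

theorem b_mc_mc (k l : F4) : b (k • c) (l • c) = 0 := O.A.perp_smul O.Q.perp_self l k

/-- `b = 0` on `V₀` -/
theorem b_V0 {x y : V} (hx : x ∈ V0 b a c D m) (hy : y ∈ V0 b a c D m) : b x y = 0 := by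
  obtain ⟨u, hu, hp, α, γ, rfl⟩ := mem_V0.1 hx
  obtain ⟨v, hv, hp', α', γ', rfl⟩ := mem_V0.1 hy
  have h1 : b u v = 0 := O.P.bD _ hu _ hv
  have h2 : b a v = 0 := by rw [O.A.comm]; exact b_U_a O hv
  have h3 : b (m • c) v = 0 := hp' m
  have h4 : b u a = 0 := b_U_a O hu
  have h5 : b u (m • c) = 0 := b_U_mc O hp
  have h6 : b a a = 0 := O.A.b_self a
  have h7 : b (m • c) (m • c) = 0 := O.A.b_self _
  have h8 : b a (m • c) = 0 := O.hm
  have h9 : b (m • c) a = 0 := by rw [O.A.comm]; exact h8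
  simp only [map_add, LinearMap.add_apply, map_smul, LinearMap.smul_apply, h1, h2, h3, h4, h5, h6, h7,
    h8, h9, smul_zero, add_zero]

theorem gf_a_mc : gf b a (m • c) = 1 := by
  have h : gf b a (m • c) ≠ 0 := by
    intro h
    exact O.m0 (O.perp_ac (perp_of_two O.A.toAmb0 O.hm h))
  exact (z2 _).resolve_left h

theorem gf_U_a {u : V} (hu : u ∈ D) : gf b u a = 0 := O.A.perp_symm (O.P.perpD hu) F4.w

theorem gf_a_U {u : V} (hu : u ∈ D) : gf b a u = 0 := O.P.perpD hu F4.w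

theorem gf_mc_U {u : V} (hp : Perp b c u) : gf b (m • c) u = 0 := by
  rw [gf, smul_smul]; exact hp _

theorem gf_U_mc {u : V} (hp : Perp b c u) : gf b u (m • c) = 0 :=
  O.A.perp_symm (O.A.smul_perp hp m) F4.w

theorem gf_mcmc : gf b (m • c) (m • c) = 0 := by
  rw [gf, smul_smul]; exact b_mc_mc O _ _

/-- `b (k x) (l y)` on `V₀` -/
theorem b_smul {x y : V} (hx : x ∈ V0 b a c D m) (hy : y ∈ V0 b a c D m) (k : F4) :
    b (k • x) y = im k * gf b x y := by
  rw [smul_reim, map_add, LinearMap.add_apply, map_smul, LinearMap.smul_apply, b_V0 O hx hy, smul_zero,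
    zero_add]
  rcases z2 (im k) with h | h
  · rw [h, zero_smul, smul_zero, map_zero, LinearMap.zero_apply, zero_mul]
  · rw [h, one_smul, one_mul]; rfl

/-! ### `V = V₀ ⊕ ω V₀` -/

/-- `V₀ ∩ ω V₀ = 0` -/
theorem inf_w {v : V} (hv : v ∈ V0 b a c D m) (h : F4.w • v ∈ V0 b a c D m) : v = 0 := by
  obtain ⟨u, hu, hp, α, γ, rfl⟩ := mem_V0.1 hv
  obtain ⟨u', hu', hp', α', γ', h'⟩ := mem_V0.1 h
  rw [smul_add, smul_add, ← cf_smul, ← cf_smul, ← cf_smul, ← cf_smul, smul_smul, smul_smul, smul_smul] at h'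
  -- the coefficient of `a`
  have h1 : F4.w • u + u' + ((F4.w * cf γ * m) • c + cf γ' • (m • c)) + (F4.w * cf α + cf α') • a = 0 := by
    have h2 := self_add (F4.w • u + ((F4.w * cf α) • a + (F4.w * cf γ * m) • c))
    nth_rewrite 2 [h'] at h2
    rw [← h2, add_smul]; abel
  have h2 : (F4.w * cf α + cf α') = 0 := by
    apply O.perp_ca
    have h3 : Perp b c (F4.w • u + u' + ((F4.w * cf γ * m) • c + cf γ' • (m • c))) := by
      refine perp_add (perp_add (O.A.perp_smul hp _) hp') (perp_add (O.A.perp_smul O.Q.perp_self _) ?_)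
      rw [smul_smul]
      exact O.A.perp_smul O.Q.perp_self _
    have h4 := perp_add h3 (show Perp b c (0 : V) from (perp b c).zero_mem)
    rw [← h1, self_add_add] at h4
    exact h4
  have h3 : α = 0 := by
    have : ∀ α α' : ZMod 2, F4.w * cf α + cf α' = 0 → α = 0 := by decide
    exact this _ _ h2
  have h4 : F4.w * cf γ * m + cf γ' * m = 0 := by
    apply O.perp_ac
    have h5 : Perp b a (F4.w • u + u' + (F4.w * cf α + cf α') • a) :=
      perp_add (perp_add (O.A.perp_smul (O.P.perpD hu) _) (O.P.perpD hu')) (O.A.perp_smul O.P.perp_self _)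
    have h6 := perp_add h5 (show Perp b a (0 : V) from (perp b a).zero_mem)
    have h7 : F4.w • u + u' + (F4.w * cf α + cf α') • a + (F4.w * cf γ * m + cf γ' * m) • c = 0 := by
      rw [← h1, smul_smul, add_smul (F4.w * cf γ * m)]; abel
    rw [← h7, self_add_add] at h6
    exact h6
  have h5 : γ = 0 := by
    have : ∀ (m : F4) (γ γ' : ZMod 2), m ≠ 0 → F4.w * cf γ * m + cf γ' * m = 0 → γ = 0 := by decide
    exact this _ _ _ O.m0 h4
  have h6 : α' = 0 := by
    have : ∀ α α' : ZMod 2, F4.w * cf α + cf α' = 0 → α' = 0 := by decide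
    exact this _ _ h2
  have h7 : γ' = 0 := by
    have : ∀ (m : F4) (γ γ' : ZMod 2), m ≠ 0 → F4.w * cf γ * m + cf γ' * m = 0 → γ' = 0 := by decide
    exact this _ _ _ O.m0 h4
  rw [h3, h5, zero_smul, zero_smul, add_zero, add_zero] at h ⊢
  rw [h3, h5, h6, h7] at h'
  have h8 : F4.w • u = u' := by simpa [cf] using h'
  obtain ⟨k, hk⟩ := O.P.inf (l := F4.w) (by decide) (by decide) hu (by rw [h8]; exact hu')
  rw [hk] at hp ⊢
  rw [O.perp_ca hp, zero_smul]

theorem im_zero {v : V} (hv : v ∈ V0 b a c D m) {k : F4} (h : k • v ∈ V0 b a c D m) : im k • v = 0 := by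
  apply inf_w O ((V0 b a c D m).smul_mem _ hv)
  have h1 := (V0 b a c D m).add_mem h ((V0 b a c D m).smul_mem (re k) hv)
  rw [smul_reim, add_comm (re k • v), add_self_add] at h1
  exact h1

theorem im_two {x y : V} (hx : x ∈ V0 b a c D m) (hy : y ∈ V0 b a c D m) {k l : F4}
    (h : k • x + l • y ∈ V0 b a c D m) : im k • x + im l • y = 0 := by
  apply inf_w O ((V0 b a c D m).add_mem ((V0 b a c D m).smul_mem _ hx) ((V0 b a c D m).smul_mem _ hy))
  have h1 := (V0 b a c D m).add_mem h ((V0 b a c D m).add_mem ((V0 b a c D m).smul_mem (re k) hx)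
    ((V0 b a c D m).smul_mem (re l) hy))
  have h2 : k • x + l • y + (re k • x + re l • y) = F4.w • (im k • x + im l • y) := by
    rw [smul_reim k x, smul_reim l y, smul_add]
    have h3 := self_add (re k • x + re l • y)
    calc _ = F4.w • (im k • x) + F4.w • (im l • y) +
          (re k • x + re l • y + (re k • x + re l • y)) := by abel
      _ = _ := by rw [h3, add_zero]
  rwa [h2] at h1

theorem im_three {x y z : V} (hx : x ∈ V0 b a c D m) (hy : y ∈ V0 b a c D m) (hz : z ∈ V0 b a c D m)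
    {k l n : F4} (h : k • x + l • y + n • z ∈ V0 b a c D m) : im k • x + im l • y + im n • z = 0 := by
  set W := V0 b a c D m with hW
  apply inf_w O (W.add_mem (W.add_mem (W.smul_mem _ hx) (W.smul_mem _ hy)) (W.smul_mem _ hz))
  have h1 := W.add_mem h (W.add_mem (W.add_mem (W.smul_mem (re k) hx) (W.smul_mem (re l) hy))
    (W.smul_mem (re n) hz))
  have h2 : k • x + l • y + n • z + (re k • x + re l • y + re n • z) =
      F4.w • (im k • x + im l • y + im n • z) := by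
    rw [smul_reim k x, smul_reim l y, smul_reim n z, smul_add, smul_add]
    have h3 := self_add (re k • x + re l • y + re n • z)
    calc _ = F4.w • (im k • x) + F4.w • (im l • y) + F4.w • (im n • z) +
          (re k • x + re l • y + re n • z + (re k • x + re l • y + re n • z)) := by abel
      _ = _ := by rw [h3, add_zero]
  rwa [h2] at h1

/-- `D = F a + U_a` -/
theorem dec_D {d : V} (hd : d ∈ D) : ∃ l : F4, ∃ u ∈ D, Perp b c u ∧ d = l • a + u := by
  obtain ⟨l, hl⟩ := O.proj d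
  exact ⟨l, d + l • a, D.add_mem hd (O.P.fmem l), hl, by rw [add_comm d, self_add_add]⟩

theorem exists_dec (v : V) : ∃ x ∈ V0 b a c D m, ∃ y ∈ V0 b a c D m, v = x + F4.w • y := by
  obtain ⟨l, hl⟩ := O.proj v
  obtain ⟨k, hk⟩ := O.symm.proj (v + l • a)
  obtain ⟨d, hd, d', hd', h1⟩ := O.P.decomp O.A hk
  obtain ⟨l1, u1, hu1, hp1, rfl⟩ := dec_D O hd
  obtain ⟨l2, u2, hu2, hp2, rfl⟩ := dec_D O hd'
  have h2 : v = u1 + F4.w • u2 + (l1 + F4.w * l2 + l) • a + (k * m⁻¹) • (m • c) := by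
    have h3 : v = v + l • a + k • c + l • a + k • c := by
      have h4 := self_add (l • a)
      have h5 := self_add (k • c)
      calc v = v + (l • a + l • a) + (k • c + k • c) := by rw [h4, h5, add_zero, add_zero]
        _ = _ := by abel
    rw [h3, h1, smul_smul, mul_assoc, inv_mul_cancel₀ O.m0, mul_one, add_smul, add_smul, smul_add,
      smul_smul]
    abel
  set l3 := l1 + F4.w * l2 + l with hl3
  set k' := k * m⁻¹ with hk'
  refine ⟨u1 + (re l3 • a + re k' • (m • c)), mem_V0.2 ⟨u1, hu1, hp1, _, _, rfl⟩,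
    u2 + (im l3 • a + im k' • (m • c)), mem_V0.2 ⟨u2, hu2, hp2, _, _, rfl⟩, ?_⟩
  rw [h2, smul_reim l3 a, smul_reim k' (m • c), smul_add, smul_add]
  abel

/-- `g` is nondegenerate on `V₀` -/
theorem gf_nondeg {u : V} (hu : u ∈ V0 b a c D m) (h : ∀ v ∈ V0 b a c D m, gf b u v = 0) : u = 0 := by
  have h1 : F4.w • u = 0 := by
    apply O.A.nondeg
    intro v
    obtain ⟨x, hx, y, hy, rfl⟩ := exists_dec O v
    rw [map_add, O.isU F4.w (by decide), b_V0 O hu hy, add_zero]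
    exact h x hx
  rcases smul_eq_zero.1 h1 with h2 | h2
  · exact absurd h2 (by decide)
  · exact h2

/-- for `u ≠ 0` in `U_a` there is `u' ∈ U_a` with `g(u, u') = 1` -/
theorem exists_g {u : V} (hu : u ∈ D) (hp : Perp b c u) (h0 : u ≠ 0) :
    ∃ u' ∈ D, Perp b c u' ∧ gf b u u' = 1 := by
  by_contra hc
  push Not at hc
  apply h0
  apply gf_nondeg O (U_mem hu hp)
  intro v hv
  obtain ⟨u', hu', hp', α, γ, rfl⟩ := mem_V0.1 hv
  have h1 : gf b u u' = 0 := (z2 _).resolve_right (hc u' hu' hp')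
  have h2 : ∀ (k : ZMod 2) (v : V), gf b u (k • v) = k * gf b u v := by
    intro k v; rw [gf, map_smul]; rfl
  rw [gf_add_right, gf_add_right, h2, h2, h1, gf_U_a O hu, gf_U_mc O hp, mul_zero, mul_zero, add_zero,
    add_zero]

/-! ### the elements of `Y` -/

/-- `s` maps `a` to `a + u + κ m c` -/
def R (ρ : H →* (V ≃ₗ[ZMod 2] V)) (a c : V) (Y : Subgroup H) (m : F4) (u : V) (κ : ZMod 2) (s : H) : Prop :=
  s ∈ Y ∧ ρ s a = a + u + κ • (m • c)

theorem exists_R {u : V} (hu : u ∈ D) (hp : Perp b c u) : ∃ κ s, R ρ a c Y m u κ s := by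
  obtain ⟨s, hs, h⟩ := O.symm.surj (O.inv_mem hu hp) (O.A.perp_smul (O.P.perpD hu) _)
  refine ⟨Op.kap b ρ c a m⁻¹ s, s, hs, ?_⟩
  have h1 : Op.dl ρ a s = u + Op.kap b ρ c a m⁻¹ s • (m • c) := by
    have := congrArg (fun x => m • x) h
    simp only [smul_add, smul_inv_smul₀ O.m0] at this
    rw [this, ← cf_smul, ← cf_smul, smul_smul, smul_smul, mul_comm]
  rw [O.symm.ρ_c s, h1, add_assoc]

theorem R_dl {u : V} {κ : ZMod 2} {s : H} (h : R ρ a c Y m u κ s) : Op.dl ρ a s = u + κ • (m • c) := by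
  have := O.m0
  rw [Op.dl, h.2, add_assoc a, add_comm a, add_self_add]

/-- `s` on `U_a` -/
theorem R_U {u : V} (hu : u ∈ D) (hp : Perp b c u) {κ : ZMod 2} {s : H} (h : R ρ a c Y m u κ s)
    {u' : V} (hu' : u' ∈ D) (hp' : Perp b c u') : ρ s u' = u' + gf b u u' • (m • c) := by
  have h1 : ∃ k : ZMod 2, ρ s u' = u' + k • (m • c) := by
    rcases O.Q.onD s h.1 _ (O.inv_mem hu' hp') with h2 | h2
    · refine ⟨0, ?_⟩
      rw [O.Q.lin s h.1] at h2
      have := congrArg (fun x => m • x) h2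
      simp only [smul_inv_smul₀ O.m0] at this
      rw [this, zero_smul, add_zero]
    · refine ⟨1, ?_⟩
      rw [O.Q.lin s h.1] at h2
      have := congrArg (fun x => m • x) h2
      simp only [smul_inv_smul₀ O.m0, smul_add] at this
      rw [this, one_smul]
  obtain ⟨k, hk⟩ := h1
  have h2 := O.A.b_inv s (F4.w • a) u'
  have h3 : b (F4.w • a) u' = 0 := gf_a_U O hu'
  have h4 : ∀ (l : ZMod 2) (v : V), F4.w • (l • v) = l • (F4.w • v) := by
    intro l v
    rw [← cf_smul, ← cf_smul, smul_smul, smul_smul, mul_comm]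
  have e1 : b (F4.w • a) (m • c) = 1 := gf_a_mc O
  have e2 : b (F4.w • u) (m • c) = 0 := gf_U_mc O hp
  have e3 : b (F4.w • (m • c)) u' = 0 := gf_mc_U O hp'
  have e4 : b (F4.w • (m • c)) (m • c) = 0 := gf_mcmc O
  rw [O.Q.lin s h.1, h.2, hk, h3, smul_add, smul_add, h4] at h2
  simp only [map_add, LinearMap.add_apply, map_smul, LinearMap.smul_apply, h3, e1, e2, e3, e4, smul_eq_mul,
    mul_zero, mul_one, add_zero, zero_add] at h2
  have h5 : k = gf b u u' := by
    have : gf b u u' + k = 0 := by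
      rw [gf, ← h2]; try abel
    exact (CharTwo.add_eq_zero.1 this).symm
  rw [hk, h5]

theorem R_mul {u : V} (hu : u ∈ D) (hp : Perp b c u) {κ : ZMod 2} {s : H} (h : R ρ a c Y m u κ s)
    {u' : V} (hu' : u' ∈ D) (hp' : Perp b c u') {κ' : ZMod 2} {s' : H} (h' : R ρ a c Y m u' κ' s') :
    R ρ a c Y m (u + u') (κ + κ' + gf b u u') (s * s') := by
  refine ⟨Y.mul_mem h.1 h'.1, ?_⟩
  have h1 : ρ s (m • c) = m • c := O.Q.fixF h.1 m
  rw [ρ_mul, h'.2, map_add, map_add, map_smul, h.2, R_U O hu hp h hu' hp', h1, add_smul, add_smul]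
  abel

theorem R_one {κ : ZMod 2} {s : H} (h : R ρ a c Y m 0 κ s) : κ = 0 ∧ s = 1 := by
  have h1 := R_dl O h
  rw [zero_add] at h1
  have h2 : m⁻¹ • Op.dl ρ a s = (m⁻¹ * cf κ * m) • c := by
    rw [h1, ← cf_smul, smul_smul, smul_smul]
  have h3 := O.symm.dl_line h.1 h2
  refine ⟨?_, h3⟩
  rcases z2 κ with h4 | h4
  · exact h4
  · exfalso
    rw [h3, Op.dl, ρ_one, self_add, h4, one_smul] at h1
    rcases smul_eq_zero.1 h1.symm with h5 | h5
    · exact O.m0 h5
    · exact O.Q.ne h5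

theorem gf_self {u : V} (hu : u ∈ D) (hp : Perp b c u) : gf b u u = 0 := by
  obtain ⟨κ, s, h⟩ := exists_R O hu hp
  have h1 := R_mul O hu hp h hu hp h
  rw [self_add, CharTwo.add_self_eq_zero, zero_add] at h1
  exact (R_one O h1).1

theorem R_unique {u : V} (hu : u ∈ D) (hp : Perp b c u) {κ : ZMod 2} {s : H} (h : R ρ a c Y m u κ s)
    {κ' : ZMod 2} {s' : H} (h' : R ρ a c Y m u κ' s') : κ = κ' := by
  have h1 := R_mul O hu hp h hu hp h'
  rw [self_add, gf_self O hu hp, add_zero] at h1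
  exact CharTwo.add_eq_zero.1 (R_one O h1).1

omit O in
/-- the quadratic form on `U_a` -/
noncomputable def Qf (ρ : H →* (V ≃ₗ[ZMod 2] V)) (a c : V) (Y : Subgroup H) (m : F4) (u : V) : ZMod 2 := by
  classical
  exact if ∃ s, R ρ a c Y m u 0 s then 0 else 1

theorem Qf_spec {u : V} (hu : u ∈ D) (hp : Perp b c u) : ∃ s, R ρ a c Y m u (Qf ρ a c Y m u) s := by
  classical
  rw [Qf]
  split_ifs with h
  · exact h
  · obtain ⟨κ, s, h1⟩ := exists_R O hu hp
    rcases z2 κ with rfl | rfl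
    · exact absurd ⟨s, h1⟩ h
    · exact ⟨s, h1⟩

theorem Qf_add {u u' : V} (hu : u ∈ D) (hp : Perp b c u) (hu' : u' ∈ D) (hp' : Perp b c u') :
    Qf ρ a c Y m (u + u') = Qf ρ a c Y m u + Qf ρ a c Y m u' + gf b u u' := by
  obtain ⟨s, h⟩ := Qf_spec O hu hp
  obtain ⟨s', h'⟩ := Qf_spec O hu' hp'
  obtain ⟨s'', h''⟩ := Qf_spec O (D.add_mem hu hu') (perp_add hp hp')
  exact R_unique O (D.add_mem hu hu') (perp_add hp hp') h'' (R_mul O hu hp h hu' hp' h')

/-! ### invariance -/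

theorem X_V0 {y : H} (hy : y ∈ X) {v : V} (hv : v ∈ V0 b a c D m) : ρ y v ∈ V0 b a c D m := by
  obtain ⟨u, hu, hp, α, γ, rfl⟩ := mem_V0.1 hv
  set W := V0 b a c D m with hW
  have h1 : ρ y u ∈ W := by
    rcases O.P.onD y hy u hu with h | h
    · rw [h]; exact U_mem hu hp
    · rw [h]; exact W.add_mem (U_mem hu hp) a_mem
  have h2 : ρ y a ∈ W := by rw [O.P.fix y hy]; exact a_mem
  have h3 : ρ y (m • c) ∈ W := by
    rw [O.P.lin y hy, O.ρ_c y, smul_add]
    refine W.add_mem mc_mem ?_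
    have h4 := W.add_mem (U_mem (a := a) (m := m) (D.add_mem (O.dl_mem hy) (O.P.fmem _)) (O.kap_spec hy))
      (W.smul_mem (Op.kap b ρ a c m y) a_mem)
    rw [cf_smul, add_self_add] at h4
    exact h4
  rw [map_add, map_add, map_smul, map_smul]
  exact W.add_mem h1 (W.add_mem (W.smul_mem _ h2) (W.smul_mem _ h3))

theorem Y_V0 {s : H} (hs : s ∈ Y) {v : V} (hv : v ∈ V0 b a c D m) : ρ s v ∈ V0 b a c D m := by
  obtain ⟨u, hu, hp, α, γ, rfl⟩ := mem_V0.1 hv
  set W := V0 b a c D m with hW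
  have h1 : ρ s u ∈ W := by
    rcases O.Q.onD s hs _ (O.inv_mem hu hp) with h2 | h2
    · rw [O.Q.lin s hs] at h2
      have := congrArg (fun x => m • x) h2
      simp only [smul_inv_smul₀ O.m0] at this
      rw [this]; exact U_mem hu hp
    · rw [O.Q.lin s hs] at h2
      have := congrArg (fun x => m • x) h2
      simp only [smul_inv_smul₀ O.m0, smul_add] at this
      rw [this]; exact W.add_mem (U_mem hu hp) mc_mem
  have h2 : ρ s a ∈ W := by
    have h3 := O.symm.kap_spec hs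
    have h4 : m⁻¹ • Op.dl ρ a s + cf (Op.kap b ρ c a m⁻¹ s) • c ∈ E := E.add_mem (O.symm.dl_mem hs) (O.Q.fmem _)
    have h5 := O.symm.inv_mem h4 h3
    rw [inv_inv] at h5
    have h6 : Perp b c (m • (m⁻¹ • Op.dl ρ a s + cf (Op.kap b ρ c a m⁻¹ s) • c)) :=
      O.A.perp_smul (O.Q.perpD h4) _
    have h7 := W.add_mem (W.add_mem (U_mem (a := a) (m := m) h5 h6)
      (W.smul_mem (Op.kap b ρ c a m⁻¹ s) mc_mem)) a_mem
    have h8 : m • (m⁻¹ • Op.dl ρ a s + cf (Op.kap b ρ c a m⁻¹ s) • c) + Op.kap b ρ c a m⁻¹ s • m • c + a = ρ s a := by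
      rw [O.symm.ρ_c s, smul_add, smul_inv_smul₀ O.m0, ← cf_smul (Op.kap b ρ c a m⁻¹ s) (m • c), smul_smul,
        smul_smul, mul_comm m, add_self_add, add_comm]
    rwa [h8] at h7
  have h3 : ρ s (m • c) ∈ W := by rw [O.Q.fixF hs]; exact mc_mem
  rw [map_add, map_add, map_smul, map_smul]
  exact W.add_mem h1 (W.add_mem (W.smul_mem _ h2) (W.smul_mem _ h3))

theorem V0_ne_bot : V0 b a c D m ≠ ⊥ := by
  intro h
  have h1 : a ∈ V0 b a c D m := a_mem
  rw [h] at h1
  exact O.P.ne ((Submodule.mem_bot _).1 h1)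

theorem V0_ne_top : V0 b a c D m ≠ ⊤ := by
  intro h
  exact O.P.ne (inf_w O a_mem (by rw [h]; trivial))

end Cfsg.Agent.Omega.EH3.ETwo.V0

end

-- merged: Cfsg.Agent.Omega.EH3.ETwo.Pure
section

/-!
# THEOREM E2, steps (5), (6): every point is pure; `V₀` is invariant
-/

set_option autoImplicit false
set_option linter.unusedSectionVars false

namespace Cfsg.Agent.Omega.EH3.ETwo.Pure

open Module Cfsg.Agent.Omega.EH3.ETwo.Base Cfsg.Agent.Omega.EH3.ETwo.Type
  Cfsg.Agent.Omega.EH3.ETwo.Map Cfsg.Agent.Omega.EH3.ETwo.Opp Cfsg.Agent.Omega.EH3.ETwo.V0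

variable {H V : Type*} [Group H] [AddCommGroup V] [Module (ZMod 2) V] [Module F4 V]
  {ρ : H →* (V ≃ₗ[ZMod 2] V)} {b : LinearMap.BilinForm (ZMod 2) V} {q : V → ZMod 2} {w : ℕ}
  {a c : V} {D E : Submodule (ZMod 2) V} {X Y : Subgroup H} {m : F4}

theorem finrank_ker [Finite V] (U : Submodule (ZMod 2) V) (φ : V →ₗ[ZMod 2] ZMod 2) :
    finrank (ZMod 2) U ≤ finrank (ZMod 2) (U ⊓ LinearMap.ker φ : Submodule (ZMod 2) V) + 1 := by
  have h := LinearMap.finrank_range_add_finrank_ker (φ.domRestrict U)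
  have h1 : finrank (ZMod 2) (LinearMap.range (φ.domRestrict U)) ≤ 1 := by
    have := Submodule.finrank_le (LinearMap.range (φ.domRestrict U))
    rwa [finrank_self] at this
  have h2 : finrank (ZMod 2) (LinearMap.ker (φ.domRestrict U)) =
      finrank (ZMod 2) (U ⊓ LinearMap.ker φ : Submodule (ZMod 2) V) := by
    have e1 : (LinearMap.ker (φ.domRestrict U)).map U.subtype = U ⊓ LinearMap.ker φ := by
      ext v
      rw [Submodule.mem_map, Submodule.mem_inf, LinearMap.mem_ker]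
      constructor
      · rintro ⟨⟨x, hx⟩, h1, rfl⟩
        exact ⟨hx, h1⟩
      · rintro ⟨hx, h1⟩
        exact ⟨⟨v, hx⟩, h1, rfl⟩
    rw [← e1]
    exact (LinearEquiv.finrank_eq (Submodule.equivMapOfInjective _ U.injective_subtype _))
  omega

variable (O : Op ρ b q w a c D E X Y m)
include O

theorem Qf_zero : Qf ρ a c Y m (0 : V) = 0 := by
  have h := Qf_add O D.zero_mem (show Perp b c (0 : V) from (perp b c).zero_mem) D.zero_mem
    (show Perp b c (0 : V) from (perp b c).zero_mem)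
  have h1 : gf b (0 : V) 0 = 0 := by rw [gf, map_zero]
  rw [add_zero, h1, add_zero, CharTwo.add_self_eq_zero] at h
  exact h

/-- **Lemma Z** -/
theorem exists_Z {u : V} (hu : u ∈ D) (hp : Perp b c u) :
    ∃ u' ∈ D, Perp b c u' ∧ u' ≠ 0 ∧ u' ≠ u ∧ gf b u u' = 0 ∧ Qf ρ a c Y m u' = 0 := by
  classical
  have _ := O.A.fin
  set W : Submodule (ZMod 2) V := D ⊓ perp b c ⊓ LinearMap.ker (b (F4.w • u)) with hW
  have hWr : 4 ≤ finrank (ZMod 2) W := by
    have h1 := finrank_ker (D ⊓ perp b c) (b (F4.w • u))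
    have h2 := finrank_inf O.A O.P c
    have h3 := O.A.seven
    rw [hW]
    omega
  have hex : ∀ s : Finset V, s.card ≤ 3 → ∃ t ∈ W, t ∉ Submodule.span (ZMod 2) (s : Set V) := by
    intro s hs
    by_contra hc
    push Not at hc
    have h1 := Submodule.finrank_mono (show W ≤ Submodule.span (ZMod 2) (s : Set V) from hc)
    have h2 : finrank (ZMod 2) (Submodule.span (ZMod 2) (s : Set V)) ≤ s.card :=
      finrank_span_finset_le_card (R := ZMod 2) s
    omega
  obtain ⟨t1, ht1, h1⟩ := hex {u} (by simp)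
  obtain ⟨t2, ht2, h2⟩ := hex {u, t1} (Finset.card_le_two.trans (by norm_num))
  obtain ⟨t3, ht3, h3⟩ := hex {u, t1, t2} Finset.card_le_three
  by_contra hcon
  push Not at hcon
  have hQ : ∀ t ∈ W, t ≠ 0 → t ≠ u → Qf ρ a c Y m t = 1 := by
    intro t ht h4 h5
    exact (z2 _).resolve_left (hcon t ht.1.1 ht.1.2 h4 h5 ht.2)
  have m1u : u ∈ Submodule.span (ZMod 2) ((({u} : Finset V)) : Set V) := Submodule.subset_span (by simp)
  have m2u : u ∈ Submodule.span (ZMod 2) ((({u, t1} : Finset V)) : Set V) := Submodule.subset_span (by simp)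
  have m21 : t1 ∈ Submodule.span (ZMod 2) ((({u, t1} : Finset V)) : Set V) := Submodule.subset_span (by simp)
  have m3u : u ∈ Submodule.span (ZMod 2) ((({u, t1, t2} : Finset V)) : Set V) := Submodule.subset_span (by simp)
  have m31 : t1 ∈ Submodule.span (ZMod 2) ((({u, t1, t2} : Finset V)) : Set V) := Submodule.subset_span (by simp)
  have m32 : t2 ∈ Submodule.span (ZMod 2) ((({u, t1, t2} : Finset V)) : Set V) := Submodule.subset_span (by simp)
  have gen : ∀ (s : Finset V) (t x : V), t ∉ Submodule.span (ZMod 2) (s : Set V) →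
      u ∈ Submodule.span (ZMod 2) (s : Set V) → x ∈ Submodule.span (ZMod 2) (s : Set V) → t ∈ W → x ∈ W →
      Qf ρ a c Y m (x + t) = 1 := by
    intro s t x ht hus hx htW hxW
    apply hQ _ (W.add_mem hxW htW)
    · intro h
      exact ht ((eq_of_add h) ▸ hx)
    · intro h
      apply ht
      have : t = x + u := by rw [← h, self_add_add]
      rw [this]
      exact Submodule.add_mem _ hx hus
  have e1 : Qf ρ a c Y m t1 = 1 := by
    have := gen _ t1 0 h1 m1u (Submodule.zero_mem _) ht1 W.zero_mem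
    rwa [zero_add] at this
  have e2 : Qf ρ a c Y m t2 = 1 := by
    have := gen _ t2 0 h2 m2u (Submodule.zero_mem _) ht2 W.zero_mem
    rwa [zero_add] at this
  have e3 : Qf ρ a c Y m t3 = 1 := by
    have := gen _ t3 0 h3 m3u (Submodule.zero_mem _) ht3 W.zero_mem
    rwa [zero_add] at this
  have e12 := gen _ t2 t1 h2 m2u m21 ht2 ht1
  have e13 := gen _ t3 t1 h3 m3u m31 ht3 ht1
  have e23 := gen _ t3 t2 h3 m3u m32 ht3 ht2
  have e123 := gen _ t3 (t1 + t2) h3 m3u (Submodule.add_mem _ m31 m32) ht3 (W.add_mem ht1 ht2)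
  rw [Qf_add O (D.add_mem ht1.1.1 ht2.1.1) (perp_add ht1.1.2 ht2.1.2) ht3.1.1 ht3.1.2, gf_add_left, e12,
    e3] at e123
  rw [Qf_add O ht1.1.1 ht1.1.2 ht2.1.1 ht2.1.2, e1, e2] at e12
  rw [Qf_add O ht1.1.1 ht1.1.2 ht3.1.1 ht3.1.2, e1, e3] at e13
  rw [Qf_add O ht2.1.1 ht2.1.2 ht3.1.1 ht3.1.2, e2, e3] at e23
  have : ∀ x y z : ZMod 2, 1 + 1 + y = 1 → 1 + 1 + z = 1 → 1 + 1 + (y + z) = 1 → False := by decide
  exact this 0 _ _ e13 e23 e123

omit O in
/-- the stabiliser of `V₀` in `C_H(F)` -/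
def M1 (ρ : H →* (V ≃ₗ[ZMod 2] V)) (W : Submodule (ZMod 2) V) : Subgroup H where
  carrier := {k | Lin ρ k ∧ ∀ v, ρ k v ∈ W ↔ v ∈ W}
  one_mem' := ⟨Lin.one, fun v => by rw [ρ_one]⟩
  mul_mem' := by
    rintro g h ⟨hg, hg'⟩ ⟨hh, hh'⟩
    exact ⟨hg.mul hh, fun v => by rw [ρ_mul, hg', hh']⟩
  inv_mem' := by
    rintro g ⟨hg, hg'⟩
    exact ⟨hg.inv, fun v => by rw [← hg', ρ_inv']⟩

omit O in
/-- the vectors of `a^{M₁}` -/
def Good (ρ : H →* (V ≃ₗ[ZMod 2] V)) (W : Submodule (ZMod 2) V) (a v : V) : Prop := ∃ k ∈ M1 ρ W, ρ k a = v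

theorem X_M1 {y : H} (hy : y ∈ X) : y ∈ M1 ρ (V0 b a c D m) :=
  ⟨O.P.lin y hy, fun v => ⟨fun h => by
    have := X_V0 O hy h
    rwa [O.P.twice hy] at this, X_V0 O hy⟩⟩

theorem Y_M1 {y : H} (hy : y ∈ Y) : y ∈ M1 ρ (V0 b a c D m) :=
  ⟨O.Q.lin y hy, fun v => ⟨fun h => by
    have := Y_V0 O hy h
    rwa [O.Q.twice hy] at this, Y_V0 O hy⟩⟩

omit O in
theorem good_a : Good ρ (V0 b a c D m) a a := ⟨1, Subgroup.one_mem _, ρ_one a⟩

theorem good_add {u : V} (hu : u ∈ D) (hp : Perp b c u) :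
    Good ρ (V0 b a c D m) a (a + u + Qf ρ a c Y m u • (m • c)) := by
  obtain ⟨s, hs, h⟩ := Qf_spec O hu hp
  exact ⟨s, Y_M1 O hs, h⟩

theorem good_add_zero {u : V} (hu : u ∈ D) (hp : Perp b c u) (hQ : Qf ρ a c Y m u = 0) :
    ∃ s ∈ Y, ρ s a = a + u := by
  obtain ⟨s, hs, h⟩ := Qf_spec O hu hp
  rw [hQ, zero_smul, add_zero] at h
  exact ⟨s, hs, h⟩

theorem good_U {u : V} (hu : u ∈ D) (hp : Perp b c u) (hQ : Qf ρ a c Y m u = 0) (h0 : u ≠ 0) :
    Good ρ (V0 b a c D m) a u := by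
  obtain ⟨s, hs, h⟩ := good_add_zero O hu hp hQ
  obtain ⟨y, hy, h1⟩ := O.P.exists_move hu (fun l hl => by
    rw [hl] at hp
    have := O.perp_ca hp
    rw [this, zero_smul] at hl
    exact h0 hl)
  refine ⟨y * s, Subgroup.mul_mem _ (X_M1 O hy) (Y_M1 O hs), ?_⟩
  rw [ρ_mul, h, map_add, O.P.fix y hy, h1, add_comm u, self_add_add]

/-- Step A -/
theorem exists_good_perp (e : V) : ∃ v, Good ρ (V0 b a c D m) a v ∧ Perp b e v := by
  obtain ⟨u1, hu1, hp1, h1, -, -, hQ1⟩ :=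
    exists_Z O D.zero_mem (show Perp b c (0 : V) from (perp b c).zero_mem)
  obtain ⟨u2, hu2, hp2, h2, h12, hg, hQ2⟩ := exists_Z O hu1 hp1
  have key : ∀ x1 x2 x3 y1 y2 y3 : ZMod 2, ∃ α β γ : ZMod 2, (α ≠ 0 ∨ β ≠ 0 ∨ γ ≠ 0) ∧
      α * x1 + (β * x2 + γ * x3) = 0 ∧ α * y1 + (β * y2 + γ * y3) = 0 := by decide +kernel
  obtain ⟨α, β, γ, hne, e1, e2⟩ := key (b e a) (b e u1) (b e u2) (b (F4.w • e) a) (b (F4.w • e) u1)
    (b (F4.w • e) u2)
  have hQ12 : Qf ρ a c Y m (u1 + u2) = 0 := by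
    rw [Qf_add O hu1 hp1 hu2 hp2, hQ1, hQ2, hg, add_zero, add_zero]
  have h12' : u1 + u2 ≠ 0 := fun h => h12 (eq_of_add h).symm
  refine ⟨α • a + (β • u1 + γ • u2), ?_, ?_⟩
  · have hall : Qf ρ a c Y m (β • u1 + γ • u2) = 0 ∧
        ((β ≠ 0 ∨ γ ≠ 0) → β • u1 + γ • u2 ≠ 0) := by
      rcases z2 β with rfl | rfl <;> rcases z2 γ with rfl | rfl
      · rw [zero_smul, zero_smul, add_zero]
        exact ⟨Qf_zero O, fun h => by rcases h with h | h <;> exact absurd rfl h⟩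
      · rw [zero_smul, zero_add, one_smul]; exact ⟨hQ2, fun _ => h2⟩
      · rw [zero_smul, add_zero, one_smul]; exact ⟨hQ1, fun _ => h1⟩
      · rw [one_smul, one_smul]; exact ⟨hQ12, fun _ => h12'⟩
    have hD : β • u1 + γ • u2 ∈ D := D.add_mem (D.smul_mem _ hu1) (D.smul_mem _ hu2)
    have hP : Perp b c (β • u1 + γ • u2) := perp_add ((perp b c).smul_mem _ hp1) ((perp b c).smul_mem _ hp2)
    rcases z2 α with rfl | rfl
    · rw [zero_smul, zero_add]
      refine good_U O hD hP hall.1 (hall.2 ?_)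
      rcases hne with h | h | h
      · exact absurd rfl h
      · exact Or.inl h
      · exact Or.inr h
    · rw [one_smul]
      obtain ⟨s, hs, h⟩ := good_add_zero O hD hP hall.1
      exact ⟨s, Y_M1 O hs, h⟩
  · apply perp_of_two O.A.toAmb0
    · rw [map_add, map_add, map_smul, map_smul, map_smul]
      exact e1
    · have h3 : ∀ (k : ZMod 2) (v : V), b (F4.w • e) (k • v) = k * b (F4.w • e) v := fun k v =>
        (b (F4.w • e)).map_smul k v
      rw [map_add, map_add, h3, h3, h3]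
      exact e2

/-- Step B, normalised -/
theorem pure_perp {e : V} {De : Submodule (ZMod 2) V} {Xe : Subgroup H} (Pe : Pt ρ b q w e De Xe)
    (hpe : Perp b a e) : ∃ l : F4, l ≠ 0 ∧ l • e ∈ V0 b a c D m := by
  by_cases hne : ∀ l : F4, e ≠ l • a
  swap
  · push Not at hne
    obtain ⟨l, hl⟩ := hne
    have hl0 : l ≠ 0 := by
      rintro rfl
      rw [zero_smul] at hl
      exact Pe.ne hl
    refine ⟨l⁻¹, inv_ne_zero hl0, ?_⟩
    rw [hl, inv_smul_smul₀ hl0]
    exact a_mem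
  obtain ⟨l, hl0, hl⟩ := type_one O.A O.P Pe hpe hne
  obtain ⟨α, u0, hu0, hp0, hle⟩ := dec_D O hl
  by_cases hα : im α = 0
  · refine ⟨l, hl0, ?_⟩
    rw [hle, smul_reim, hα, zero_smul, smul_zero, add_zero]
    exact (V0 b a c D m).add_mem ((V0 b a c D m).smul_mem _ a_mem) (U_mem hu0 hp0)
  exfalso
  have hu00 : u0 ≠ 0 := by
    rintro rfl
    rw [add_zero] at hle
    apply hne (l⁻¹ * α)
    rw [mul_smul, ← hle, inv_smul_smul₀ hl0]
  obtain ⟨u', hu', hp', h0', hne', hg, hQ⟩ := exists_Z O hu0 hp0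
  obtain ⟨s, hs, hsa⟩ := good_add_zero O hu' hp' hQ
  have P' := Map.map O.A O.P s (Or.inl (O.Q.lin s hs))
  have he : e = (l⁻¹ * α) • a + l⁻¹ • u0 := by
    have := congrArg (fun x => l⁻¹ • x) hle
    simp only [inv_smul_smul₀ hl0, smul_add, smul_smul] at this
    exact this
  have hpe' : Perp b (ρ s a) e := by
    rw [hsa]
    apply O.A.perp_symm
    apply perp_add (O.A.perp_symm hpe)
    intro k
    rw [he, smul_add, map_add, LinearMap.add_apply, smul_smul, smul_smul]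
    have e1 : b ((k * (l⁻¹ * α)) • a) u' = 0 := O.P.perpD hu' _
    have e2 : b ((k * l⁻¹) • u0) u' = 0 := by
      rw [b_smul O (U_mem hu0 hp0) (U_mem hu' hp'), hg, mul_zero]
    rw [e1, e2, add_zero]
  -- comparison of coordinates
  have key : ∀ {x y z : ZMod 2}, x • a + y • u0 + z • u' = 0 → x = 0 ∧ y = 0 ∧ z = 0 := by
    intro x y z h
    have hx : x = 0 := by
      rcases z2 x with h1 | h1
      · exact h1
      · exfalso
        rw [h1, one_smul, add_assoc] at h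
        have h2 := eq_of_add h
        have h3 : Perp b c a := by
          rw [h2]
          exact perp_add ((perp b c).smul_mem _ hp0) ((perp b c).smul_mem _ hp')
        have h4 := h3 1
        rw [one_smul, O.A.comm, O.one] at h4
        exact one_ne_zero h4
    rw [hx, zero_smul, zero_add] at h
    refine ⟨hx, ?_⟩
    rcases z2 y with rfl | rfl <;> rcases z2 z with rfl | rfl
    · exact ⟨rfl, rfl⟩
    · rw [zero_smul, zero_add, one_smul] at h; exact absurd h h0'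
    · rw [zero_smul, add_zero, one_smul] at h; exact absurd h hu00
    · rw [one_smul, one_smul] at h; exact absurd (eq_of_add h).symm hne'
  have hne2 : ∀ k : F4, e ≠ k • ρ s a := by
    intro k hk
    rw [hsa] at hk
    have h1 : (α + l * k) • a + (1 : F4) • u0 + (l * k) • u' ∈ V0 b a c D m := by
      have h2 : (α + l * k) • a + (1 : F4) • u0 + (l * k) • u' = 0 := by
        have h3 : l • e = (l * k) • a + (l * k) • u' := by rw [hk, smul_add, smul_add, smul_smul, smul_smul]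
        have h4 := self_add (l • e)
        nth_rewrite 1 [hle] at h4
        rw [h3] at h4
        rw [← h4, add_smul, one_smul]; abel
      rw [h2]; exact Submodule.zero_mem _
    obtain ⟨h2, h3, h4⟩ := key (im_three O a_mem (U_mem hu0 hp0) (U_mem hu' hp') h1)
    have h5 : ∀ α k : F4, im (α + k) = im α + im k := by decide
    rw [h5, h4, add_zero] at h2
    exact hα h2
  obtain ⟨l', hl0', hl'⟩ := type_one O.A P' Pe hpe' hne2
  obtain ⟨d, hd, hd'⟩ := hl'
  obtain ⟨k, u2, hu2, hp2, rfl⟩ := dec_D O hd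
  change ρ s (k • a + u2) = l' • e at hd'
  rw [map_add, O.Q.lin s hs, hsa] at hd'
  have hv := Y_V0 O hs (U_mem (a := a) (m := m) hu2 hp2)
  have h1 : (l' * l⁻¹ * α + k) • a + (l' * l⁻¹) • u0 + k • u' ∈ V0 b a c D m := by
    have h2 : (l' * l⁻¹ * α + k) • a + (l' * l⁻¹) • u0 + k • u' = ρ s u2 := by
      have h3 := self_add (l' • e)
      nth_rewrite 2 [← hd'] at h3
      rw [he, smul_add, smul_smul, smul_smul, smul_add, ← mul_assoc] at h3
      apply eq_of_add
      rw [← h3, add_smul]; abel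
    rw [h2]; exact hv
  obtain ⟨h2, h3, h4⟩ := key (im_three O a_mem (U_mem hu0 hp0) (U_mem hu' hp') h1)
  have h5 : ∀ (l l' α k : F4), l ≠ 0 → l' ≠ 0 → im (l' * l⁻¹ * α + k) = 0 → im (l' * l⁻¹) = 0 → im k = 0 →
      im α = 0 := by decide +kernel
  exact hα (h5 l l' α k hl0 hl0' h2 h3 h4)

/-- Step B: every point is pure -/
theorem isPure {e : V} {De : Submodule (ZMod 2) V} {Xe : Subgroup H} (Pe : Pt ρ b q w e De Xe) :
    ∃ l : F4, l ≠ 0 ∧ l • e ∈ V0 b a c D m := by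
  obtain ⟨v, ⟨k, ⟨hk, hk'⟩, rfl⟩, hv⟩ := exists_good_perp O e
  have P1 := Map.map O.A Pe k⁻¹ (Or.inl hk.inv)
  have h1 : Perp b a (ρ k⁻¹ e) := by
    intro l
    have h2 := O.A.perp_symm hv l
    rwa [← O.A.b_inv k⁻¹, ← hk, ρ_inv] at h2
  obtain ⟨l, hl0, hl⟩ := pure_perp O P1 h1
  refine ⟨l, hl0, ?_⟩
  have h2 := (hk' _).2 hl
  rwa [hk, ρ_inv'] at h2

/-- `ρ y v₁ ∈ V₀` for good `v₁` -/
theorem good_stab {e : V} {De : Submodule (ZMod 2) V} {Xe : Subgroup H} (Pe : Pt ρ b q w e De Xe)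
    {y : H} (hy : y ∈ Xe) {v1 : V} (hg : Good ρ (V0 b a c D m) a v1) : ρ y v1 ∈ V0 b a c D m := by
  set W := V0 b a c D m with hW
  obtain ⟨l, hl0, hl⟩ := isPure O Pe
  obtain ⟨k1, ⟨hk1, hk1'⟩, rfl⟩ := hg
  set v1 := ρ k1 a with hv1
  have hv1W : v1 ∈ W := (hk1' _).2 a_mem
  have hv10 : v1 ≠ 0 := by
    intro h
    apply O.P.ne
    apply (ρ k1).injective
    rw [map_zero]; exact h
  have P2 := Map.map O.A O.P (y * k1) (Or.inl ((Pe.lin y hy).mul hk1))
  obtain ⟨l2, hl2, hl2W⟩ := isPure O P2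
  rw [ρ_mul, ← hv1] at hl2W
  set v := l • e with hv
  have he : ∀ k : F4, k • e = (k * l⁻¹) • v := by
    intro k
    rw [hv, smul_smul, mul_assoc, inv_mul_cancel₀ hl0, mul_one]
  have hv0 : v ≠ 0 := by
    intro h
    rcases smul_eq_zero.1 h with h1 | h1
    · exact hl0 h1
    · exact Pe.ne h1
  have hyv : ∀ k : F4, ρ y (k • v) = k • v := by
    intro k
    rw [hv, smul_smul]; exact Pe.fixF hy _
  have him1 : ∀ l : F4, l ≠ 0 → im l = 0 → l = 1 := by decide
  by_cases hp : Perp b e v1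
  · obtain ⟨l', hl'⟩ := Pe.delta O.A hp hy
    rw [he] at hl'
    set κ := l' * l⁻¹ with hκ
    by_cases h1 : v1 = v
    · have := hyv 1
      rw [one_smul] at this
      rw [h1, this]; exact hl
    · rw [hl', smul_add, smul_smul] at hl2W
      have h2 := im_two O hv1W hl hl2W
      have h3 : im l2 = 0 ∧ im (l2 * κ) = 0 := by
        rcases z2 (im l2) with h4 | h4 <;> rcases z2 (im (l2 * κ)) with h5 | h5
        · exact ⟨h4, h5⟩
        · rw [h4, h5, zero_smul, zero_add, one_smul] at h2; exact absurd h2 hv0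
        · rw [h4, h5, zero_smul, add_zero, one_smul] at h2; exact absurd h2 hv10
        · rw [h4, h5, one_smul, one_smul] at h2; exact absurd (eq_of_add h2) h1
      rw [him1 l2 hl2 h3.1, one_mul] at h3
      rw [hl', smul_reim, h3.2, zero_smul, smul_zero, add_zero]
      exact W.add_mem hv1W (W.smul_mem _ hl)
  · have hg1 : gf b v v1 = 1 := by
      by_contra hne
      apply hp
      intro k
      rw [he, b_smul O hl hv1W, (z2 _).resolve_right hne, mul_zero]
    set x2 := l2 • ρ y v1 with hx2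
    have h1 : ∀ k : F4, im (l2 * k) * gf b v x2 = im k := by
      intro k
      have h2 := O.A.b_inv y (k • v) v1
      rw [hyv, b_smul O hl hv1W, hg1, mul_one] at h2
      rw [← h2, ← b_smul O hl hl2W, mul_smul, O.isU l2 hl2]
    have h2 : im l2 * gf b v x2 = 0 := by
      have := h1 1
      rwa [mul_one] at this
    have h3 : gf b v x2 = 1 := by
      rcases z2 (gf b v x2) with h4 | h4
      · exfalso
        have := h1 F4.w
        rw [h4, mul_zero] at this
        exact absurd this (by decide)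
      · exact h4
    rw [h3, mul_one] at h2
    have h4 := him1 l2 hl2 h2
    rw [hx2, h4, one_smul] at hl2W
    exact hl2W

/-- **THEOREM E2, abstract form** -/
theorem stab {e : V} {De : Submodule (ZMod 2) V} {Xe : Subgroup H} (Pe : Pt ρ b q w e De Xe)
    {y : H} (hy : y ∈ Xe) {v : V} (hv : v ∈ V0 b a c D m) : ρ y v ∈ V0 b a c D m := by
  set W := V0 b a c D m with hW
  let S : Submodule (ZMod 2) V := W.comap (ρ y : V →ₗ[ZMod 2] V)
  have hS : ∀ v, Good ρ W a v → v ∈ S := fun v hv => good_stab O Pe hy hv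
  have ha : a ∈ S := hS a good_a
  have h1 : ∀ u ∈ D, Perp b c u → u + Qf ρ a c Y m u • (m • c) ∈ S := by
    intro u hu hp
    have h2 := S.add_mem ha (hS _ (good_add O hu hp))
    rwa [add_assoc, self_add_add] at h2
  have hmc : m • c ∈ S := by
    obtain ⟨u, hu, hp, hu0⟩ := O.exists_U
    obtain ⟨u', hu', hp', hg⟩ := exists_g O hu hp hu0
    have h2 := S.add_mem (S.add_mem (h1 u hu hp) (h1 u' hu' hp'))
      (h1 _ (D.add_mem hu hu') (perp_add hp hp'))
    have h3 : u + Qf ρ a c Y m u • m • c + (u' + Qf ρ a c Y m u' • m • c) +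
        (u + u' + Qf ρ a c Y m (u + u') • m • c) = m • c := by
      rw [Qf_add O hu hp hu' hp', hg, add_smul, add_smul, one_smul]
      have h4 := self_add (u + u' + (Qf ρ a c Y m u • m • c + Qf ρ a c Y m u' • m • c))
      calc _ = u + u' + (Qf ρ a c Y m u • m • c + Qf ρ a c Y m u' • m • c) +
            (u + u' + (Qf ρ a c Y m u • m • c + Qf ρ a c Y m u' • m • c)) + m • c := by abel
        _ = _ := by rw [h4, zero_add]
    rwa [h3] at h2
  obtain ⟨u, hu, hp, α, γ, rfl⟩ := mem_V0.1 hv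
  have h2 : u ∈ S := by
    have h3 := S.add_mem (h1 u hu hp) (S.smul_mem (Qf ρ a c Y m u) hmc)
    rwa [add_self_add] at h3
  exact S.add_mem h2 (S.add_mem (S.smul_mem _ ha) (S.smul_mem _ hmc))

end Cfsg.Agent.Omega.EH3.ETwo.Pure

end

-- merged: Cfsg.Agent.Omega.EH3.ETwo.Main
section

/-!
# THEOREM E2, final form

* `Om.of_norm` : some `x ∈ X` does not commute with `om` (automatic, `C_V(X) = {0, a}`);
* `main` : `7 ≤ w` ⇒ there is `V₀`, `V = V₀ ⊕ om V₀`, `b = 0` on `V₀`, `a ∈ V₀`, invariant under `⟨C_X(om)^H⟩`;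
* `not_four` : `L` normal in `H`, quasisimple, `X ∩ C_H(L) = 1`, `V|L` irreducible, `om` commuting with `L`: impossible;
* `end_two` : ... so `End_L(V) = {0, 1}`.
-/

set_option autoImplicit false
set_option linter.unusedSectionVars false
set_option linter.style.haveILetI false

namespace Cfsg.Agent.Omega.EH3.ETwo.Main

open Module Subgroup Cfsg.Agent.Omega.EH3.ETwo.Base Cfsg.Agent.Omega.EH3.ETwo.Opp
  Cfsg.Agent.Omega.EH3.ETwo.V0 Cfsg.Agent.Omega.EH3.ETwo.Inst

variable {H V : Type*} [Group H] [AddCommGroup V] [Module (ZMod 2) V]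
  {ρ : H →* (V ≃ₗ[ZMod 2] V)} {b : LinearMap.BilinForm (ZMod 2) V} {q : V → ZMod 2}
  {a : V} {D : Submodule (ZMod 2) V} {X : Subgroup H} {w : ℕ} {om : V →ₗ[ZMod 2] V}

/-- the hypothesis `ne` is automatic -/
theorem om_of (C : Cfg ρ b q a D X w) (hom : ∀ v, om (om v) = om v + v)
    (norm : ∀ h, (∀ v, ρ h (om v) = om (ρ h v)) ∨ (∀ v, ρ h (om v) = om (om (ρ h v))))
    (form : (∀ u v, b (om u) v = b u (om v)) ∨ (∀ u v, b (om u) (om v) = b u v)) : Om ρ b X om := by
  refine ⟨hom, norm, form, ?_⟩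
  by_contra hcon
  push Not at hcon
  have h1 : ∀ x ∈ X, ρ x (om a) = om a := by
    intro x hx
    rw [hcon x hx, C.X_a hx]
  have h2 := hom a
  rcases C.fix_X h1 with h | h
  · rw [h, map_zero, zero_add] at h2
    exact C.a_ne h2.symm
  · rw [h, h, self_add] at h2
    exact C.a_ne h2

/-- **THEOREM E2** -/
theorem main (O : Om ρ b X om) (C : Cfg ρ b q a D X w) (h7 : 7 ≤ w) :
    ∃ V₀ : Submodule (ZMod 2) V, V₀ ≠ ⊥ ∧ V₀ ≠ ⊤ ∧ a ∈ V₀ ∧ (∀ v ∈ V₀, om v ∈ V₀ → v = 0) ∧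
      (∀ v, ∃ x ∈ V₀, ∃ y ∈ V₀, v = x + om y) ∧ (∀ x ∈ V₀, ∀ y ∈ V₀, b x y = 0) ∧
      ∀ h, ∀ y ∈ Xo ρ X om, ∀ v ∈ V₀, ρ (h * y * h⁻¹) v ∈ V₀ := by
  letI := modOf om O.hom
  obtain ⟨h, m, hm⟩ := O.exists_op C h7
  refine ⟨V0 b a (ρ h a) D m, V0_ne_bot hm, V0_ne_top hm, a_mem, fun v hv hv' => inf_w hm hv hv',
    fun v => exists_dec hm v, fun x hx y hy => b_V0 hm hx hy, ?_⟩
  intro g y hy v hv
  exact Pure.stab hm (O.pt_map C h7 g) ⟨y, hy, rfl⟩ hv

/-- the subgroup `⟨C_X(om)^H⟩` leaves `V₀` invariant -/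
theorem main' (O : Om ρ b X om) (C : Cfg ρ b q a D X w) (h7 : 7 ≤ w) :
    ∃ V₀ : Submodule (ZMod 2) V, V₀ ≠ ⊥ ∧ V₀ ≠ ⊤ ∧
      ∀ g ∈ normalClosure (Xo ρ X om : Set H), ∀ v ∈ V₀, ρ g v ∈ V₀ := by
  obtain ⟨V₀, h0, h1, -, -, -, -, h2⟩ := main O C h7
  refine ⟨V₀, h0, h1, ?_⟩
  have := C.finite_H
  let S : Subgroup H :=
    { carrier := {g | ∀ v, ρ g v ∈ V₀ ↔ v ∈ V₀}
      one_mem' := fun v => by rw [C.ρ_one]
      mul_mem' := fun {g k} hg hk v => by rw [C.ρ_mul, hg, hk]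
      inv_mem' := fun {g} hg v => by rw [← hg, C.ρ_apply_inv] }
  have h3 : normalClosure (Xo ρ X om : Set H) ≤ S := by
    rw [normalClosure, closure_le]
    intro g hg
    obtain ⟨y, hy, hyg⟩ := Group.mem_conjugatesOfSet_iff.1 hg
    obtain ⟨k, hk⟩ := isConj_iff.1 hyg
    have h4 : ∀ v ∈ V₀, ρ g v ∈ V₀ := by
      intro v hv
      rw [← hk]; exact h2 k y hy v hv
    intro v
    refine ⟨fun hv => ?_, h4 v⟩
    have h5 := h4 _ hv
    rw [← C.ρ_mul] at h5
    have h6 : g * g = 1 := by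
      rw [← hk]
      have := C.X_sq y hy.1
      calc k * y * k⁻¹ * (k * y * k⁻¹) = k * (y * y) * k⁻¹ := by group
        _ = 1 := by rw [this]; group
    rwa [h6, C.ρ_one] at h5
  intro g hg v hv
  exact (h3 hg v).2 hv

/-- `C_X(om) ≠ 1` -/
theorem Xo_ne (O : Om ρ b X om) (C : Cfg ρ b q a D X w) (h7 : 7 ≤ w) : ∃ y ∈ Xo ρ X om, y ≠ 1 := by
  letI := modOf om O.hom
  have P := O.pt C
  have := C.finite_V
  obtain ⟨d, hd, hd'⟩ : ∃ d ∈ D, ∀ l : F4, d ≠ l • a := by
    by_contra hcon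
    push Not at hcon
    have h1 := Submodule.finrank_mono (show D ≤ line a from fun d hd => mem_line.2 (hcon d hd))
    have h2 := finrank_line_le a
    have h3 := P.dim
    omega
  obtain ⟨y, hy, h⟩ := P.exists_move hd hd'
  refine ⟨y, hy, ?_⟩
  rintro rfl
  rw [C.ρ_one] at h
  exact C.a_ne (left_eq_add.1 h)

/-- **the consumer form**: `End_L(V) = F_4` is impossible -/
theorem not_four (C : Cfg ρ b q a D X w) (h7 : 7 ≤ w) {L : Subgroup H} (hL : L.Normal) (hq : IsQuasisimple L)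
    (hX : X ⊓ centralizer (L : Set H) = ⊥)
    (hirr : ∀ W : Submodule (ZMod 2) V, (∀ l ∈ L, ∀ v ∈ W, ρ l v ∈ W) → W = ⊥ ∨ W = ⊤)
    (O : Om ρ b X om) : False := by
  obtain ⟨V₀, h0, h1, h2⟩ := main' O C h7
  set M := normalClosure (Xo ρ X om : Set H) with hM
  have hMn : M.Normal := normalClosure_normal
  -- `L ≤ M`
  have hLM : L ≤ M := by
    by_contra hcon
    have h3 : (M ⊓ L).subgroupOf L ≠ ⊤ := by
      intro h
      apply hcon
      intro l hl
      have h4 : (⟨l, hl⟩ : L) ∈ (M ⊓ L).subgroupOf L := by rw [h]; exact mem_top _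
      exact (mem_subgroupOf.1 h4).1
    have h4 : ((M ⊓ L).subgroupOf L).Normal := (inferInstance : (M ⊓ L).Normal).subgroupOf L
    have h5 := Cfsg.Agent.SignalizersComponents.QsBasic.normal_le_center_of_ne_top hq _ h3
    have h6 : M ⊓ L ≤ centralizer (L : Set H) := by
      intro g hg
      have h20 : (⟨g, hg.2⟩ : L) ∈ (M ⊓ L).subgroupOf L := mem_subgroupOf.2 hg
      have h8 := mem_center_iff.1 (h5 h20)
      rw [mem_centralizer_iff]
      intro l hl
      exact congrArg Subtype.val (h8 ⟨l, hl⟩)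
    have h21 : ⁅M, L⁆ ≤ centralizer (L : Set H) := (commutator_le_inf M L).trans h6
    have h8 : ⁅⁅M, L⁆, L⁆ = ⊥ := by
      rw [commutator_eq_bot_iff_le_centralizer]; exact h21
    have h9 : ⁅⁅L, M⁆, L⁆ = ⊥ := by rwa [commutator_comm L M]
    have h10 : ⁅⁅L, L⁆, M⁆ = ⊥ := commutator_commutator_eq_bot_of_rotate h9 h8
    have h11 : ⁅L, L⁆ = L := by
      have h12 := hq.1.commutator_eq_top
      have h13 := congrArg (Subgroup.map L.subtype) h12
      rw [commutator_def, map_commutator, ← MonoidHom.range_eq_map, range_subtype] at h13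
      exact h13
    rw [h11, commutator_comm, commutator_eq_bot_iff_le_centralizer] at h10
    obtain ⟨y, hy, hy1⟩ := Xo_ne O C h7
    have h12 : y ∈ X ⊓ centralizer (L : Set H) := ⟨hy.1, h10 (subset_normalClosure hy)⟩
    rw [hX] at h12
    exact hy1 (mem_bot.1 h12)
  rcases hirr V₀ (fun l hl v hv => h2 l (hLM hl) v hv) with h | h
  · exact h0 h
  · exact h1 h

/-- **`End_L(V) = F_2`** -/
theorem end_two (C : Cfg ρ b q a D X w) (h7 : 7 ≤ w) {L : Subgroup H} (hL : L.Normal) (hq : IsQuasisimple L)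
    (hX : X ⊓ centralizer (L : Set H) = ⊥)
    (hirr : ∀ W : Submodule (ZMod 2) V, (∀ l ∈ L, ∀ v ∈ W, ρ l v ∈ W) → W = ⊥ ∨ W = ⊤) :
    ∀ f : V →ₗ[ZMod 2] V, (∀ l ∈ L, ∀ v, f (ρ l v) = ρ l (f v)) → f = 0 ∨ f = LinearMap.id := by
  rcases Irr.Shape.shape C hL hirr with h | ⟨ζ, h1, -, -, h2, h3⟩
  · exact h
  · exfalso
    refine not_four C h7 hL hq hX hirr (om := ζ) (om_of C h1 (fun h => ?_) ?_)
    · rcases h2 h with h4 | h4
      · exact Or.inl h4
      · right
        intro v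
        rw [h4, h1]
    · rcases h3 with h4 | h4
      · exact Or.inl h4
      · right
        intro u v
        rw [h4, h1, map_add, add_assoc, add_comm (b u v), ← add_assoc, CharTwo.add_self_eq_zero, zero_add]

end Cfsg.Agent.Omega.EH3.ETwo.Main

end

-- merged: Cfsg.Agent.Mrg.Omega.EH3.Kf.Main
section

section


/-!
# EH3, Lie rows: from the configuration to the output `Four` (helper227)

`L` normal quasisimple in `H`, `X ∩ C_H(L) = 1`:

* `Fam K` : `RowEH3 K ∨ KfRowU K` (the simple group `K` is dead for EH3 or has a row in the sense of KF);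
* `four_of_kfRow` : if `V|L` is irreducible with `End_L(V) = F₂`, then `KfRowU L` gives `Four ρ a X`;
* `End6 P` : for `w = 6` and `P (L/Z(L))` the shape `End_L(V) = F₄` does not occur;
* `four` : THEOREM IRR (`Irr.irr`) + `Irr.Shape.shape` + THEOREM E2 (`ETwo.Main.end_two`) + `RowOf.rowOf'` + the row.
-/

set_option autoImplicit false

namespace Cfsg.Agent.Omega.EH3.Kf.Main

open Subgroup Cfsg.Agent.ChevalleyStructure.CoxeterGeom Cfsg.Agent.Tits.Roots Cfsg.Agent.Tits.Core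
  Cfsg.Agent.Nodes.RGDLib Cfsg.Agent.Nodes.BNOf
  Cfsg.Agent.Omega.EH3.Kf.Base Cfsg.Agent.Omega.EH3.Kf.Goal Cfsg.Agent.Omega.EH3.Kf.FamRow
  Cfsg.Agent.Omega.EH3.Kf.FamRowU

universe u v

/-- the simple group `K` is dead for EH3 or has a row in the sense of KF -/
def Fam (K : Type v) [Group K] : Prop := RowEH3.{u} K ∨ KfRowU.{u} K

theorem Fam.of_row {K : Type v} [Group K] (h : RowEH3.{u} K) : Fam.{u} K := Or.inl h

theorem Fam.of_kfRow {K : Type v} [Group K] (h : KfRow.{u} K) : Fam.{u} K := Or.inr h.toU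

theorem Fam.of_equiv {K : Type v} {K' : Type u} [Group K] [Group K'] (h : Fam.{u} K) (e : K ≃* K') : Fam.{u} K' :=
  h.imp (fun h => h.equiv e.symm) (fun h => h.of_equiv e)

section cfg

variable {H V : Type u} [Group H] [AddCommGroup V] [Module (ZMod 2) V]
  {ρ : H →* (V ≃ₗ[ZMod 2] V)} {b : LinearMap.BilinForm (ZMod 2) V} {q : V → ZMod 2}
  {a : V} {D : Submodule (ZMod 2) V} {P : Subgroup H} {w : ℕ} {L : Subgroup H}

theorem center_eq_bot (hC : centralizer (L : Set H) = ⊥) : center L = ⊥ := by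
  rw [eq_bot_iff]
  intro z hz
  rw [mem_bot]
  apply Subtype.ext
  have h1 : (z : H) ∈ centralizer (L : Set H) := by
    rw [mem_centralizer_iff]
    intro l hl
    exact congrArg Subtype.val (mem_center_iff.1 hz ⟨l, hl⟩)
  rw [hC, mem_bot] at h1
  exact h1

/-- **The irreducible shape with `End = F₂`.** -/
theorem four_of_kfRow (C : Cfg ρ b q a D P w) (hL : L.Normal)
    (hirr : ∀ W : Submodule (ZMod 2) V, (∀ l ∈ L, ∀ v ∈ W, ρ l v ∈ W) → W = ⊥ ∨ W = ⊤)
    (hEnd : ∀ f : V →ₗ[ZMod 2] V, (∀ g ∈ L, ∀ v, f (ρ g v) = ρ g (f v)) → f = 0 ∨ f = LinearMap.id)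
    (hK : KfRowU.{u} L) : Four ρ a P := by
  obtain ⟨l, M, A, h, T, n, X, B, hR⟩ := hK
  have := B.fin
  have hfH := C.finite_H
  obtain ⟨g, hP, -, R⟩ := RowOf.rowOf' C B.rgd B.gen B.ab B.nd B.one hirr hEnd
  obtain ⟨q', i, G, E⟩ := hR.map (MulAut.conj g) V _ b a D _ w R
  refine four_of_end hL R ?_ (B.map (MulAut.conj g)).gen (RowOf.cent_eq_bot C hEnd) G E
  rw [subgroupOf_map_subtype]
  refine (inf_eq_left.2 fun x hx => ?_).symm
  obtain ⟨z, -, rfl⟩ := hP x hx
  exact z.2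

end cfg

/-- **The shape `End_L(V) = F₄` does not occur for `w = 6`, `P (L/Z(L))`** (helper415). -/
def End6 (Pr : ∀ (K : Type u) [Group K], Prop) : Prop :=
  ∀ (H V : Type u) [Group H] [AddCommGroup V] [Module (ZMod 2) V] (ρ : H →* (V ≃ₗ[ZMod 2] V))
    (b : LinearMap.BilinForm (ZMod 2) V) (q : V → ZMod 2) (a : V) (D : Submodule (ZMod 2) V) (P : Subgroup H)
    (L : Subgroup H), Cfg ρ b q a D P 6 → L.Normal → IsQuasisimple L → Odd (Nat.card (center L)) →
    P ⊓ centralizer (L : Set H) = ⊥ → Pr (L ⧸ center L) →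
    (∀ W : Submodule (ZMod 2) V, (∀ l ∈ L, ∀ v ∈ W, ρ l v ∈ W) → W = ⊥ ∨ W = ⊤) →
    ∀ f : V →ₗ[ZMod 2] V, (∀ l ∈ L, ∀ v, f (ρ l v) = ρ l (f v)) → f = 0 ∨ f = LinearMap.id

section main

variable {H V : Type u} [Group H] [AddCommGroup V] [Module (ZMod 2) V]
  {ρ : H →* (V ≃ₗ[ZMod 2] V)} {b : LinearMap.BilinForm (ZMod 2) V} {q : V → ZMod 2}
  {a : V} {D : Submodule (ZMod 2) V} {P : Subgroup H} {w : ℕ} {L : Subgroup H}

theorem commutator_eq {L : Subgroup H} (h : commutator L = ⊤) : ⁅L, L⁆ = L := by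
  have h1 := congrArg (Subgroup.map L.subtype) h
  rw [_root_.commutator_def, map_commutator, ← MonoidHom.range_eq_map, range_subtype] at h1
  exact h1

/-- **KF.** -/
theorem four {Pr : ∀ (K : Type u) [Group K], Prop} (e6 : End6 Pr) (hfam : ∀ (K : Type u) [Group K], Pr K → Fam.{u} K)
    (C : Cfg ρ b q a D P w) (hL : L.Normal) (hq : IsQuasisimple L) (ho : Odd (Nat.card (center L)))
    (hX : P ⊓ centralizer (L : Set H) = ⊥) (hK : Pr (L ⧸ center L)) : Four ρ a P := by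
  have hperf : commutator L = ⊤ := hq.1.commutator_eq_top
  rcases hfam _ hK with hF | hF
  · exfalso
    refine hF _ _ ρ b q a D P w L (QuotientGroup.mk' (center L)) hL ⟨hperf, QuotientGroup.mk'_surjective _, ?_, ?_⟩
      hX C
    · rw [QuotientGroup.ker_mk']
    · rw [QuotientGroup.ker_mk']
      exact ho
  · have hne : L ≠ ⊥ := by
      rintro rfl
      have := hq.2
      obtain ⟨x, y, hxy⟩ := this.exists_pair_ne
      exact hxy (Subsingleton.elim x y)
    have hirr := Irr.irr C hL (commutator_eq hperf) hne hX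
    have hEnd : ∀ f : V →ₗ[ZMod 2] V, (∀ l ∈ L, ∀ v, f (ρ l v) = ρ l (f v)) → f = 0 ∨ f = LinearMap.id := by
      rcases Nat.lt_or_ge w 7 with h7 | h7
      · obtain rfl : w = 6 := by have := C.six; omega
        exact e6 H V ρ b q a D P L C hL hq ho hX hK hirr
      · exact ETwo.Main.end_two C h7 hL hq hX hirr
    have hZ := center_eq_bot (RowOf.cent_eq_bot C hEnd)
    refine four_of_kfRow C hL hirr hEnd (hF.of_equiv ?_)
    refine (MulEquiv.ofBijective (QuotientGroup.mk' (center L)) ⟨?_, QuotientGroup.mk'_surjective _⟩).symm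
    rw [← MonoidHom.ker_eq_bot_iff, QuotientGroup.ker_mk', hZ]

end main

end Cfsg.Agent.Omega.EH3.Kf.Main

end

section


/-!
# EH3, Lie rows: the table of the families of characteristic 2 (helper227)

`Rows` : one field per family; `Rows.fam : IsLieTypeChar 2 K → Fam K`; `four_lie`.
-/

set_option autoImplicit false

namespace Cfsg.Agent.Omega.EH3.Kf.Table

open Cfsg Subgroup Cfsg.Agent.Omega.EH3.Kf.FamRow Cfsg.Agent.Omega.EH3.Kf.FamRowU Cfsg.Agent.Omega.EH3.Kf.Main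
  Cfsg.Agent.Omega.EH3.Kf.Goal

universe u

/-- The rows of the families of characteristic 2. -/
structure Rows : Prop where
  /-- `PSL_n(q)`, `n ≥ 3` -/
  psl : ∀ (F : Type) [Field F] [Fintype F] [CharP F 2] (n : ℕ), 3 ≤ n →
    Fam.{u} (Matrix.ProjectiveSpecialLinearGroup (Fin n) F)
  /-- `PSL_2(q)` -/
  psl2 : ∀ (F : Type) [Field F] [Fintype F] [CharP F 2], 4 ≤ Fintype.card F →
    Fam.{u} (Matrix.ProjectiveSpecialLinearGroup (Fin 2) F)
  psp : ∀ (F : Type) [Field F] [Fintype F] [CharP F 2] (m : ℕ), 2 ≤ m → (m = 2 → 3 ≤ Fintype.card F) →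
    Fam.{u} (PSp m F)
  /-- `PSU_{2m}(q)` -/
  psuEven : ∀ (F : Type) [Field F] [Fintype F] [CharP F 2] (m q : ℕ), Fintype.card F = q ^ 2 → 2 ≤ m →
    Fam.{u} (PSU (2 * m) F q)
  /-- `PSU_{2m+1}(q)`, `m ≥ 2` -/
  psuOdd : ∀ (F : Type) [Field F] [Fintype F] [CharP F 2] (m q : ℕ), Fintype.card F = q ^ 2 → 2 ≤ m →
    Fam.{u} (PSU (2 * m + 1) F q)
  /-- `PSU_3(q)` -/
  psu3 : ∀ (F : Type) [Field F] [Fintype F] [CharP F 2] (q : ℕ), Fintype.card F = q ^ 2 → q ≠ 2 →
    Fam.{u} (PSU 3 F q)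
  omp : ∀ (F : Type) [Field F] [Fintype F] [CharP F 2] (m : ℕ), 4 ≤ m → Fam.{u} (POmega F (quadFormPlus m F))
  omm : ∀ (F : Type) [Field F] [Fintype F] [CharP F 2] (m : ℕ) (a b : F), 4 ≤ m →
    (∀ z₁ z₂ : F, z₁ ^ 2 + a * z₁ * z₂ + b * z₂ ^ 2 = 0 → z₁ = 0 ∧ z₂ = 0) →
    Fam.{u} (POmega F (quadFormMinus (m - 1) F a b))
  g2 : ∀ (F : Type) [Field F] [Fintype F] [CharP F 2], 3 ≤ Fintype.card F → Fam.{u} (Lie.chevG2.group F)
  f4 : ∀ (F : Type) [Field F] [Fintype F] [CharP F 2], Fam.{u} (Lie.chevF4.group F)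
  e6 : ∀ (F : Type) [Field F] [Fintype F] [CharP F 2], Fam.{u} (Lie.chevE6.group F)
  e7 : ∀ (F : Type) [Field F] [Fintype F] [CharP F 2], Fam.{u} (Lie.chevE7.group F)
  e8 : ∀ (F : Type) [Field F] [Fintype F] [CharP F 2], Fam.{u} (Lie.chevE8.group F)
  /-- `²E₆(q)` -/
  twE6 : ∀ (F : Type) [Field F] [Fintype F] [CharP F 2] (q : ℕ), IsPrimePow q → Fintype.card F = q ^ 2 →
    Fam.{u} (Lie.twistedE6 F q)
  /-- `³D₄(q)` -/
  twD4 : ∀ (F : Type) [Field F] [Fintype F] [CharP F 2] (q : ℕ), IsPrimePow q → Fintype.card F = q ^ 3 →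
    Fam.{u} (Lie.twistedD4 F q)
  sz : ∀ (K : Type u) [Group K], Lie.IsoSuzuki K → Fam.{u} K
  ree : ∀ (K : Type u) [Group K], Lie.Iso2F4 K → Fam.{u} K

/-- **The table.** -/
theorem Rows.fam (R : Rows.{u}) (K : Type u) [Group K] (hK : IsLieTypeChar 2 K) : Fam.{u} K := by
  rcases hK with h | h | h | h | h | h | h | h | h | h | h
  · obtain ⟨F, _, _, _, n, hn, h2, ⟨e⟩⟩ := h
    rcases Nat.lt_or_ge n 3 with h3 | h3
    · obtain rfl : n = 2 := by omega
      exact (R.psl2 F (h2 rfl)).of_equiv e.symm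
    · exact (R.psl F n h3).of_equiv e.symm
  · obtain ⟨F, _, _, _, m, hm, h2, ⟨e⟩⟩ := h
    exact (R.psp F m hm h2).of_equiv e.symm
  · obtain ⟨F, _, _, _, n, q, hq, hn, h2, ⟨e⟩⟩ := h
    rcases Nat.lt_or_ge n 4 with h3 | h3
    · obtain rfl : n = 3 := by omega
      exact (R.psu3 F q hq fun h => h2 ⟨rfl, h⟩).of_equiv e.symm
    · rcases Nat.even_or_odd' n with ⟨m, rfl | rfl⟩
      · exact (R.psuEven F m q hq (by omega)).of_equiv e.symm
      · exact (R.psuOdd F m q hq (by omega)).of_equiv e.symm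
  · obtain ⟨F, _, _, _, m, -, ho, -⟩ := h
    exfalso
    have h1 : 2 ∣ Fintype.card F := by
      obtain ⟨n, -, hn⟩ := FiniteField.card F 2
      rw [hn]
      exact dvd_pow_self 2 n.2.ne'
    exact (Nat.not_even_iff_odd.2 ho) (even_iff_two_dvd.2 h1)
  · obtain ⟨F, _, _, _, m, hm, ⟨e⟩⟩ := h
    exact (R.omp F m hm).of_equiv e.symm
  · obtain ⟨F, _, _, _, m, a, b, hm, hab, ⟨e⟩⟩ := h
    exact (R.omm F m a b hm hab).of_equiv e.symm
  · obtain ⟨F, _, _, _, h⟩ := h
    rcases h with ⟨h3, ⟨e⟩⟩ | ⟨⟨e⟩⟩ | ⟨⟨e⟩⟩ | ⟨⟨e⟩⟩ | ⟨⟨e⟩⟩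
    · exact (R.g2 F h3).of_equiv e.symm
    · exact (R.f4 F).of_equiv e.symm
    · exact (R.e6 F).of_equiv e.symm
    · exact (R.e7 F).of_equiv e.symm
    · exact (R.e8 F).of_equiv e.symm
  · obtain ⟨F, _, _, _, q, hq, h⟩ := h
    rcases h with ⟨h3, ⟨e⟩⟩ | ⟨h3, ⟨e⟩⟩
    · exact (R.twE6 F q hq h3).of_equiv e.symm
    · exact (R.twD4 F q hq h3).of_equiv e.symm
  · exact R.sz K h.2
  · exact R.ree K h.2
  · exact absurd h.1 (by norm_num)

/-- **KF for the groups of Lie type of characteristic 2.** -/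
theorem four_lie (R : Rows.{u}) (e6 : End6.{u} (fun K _ => IsLieTypeChar 2 K)) {H V : Type u} [Group H]
    [AddCommGroup V] [Module (ZMod 2) V] {ρ : H →* (V ≃ₗ[ZMod 2] V)} {b : LinearMap.BilinForm (ZMod 2) V}
    {q : V → ZMod 2} {a : V} {D : Submodule (ZMod 2) V} {P : Subgroup H} {w : ℕ} {L : Subgroup H}
    (C : Cfg ρ b q a D P w) (hL : L.Normal) (hq : IsQuasisimple L) (ho : Odd (Nat.card (center L)))
    (hX : P ⊓ centralizer (L : Set H) = ⊥) (hK : IsLieTypeChar 2 (L ⧸ center L)) : Four ρ a P :=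
  four e6 (fun K _ h => R.fam K h) C hL hq ho hX hK

end Cfsg.Agent.Omega.EH3.Kf.Table

end

end

private theorem dce_065f69dcd9af : _root_.True := by
  try have : _root_.True := by simp only [_root_.Cfsg.Agent.Omega.EH3.ETwo.Base.sD.eq_1]
  try have : _root_.True := by simp only [_root_.Cfsg.Agent.Omega.EH3.ETwo.Base.line.eq_1]
  try have : _root_.True := by simp only [_root_.Cfsg.Agent.Omega.EH3.ETwo.Opp.Op.kap.eq_1]
  try have : _root_.True := by simp only [_root_.Cfsg.Agent.Omega.EH3.ETwo.Opp.Op.bet.eq_1]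
  try have : _root_.True := by simp only [_root_.Cfsg.Agent.Omega.EH3.ETwo.V0.V0.eq_1]
  try have : _root_.True := by simp only [_root_.Cfsg.Agent.Omega.EH3.ETwo.V0.Qf.eq_1]
  try have : _root_.True := by simp only [_root_.Cfsg.Agent.Omega.EH3.ETwo.V0.gf.eq_1]
  try have : _root_.True := by simp only [_root_.Cfsg.Agent.Omega.EH3.ETwo.Opp.Op.dl.eq_1]
  try have : _root_.True := by simp only [_root_.Cfsg.Agent.Omega.EH3.ETwo.Opp.cf.eq_1]
  exact _root_.True.intro
end

-- part: Mrg/Omega/EH3/Kf/TableSL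
section
prune_inst 0x20106444486210001000058251003c06ce00019200280801e06002400fc8ef608d022920943010120822a2040038006813080010422000000a000400011d058100a91202b1588000200086800084400000000000000000000000000000000000200000000
set_option linter.all false
open scoped Cfsg.Agent.FastGrp

-- merged: Cfsg.Agent.Mrg.Omega.EH3.Kf.SLEnd
section

section


/-!
# EH3, Lie rows in characteristic 2: the simply laced types (helper134)

Glue of `Orth.nodeOK`, the lists of helper827 and `Tri.not_kills`. `R : Row cs h T n X ρ b a D X0 w`, all `|X x| = 2 ^ m`.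

* `core` : `∃ i, Mv ρ n a = {i}`, `X0 = V_{i}ᶜ`, `NodeOK cs h i m`, `1 ≤ m`, not all triples are killed;
* `end_A` : type `A_l` ==> `l = 5`, `i = 2`, `m = 1`;
* `end_D` : type `D_{l+2}` (`2 ≤ l`) ==> `l = 4`, `i = 4` or `5`, `m = 1`;
* `end_E6`, `end_E8` : impossible; `end_E7` ==> `i = 6`, `m = 1`;
* `fix_other` : `n j` fixes `a` for `j ≠ i`.
-/

set_option autoImplicit false
set_option linter.unusedSectionVars false

namespace Cfsg.Agent.Omega.EH3.Kf.SLEnd

open CoxeterSystem CoxeterMatrix Cfsg.Agent.ChevalleyStructure.CoxeterGeom Cfsg.Agent.Tits.Roots Cfsg.Agent.Tits.Core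
  Cfsg.Agent.Tits.RootComb Cfsg.Agent.Tits.Exchange Cfsg.Agent.Nodes.Reps Cfsg.Agent.Nodes.BNOf
  Cfsg.Agent.Nodes.StabComb Cfsg.Agent.Nodes.Bruhat Cfsg.Agent.Nodes.OppDec Cfsg.Agent.Nodes.LeviDec
  Cfsg.Agent.KFacts.RgdSL Cfsg.Agent.KFacts.RgdPerf
  Cfsg.Agent.Omega.EH3.Kf.Base Cfsg.Agent.Omega.EH3.Kf.Node
open Cfsg.Agent.LieRecognition.BNCox (cA cA_apply)

variable {Y V : Type*} [Group Y] [AddCommGroup V] [Module (ZMod 2) V] {T : Subgroup Y}
  {ρ : Y →* (V ≃ₗ[ZMod 2] V)} {b : LinearMap.BilinForm (ZMod 2) V} {a : V} {D : Submodule (ZMod 2) V}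
  {X0 : Subgroup Y} {w : ℕ} {m : ℕ}

section General

variable {I W : Type*} [Fintype I] [DecidableEq I] [Group W] {M : CoxeterMatrix I} {cs : CoxeterSystem M W}
  {A : I → I → ℤ} {h : IsCartan M A} {n : I → Y} {X : (I → ℤ) → Subgroup Y}

/-- the root system is simply laced -/
theorem sl_of [Finite W] (h4 : ∀ i j, M i j ≠ 4) (h6 : ∀ i j, M i j ≠ 6) : SL cs h :=
  fun _ _ hx hy => Cfsg.Agent.Nodes.SimplyLaced.cpr_symm cs h h4 h6 hx hy

/-- the two forms of connectedness -/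
theorem conn_iff (hc : Cfsg.Agent.KFacts.SLRow.Def.Conn M) :
    ∀ J : Set I, J.Nonempty → J ≠ Set.univ → ∃ a ∈ J, ∃ b, b ∉ J ∧ M a b ≠ 2 := by
  intro J hJ hJ1
  obtain ⟨i, hi, j, hj, hij⟩ := hc J hJ (Set.nonempty_compl.2 hJ1)
  exact ⟨i, hi, j, hj, hij⟩

theorem mem_NotJ_iff {i : I} (hle : ∀ x, IsRoot cs h x → x i ≤ 1) {x : I → ℤ} :
    x ∈ NotJ cs h ({i}ᶜ : Set I) ↔ IsRoot cs h x ∧ x i = 1 := by
  constructor
  · rintro ⟨hx, h0, k, hk, hk0⟩
    have hki : k = i := not_not.1 hk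
    subst hki
    have := hle x hx
    exact ⟨hx, by omega⟩
  · rintro ⟨hx, hx1⟩
    exact ⟨hx, nonneg_of_pos_apply hx (k := i) (by omega), i, not_not.2 rfl, by omega⟩

/-- **Simply laced rows: (C), (D), (E), (F), (G).** -/
theorem core [Finite W] [Finite Y] (R : Row cs h T n X ρ b a D X0 w) (h4 : ∀ i j, M i j ≠ 4) (h6 : ∀ i j, M i j ≠ 6)
    (hc : Cfsg.Agent.KFacts.SLRow.Def.Conn M) (hm : ∀ x, IsRoot cs h x → Nat.card (X x) = 2 ^ m) :
    ∃ i, Mv ρ n a = {i} ∧ X0 = VJ cs h X {i}ᶜ ∧ NodeOK cs h i m ∧ 1 ≤ m ∧ (m = 1 → ¬ Kills cs h i) := by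
  have hs : SL cs h := sl_of h4 h6
  obtain ⟨i, hK, hX0, N⟩ := Orth.nodeOK R hs (conn_iff hc) hm
  refine ⟨i, hK, hX0, N, ?_, ?_⟩
  · by_contra hcon
    have hm0 : m = 0 := by omega
    have h1 := hm _ (isRoot_sr cs h i)
    rw [hm0, pow_zero, Subgroup.card_eq_one] at h1
    exact X_ne_bot R.rgd (isRoot_sr cs h i) h1
  · intro hm1
    subst hm1
    refine Tri.not_kills R hs (fun x hx => by rw [hm x hx, pow_one]) ?_ ?_
    · rw [hX0]
      unfold VJ
      congr 1
      ext x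
      exact mem_NotJ_iff N.le_one
    · intro x hx hx0 g hg
      refine Opp.PJ_fix R ?_
      rw [hK]
      refine LJ_le_PJ (X_le_LJ ⟨hx, fun k hk => ?_⟩ hg)
      have hki : k = i := not_not.1 hk
      rw [hki, hx0]

/-- the other nodes fix `a` -/
theorem fix_other {i j : I} (hK : Mv ρ n a = {i}) (hj : j ≠ i) : ρ (n j) a = a := by
  by_contra hcon
  have : j ∈ Mv ρ n a := hcon
  rw [hK] at this
  exact hj this

end General

/-- **Type `A_l`.** -/
theorem end_A {l : ℕ} {W : Type*} [Group W] [Finite W] [Finite Y] {cs : CoxeterSystem (cA l) W}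
    {A : Fin l → Fin l → ℤ} {h : IsCartan (cA l) A} {n : Fin l → Y} {X : (Fin l → ℤ) → Subgroup Y}
    (R : Row cs h T n X ρ b a D X0 w) (hm : ∀ x, IsRoot cs h x → Nat.card (X x) = 2 ^ m) :
    l = 5 ∧ m = 1 ∧ ∃ i : Fin l, i.val = 2 ∧ Mv ρ n a = {i} ∧ X0 = VJ cs h X {i}ᶜ := by
  obtain ⟨i, hK, hX0, N, hm1, hG⟩ := core R (fun i j => (KFacts.SLRow.Psl.cA_ne i j).1)
    (fun i j => (KFacts.SLRow.Psl.cA_ne i j).2) KFacts.SLRow.Psl.conn_cA hm
  rcases ListA.list_A hm1 N hG with ⟨hl, hm3⟩ | ⟨hl, hi, hm'⟩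
  · exfalso
    subst hl
    have hi0 : i = 0 := Subsingleton.elim _ _
    subst hi0
    have h1 : VJ cs h X ({0}ᶜ : Set (Fin 1)) = X (sr 0) := by
      apply le_antisymm
      · refine RGD.Sup_le fun x hx => ?_
        obtain ⟨hxr, hx1⟩ := (mem_NotJ_iff N.le_one).1 hx
        have : x = sr 0 := by
          funext k
          have hk : k = 0 := Subsingleton.elim _ _
          rw [hk, hx1, sr_self]
        rw [this]
      · exact RGD.le_Sup ((mem_NotJ_iff N.le_one).2 ⟨isRoot_sr cs h 0, sr_self 0⟩)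
    have h2 := R.card_X
    rw [hX0, h1, hm _ (isRoot_sr cs h 0)] at h2
    have h3 := R.six
    have h4 : m = w - 1 := Nat.pow_right_injective le_rfl h2
    omega
  · exact ⟨hl, hm', i, hi, hK, hX0⟩

/-- **Type `D_{l+2}`.** -/
theorem end_D {l : ℕ} (hl : 2 ≤ l) {W : Type*} [Group W] [Finite W] [Finite Y]
    {cs : CoxeterSystem (Cfsg.Agent.Nodes.TypeD.M l) W}
    {A : Fin (l + 2) → Fin (l + 2) → ℤ} {h : IsCartan (Cfsg.Agent.Nodes.TypeD.M l) A} {n : Fin (l + 2) → Y}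
    {X : (Fin (l + 2) → ℤ) → Subgroup Y}
    (R : Row cs h T n X ρ b a D X0 w) (hm : ∀ x, IsRoot cs h x → Nat.card (X x) = 2 ^ m) :
    l = 4 ∧ m = 1 ∧ ∃ i : Fin (l + 2), (i.val = 4 ∨ i.val = 5) ∧ Mv ρ n a = {i} ∧ X0 = VJ cs h X {i}ᶜ := by
  obtain ⟨i, hK, hX0, N, hm1, hG⟩ := core R (fun i j => (ListD.M_ne i j).1)
    (fun i j => (ListD.M_ne i j).2) (KFacts.SLRow.OmegaPlus.conn_M l (by omega)) hm
  obtain ⟨h1, h2, h3⟩ := ListD.list_D hl hm1 N hG
  exact ⟨h1, h3, i, h2, hK, hX0⟩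

open KFacts.SLRow.Def in
theorem conn_E6 : Conn E₆ :=
  conn_of_parent ![2, 1, 1, 0, 1, 2] ![2, 3, 3, 3, 3, 4] (by decide) (by decide) (by decide)

open KFacts.SLRow.Def in
theorem conn_E7 : Conn E₇ :=
  conn_of_parent ![2, 1, 1, 0, 1, 2, 3] ![2, 3, 3, 3, 3, 4, 5] (by decide) (by decide) (by decide)

open KFacts.SLRow.Def in
theorem conn_E8 : Conn E₈ :=
  conn_of_parent ![2, 1, 1, 0, 1, 2, 3, 4] ![2, 3, 3, 3, 3, 4, 5, 6] (by decide) (by decide) (by decide)

/-- **Type `E_6`.** -/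
theorem end_E6 {W : Type*} [Group W] [Finite W] [Finite Y] {cs : CoxeterSystem E₆ W}
    {A : Fin 6 → Fin 6 → ℤ} {h : IsCartan E₆ A} {n : Fin 6 → Y} {X : (Fin 6 → ℤ) → Subgroup Y}
    (R : Row cs h T n X ρ b a D X0 w) (hm : ∀ x, IsRoot cs h x → Nat.card (X x) = 2 ^ m) : False := by
  obtain ⟨i, -, -, N, -, -⟩ := core R (fun i j => (ListE.ne6 i j).1) (fun i j => (ListE.ne6 i j).2) conn_E6 hm
  exact ListE.list_E6 N

/-- **Type `E_7`.** -/
theorem end_E7 {W : Type*} [Group W] [Finite W] [Finite Y] {cs : CoxeterSystem E₇ W}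
    {A : Fin 7 → Fin 7 → ℤ} {h : IsCartan E₇ A} {n : Fin 7 → Y} {X : (Fin 7 → ℤ) → Subgroup Y}
    (R : Row cs h T n X ρ b a D X0 w) (hm : ∀ x, IsRoot cs h x → Nat.card (X x) = 2 ^ m) :
    m = 1 ∧ Mv ρ n a = {6} ∧ X0 = VJ cs h X {6}ᶜ := by
  obtain ⟨i, hK, hX0, N, hm1, -⟩ := core R (fun i j => (ListE.ne7 i j).1) (fun i j => (ListE.ne7 i j).2) conn_E7 hm
  obtain ⟨rfl, h2⟩ := ListE.list_E7 hm1 N
  exact ⟨h2, hK, hX0⟩

/-- **Type `E_8`.** -/
theorem end_E8 {W : Type*} [Group W] [Finite W] [Finite Y] {cs : CoxeterSystem E₈ W}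
    {A : Fin 8 → Fin 8 → ℤ} {h : IsCartan E₈ A} {n : Fin 8 → Y} {X : (Fin 8 → ℤ) → Subgroup Y}
    (R : Row cs h T n X ρ b a D X0 w) (hm : ∀ x, IsRoot cs h x → Nat.card (X x) = 2 ^ m) : False := by
  obtain ⟨i, -, -, N, -, -⟩ := core R (fun i j => (ListE.ne8 i j).1) (fun i j => (ListE.ne8 i j).2) conn_E8 hm
  exact ListE.list_E8 N

end Cfsg.Agent.Omega.EH3.Kf.SLEnd

end

section


/-!
# EH3, Lie rows: the simply laced rows in the form of `Goal` (helper227)

From `SLEnd` (helper134): a `Row` of type `A_l`, `D_l`, `E_7` with `|X_x| = 2^m` gives `Good M q i ∧ EndAt ..`.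
-/

set_option autoImplicit false

namespace Cfsg.Agent.Omega.EH3.Kf.SLRow

open CoxeterSystem Cfsg.Agent.ChevalleyStructure.CoxeterGeom Cfsg.Agent.Tits.Roots Cfsg.Agent.Tits.Core
  Cfsg.Agent.Tits.RootComb Cfsg.Agent.Nodes.Comb Cfsg.Agent.Nodes.Reps Cfsg.Agent.Nodes.BNOf
  Cfsg.Agent.Nodes.StabComb Cfsg.Agent.Nodes.Bruhat Cfsg.Agent.Nodes.LeviDec Cfsg.Agent.Nodes.RGDLib
  Cfsg.Agent.Omega.EH3.Kf.Base Cfsg.Agent.Omega.EH3.Kf.Out Cfsg.Agent.Omega.EH3.Kf.Odd
  Cfsg.Agent.Omega.EH3.Kf.Sym Cfsg.Agent.Omega.EH3.Kf.Goal Cfsg.Agent.Omega.EH3.Kf.SLEnd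
open Cfsg.Agent.LieRecognition.BNCox (cA)

variable {I W Y V : Type*} [Fintype I] [DecidableEq I] [Group W] [Group Y] [AddCommGroup V]
    [Module (ZMod 2) V] {b : LinearMap.BilinForm (ZMod 2) V} {T : Subgroup Y}
    {ρ : Y →* (V ≃ₗ[ZMod 2] V)} {a : V} {D : Submodule (ZMod 2) V} {X0 : Subgroup Y} {w m : ℕ}

/-- the end data from the moved node -/
theorem endAt_of {M : CoxeterMatrix I} {cs : CoxeterSystem M W} {A : I → I → ℤ} {h : IsCartan M A}
    {n : I → Y} {X : (I → ℤ) → Subgroup Y} {i : I} (hK : Mv ρ n a = {i}) (hX : X0 = VJ cs h X {i}ᶜ)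
    (hm : ∀ x, IsRoot cs h x → Nat.card (X x) = 2 ^ 1) : EndAt cs h n X ρ a X0 (fun _ => 2) i where
  eq := hX
  fix _ hj := fix_other hK hj
  card j := by rw [hm _ (isRoot_sr cs h j), pow_one]

/-- **Type `A_l`.** -/
theorem row_A {l : ℕ} {W : Type*} [Group W] [Finite W] [Finite Y] {cs : CoxeterSystem (cA l) W}
    {A : Fin l → Fin l → ℤ} {h : IsCartan (cA l) A} {n : Fin l → Y} {X : (Fin l → ℤ) → Subgroup Y}
    (R : Row cs h T n X ρ b a D X0 w) (hm : ∀ x, IsRoot cs h x → Nat.card (X x) = 2 ^ m) :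
    ∃ (q : Fin l → ℕ) (i : Fin l), Good (cA l) q i ∧ EndAt cs h n X ρ a X0 q i := by
  obtain ⟨rfl, rfl, i, hi, hK, hX⟩ := end_A R hm
  obtain rfl : i = 2 := Fin.ext hi
  exact ⟨_, _, Good.A5, endAt_of hK hX hm⟩

/-- **Type `D_l`.** -/
theorem row_D {l : ℕ} (hl : 2 ≤ l) {W : Type*} [Group W] [Finite W] [Finite Y]
    {cs : CoxeterSystem (Cfsg.Agent.Nodes.TypeD.M l) W}
    {A : Fin (l + 2) → Fin (l + 2) → ℤ} {h : IsCartan (Cfsg.Agent.Nodes.TypeD.M l) A} {n : Fin (l + 2) → Y}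
    {X : (Fin (l + 2) → ℤ) → Subgroup Y}
    (R : Row cs h T n X ρ b a D X0 w) (hm : ∀ x, IsRoot cs h x → Nat.card (X x) = 2 ^ m) :
    ∃ (q : Fin (l + 2) → ℕ) (i : Fin (l + 2)),
      Good (Cfsg.Agent.Nodes.TypeD.M l) q i ∧ EndAt cs h n X ρ a X0 q i := by
  obtain ⟨rfl, rfl, i, hi, hK, hX⟩ := end_D hl R hm
  rcases hi with hi | hi
  · obtain rfl : i = 4 := Fin.ext hi
    exact ⟨_, _, Good.D6, endAt_of hK hX hm⟩
  · obtain rfl : i = 5 := Fin.ext hi
    exact ⟨_, _, Good.D6', endAt_of hK hX hm⟩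

/-- **Type `E_6`.** -/
theorem row_E6 {W : Type*} [Group W] [Finite W] [Finite Y] {cs : CoxeterSystem CoxeterMatrix.E₆ W}
    {A : Fin 6 → Fin 6 → ℤ} {h : IsCartan CoxeterMatrix.E₆ A} {n : Fin 6 → Y} {X : (Fin 6 → ℤ) → Subgroup Y}
    (R : Row cs h T n X ρ b a D X0 w) (hm : ∀ x, IsRoot cs h x → Nat.card (X x) = 2 ^ m) :
    ∃ (q : Fin 6 → ℕ) (i : Fin 6), Good CoxeterMatrix.E₆ q i ∧ EndAt cs h n X ρ a X0 q i :=
  (end_E6 R hm).elim

/-- **Type `E_7`.** -/
theorem row_E7 {W : Type*} [Group W] [Finite W] [Finite Y] {cs : CoxeterSystem CoxeterMatrix.E₇ W}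
    {A : Fin 7 → Fin 7 → ℤ} {h : IsCartan CoxeterMatrix.E₇ A} {n : Fin 7 → Y} {X : (Fin 7 → ℤ) → Subgroup Y}
    (R : Row cs h T n X ρ b a D X0 w) (hm : ∀ x, IsRoot cs h x → Nat.card (X x) = 2 ^ m) :
    ∃ (q : Fin 7 → ℕ) (i : Fin 7), Good CoxeterMatrix.E₇ q i ∧ EndAt cs h n X ρ a X0 q i := by
  obtain ⟨rfl, hK, hX⟩ := end_E7 R hm
  exact ⟨_, _, Good.E7, endAt_of hK hX hm⟩

/-- **Type `E_8`.** -/
theorem row_E8 {W : Type*} [Group W] [Finite W] [Finite Y] {cs : CoxeterSystem CoxeterMatrix.E₈ W}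
    {A : Fin 8 → Fin 8 → ℤ} {h : IsCartan CoxeterMatrix.E₈ A} {n : Fin 8 → Y} {X : (Fin 8 → ℤ) → Subgroup Y}
    (R : Row cs h T n X ρ b a D X0 w) (hm : ∀ x, IsRoot cs h x → Nat.card (X x) = 2 ^ m) :
    ∃ (q : Fin 8 → ℕ) (i : Fin 8), Good CoxeterMatrix.E₈ q i ∧ EndAt cs h n X ρ a X0 q i :=
  (end_E8 R hm).elim

end Cfsg.Agent.Omega.EH3.Kf.SLRow

end

end

-- merged: Cfsg.Agent.Mrg.Omega.EH3.Kf.SLFam
section

/-!
# EH3, Lie rows: the simply laced families (helper227)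

`KfRow K` for `PSL_n(q)` (`n ≥ 2`), `PΩ⁺_{2n}(q)` (`n ≥ 4`), `E₆(q)`, `E₇(q)`, `E₈(q)`, `q` even.
-/

set_option autoImplicit false
set_option linter.unusedSectionVars false

namespace Cfsg.Agent.Omega.EH3.Kf.SLFam

open Cfsg
open CoxeterSystem Cfsg.Agent.ChevalleyStructure.CoxeterGeom Cfsg.Agent.Tits.Roots Cfsg.Agent.Tits.Core
  Cfsg.Agent.Tits.RootComb Cfsg.Agent.Nodes.Comb Cfsg.Agent.Nodes.Reps Cfsg.Agent.Nodes.BNOf
  Cfsg.Agent.Nodes.StabComb Cfsg.Agent.Nodes.Bruhat Cfsg.Agent.Nodes.LeviDec Cfsg.Agent.Nodes.RGDLib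
  Cfsg.Agent.Omega.EH3.Kf.Base Cfsg.Agent.Omega.EH3.Kf.Goal Cfsg.Agent.Omega.EH3.Kf.FamRow
  Cfsg.Agent.KFacts.ChevTwo Cfsg.Agent.KFacts.SLRow.Row Cfsg.Agent.KFacts.RgdCent
open Cfsg.Agent.LieRecognition.BNCox (cA)

universe u v w

section general

variable {K : Type v} [Group K] {F : Type*} [Field F] {l : ℕ} {M : CoxeterMatrix (Fin l)}
  {A : Fin l → Fin l → ℤ} {h : IsCartan M A} {T : Subgroup K} {n : Fin l → K} {X : (Fin l → ℤ) → Subgroup K}
  {e : (Fin l → ℤ) → F → K}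

/-- the bundle from coordinates -/
theorem bd_of_sys (hW : Finite M.Group) (R : RGD M.toCoxeterSystem h 2 T n X) (S : Sys R e)
    (hG : RGD.Sup X {x | IsRoot M.toCoxeterSystem h x} = ⊤) (hN : NoCent M.toCoxeterSystem h T X) : Bd M h T n X where
  fin := hW
  rgd := R
  gen := hG
  ab s hs t ht := by
    obtain ⟨χ, hχ⟩ := S.chi s hs
    obtain ⟨ψ, hψ⟩ := S.chi t ht
    have h1 := hN ((t * s)⁻¹ * (s * t)) (mul_mem (inv_mem (mul_mem ht hs)) (mul_mem hs ht)) (by
      intro b hb v hv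
      obtain ⟨u, rfl⟩ := (S.mem_X b hb v).1 hv
      have e1 : (s * t) * e b u * (s * t)⁻¹ = (t * s) * e b u * (t * s)⁻¹ := by
        have l1 : (s * t) * e b u * (s * t)⁻¹ = s * (t * e b u * t⁻¹) * s⁻¹ := by group
        have l2 : (t * s) * e b u * (t * s)⁻¹ = t * (s * e b u * s⁻¹) * t⁻¹ := by group
        rw [l1, l2, hψ b hb, hχ b hb, hχ b hb, hψ b hb, mul_left_comm]
      have e2 : (t * s)⁻¹ * ((s * t) * e b u * (s * t)⁻¹) * (t * s) = e b u := by rw [e1]; group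
      calc (t * s)⁻¹ * (s * t) * e b u = ((t * s)⁻¹ * ((s * t) * e b u * (s * t)⁻¹) * (t * s)) *
            ((t * s)⁻¹ * (s * t)) := by group
        _ = e b u * ((t * s)⁻¹ * (s * t)) := by rw [e2])
    rw [inv_mul_eq_one] at h1
    exact h1.symm
  el i u hu := by
    have hx := isRoot_sr M.toCoxeterSystem h i
    obtain ⟨t, rfl⟩ := (S.mem_X _ hx u).1 hu
    have h0 : e (sr i) 0 = 1 := by
      have := S.data.add _ hx 0 0
      rw [add_zero] at this
      exact mul_eq_left.1 this.symm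
    rw [← S.data.add _ hx, S.data.two, h0]

end general

/-- the row ends of the simply laced types -/
theorem rowEnd_A {K : Type v} [Group K] [Finite K] {l m : ℕ} (hW : Finite (cA l).Group) {A : Fin l → Fin l → ℤ}
    {h : IsCartan (cA l) A} {T : Subgroup K} {n : Fin l → K} {X : (Fin l → ℤ) → Subgroup K}
    (hm : ∀ x, IsRoot (cA l).toCoxeterSystem h x → Nat.card (X x) = 2 ^ m) : RowEnd.{u} (cA l) h T n X :=
  fun _ _ _ _ _ _ _ _ _ R => SLRow.row_A R hm

theorem rowEnd_D {K : Type v} [Group K] [Finite K] {l m : ℕ} (hl : 2 ≤ l)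
    (hW : Finite (Cfsg.Agent.Nodes.TypeD.M l).Group) {A : Fin (l + 2) → Fin (l + 2) → ℤ}
    {h : IsCartan (Cfsg.Agent.Nodes.TypeD.M l) A} {T : Subgroup K} {n : Fin (l + 2) → K}
    {X : (Fin (l + 2) → ℤ) → Subgroup K}
    (hm : ∀ x, IsRoot (Cfsg.Agent.Nodes.TypeD.M l).toCoxeterSystem h x → Nat.card (X x) = 2 ^ m) :
    RowEnd.{u} (Cfsg.Agent.Nodes.TypeD.M l) h T n X :=
  fun _ _ _ _ _ _ _ _ _ R => SLRow.row_D hl R hm

theorem rowEnd_E6 {K : Type v} [Group K] [Finite K] {m : ℕ} (hW : Finite CoxeterMatrix.E₆.Group)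
    {A : Fin 6 → Fin 6 → ℤ} {h : IsCartan CoxeterMatrix.E₆ A} {T : Subgroup K} {n : Fin 6 → K}
    {X : (Fin 6 → ℤ) → Subgroup K}
    (hm : ∀ x, IsRoot CoxeterMatrix.E₆.toCoxeterSystem h x → Nat.card (X x) = 2 ^ m) :
    RowEnd.{u} CoxeterMatrix.E₆ h T n X :=
  fun _ _ _ _ _ _ _ _ _ R => SLRow.row_E6 R hm

theorem rowEnd_E7 {K : Type v} [Group K] [Finite K] {m : ℕ} (hW : Finite CoxeterMatrix.E₇.Group)
    {A : Fin 7 → Fin 7 → ℤ} {h : IsCartan CoxeterMatrix.E₇ A} {T : Subgroup K} {n : Fin 7 → K}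
    {X : (Fin 7 → ℤ) → Subgroup K}
    (hm : ∀ x, IsRoot CoxeterMatrix.E₇.toCoxeterSystem h x → Nat.card (X x) = 2 ^ m) :
    RowEnd.{u} CoxeterMatrix.E₇ h T n X :=
  fun _ _ _ _ _ _ _ _ _ R => SLRow.row_E7 R hm

theorem rowEnd_E8 {K : Type v} [Group K] [Finite K] {m : ℕ} (hW : Finite CoxeterMatrix.E₈.Group)
    {A : Fin 8 → Fin 8 → ℤ} {h : IsCartan CoxeterMatrix.E₈ A} {T : Subgroup K} {n : Fin 8 → K}
    {X : (Fin 8 → ℤ) → Subgroup K}
    (hm : ∀ x, IsRoot CoxeterMatrix.E₈.toCoxeterSystem h x → Nat.card (X x) = 2 ^ m) :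
    RowEnd.{u} CoxeterMatrix.E₈ h T n X :=
  fun _ _ _ _ _ _ _ _ _ R => SLRow.row_E8 R hm

/-! ### The groups -/

theorem card_two_pow (F : Type) [Field F] [Finite F] [CharP F 2] : ∃ m : ℕ, Nat.card F = 2 ^ m := by
  have : Fintype F := Fintype.ofFinite F
  obtain ⟨n, -, hn⟩ := FiniteField.card F 2
  exact ⟨n, by rw [Nat.card_eq_fintype_card, hn]⟩

theorem isSLC_row {q l : ℕ} {M : CoxeterMatrix (Fin l)} {K : Type v} [Group K] (hK : IsSLC q M K) {m : ℕ}
    (hq : q = 2 ^ m)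
    (hend : ∀ {A : Fin l → Fin l → ℤ} {h : IsCartan M A} {T : Subgroup K} {n : Fin l → K}
      {X : (Fin l → ℤ) → Subgroup K}, Finite M.Group →
      (∀ x, IsRoot M.toCoxeterSystem h x → Nat.card (X x) = 2 ^ m) → RowEnd.{u} M h T n X) : KfRow.{u} K := by
  obtain ⟨A, h, T, n, X, F, _, _, _, e, hW, -, -, D, S⟩ := hK
  exact ⟨l, M, A, h, T, n, X, bd_of_sys hW D.rgd S D.gen D.cent, hend hW fun x hx => by rw [D.card x hx, hq]⟩

theorem kfRow_PSL {n : ℕ} (F : Type) [Field F] [Finite F] [CharP F 2] :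
    KfRow.{u} (Matrix.ProjectiveSpecialLinearGroup (Fin (n + 1)) F) := by
  have : Fact (Nat.Prime 2) := ⟨Nat.prime_two⟩
  have h2 : ∀ t : F, t + t = 0 := CharTwo.add_self_eq_zero
  have hW : Finite (cA n).Group := Cfsg.Agent.Nodes.RootsA.finite_W (cA n).toCoxeterSystem
    (Cfsg.Agent.Nodes.RootsA.isCartan n)
  obtain ⟨m, hm⟩ := card_two_pow F
  have : Finite (Matrix.ProjectiveSpecialLinearGroup (Fin (n + 1)) F) :=
    Finite.of_surjective _ (QuotientGroup.mk'_surjective _)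
  refine ⟨_, _, _, Cfsg.Agent.Nodes.RootsA.isCartan n, _, _, _,
    bd_of_sys hW _ (KFacts.SLRow.SysA.sys_PSL (F := F) (cA n).toCoxeterSystem (Cfsg.Agent.Nodes.RootsA.isCartan n))
      (Cfsg.Agent.Nodes.RGDTypeA.G1_psl_eq_top _ _) (KFacts.SLRow.Psl.noCent h2 _ _),
    rowEnd_A hW (m := m) fun x hx => by rw [← hm]; exact KFacts.SLRow.Psl.card_X h2 _ _ hx⟩

theorem kfRow_OPlus {n : ℕ} (hn : 2 ≤ n) (F : Type) [Field F] [Finite F] [CharP F 2] :
    KfRow.{u} (POmega F (quadFormPlus (n + 2) F)) := by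
  obtain ⟨m, hm⟩ := card_two_pow F
  have : Finite (POmega F (quadFormPlus (n + 2) F)) := inferInstance
  exact isSLC_row (isSLC_OPlus hn F) hm fun hW hm => rowEnd_D hn hW hm

section Chev

open Cfsg.Lie

theorem kfRow_E6 (F : Type) [Field F] [Finite F] [CharP F 2] : KfRow.{u} (chevE6.group F) := by
  obtain ⟨m, hm⟩ := card_two_pow F
  have : Finite (chevE6.group F) := inferInstance
  exact isSLC_row (isSLC_E6 F) hm fun hW hm => rowEnd_E6 hW hm

theorem kfRow_E7 (F : Type) [Field F] [Finite F] [CharP F 2] : KfRow.{u} (chevE7.group F) := by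
  obtain ⟨m, hm⟩ := card_two_pow F
  have : Finite (chevE7.group F) := inferInstance
  exact isSLC_row (isSLC_E7 F) hm fun hW hm => rowEnd_E7 hW hm

theorem kfRow_E8 (F : Type) [Field F] [Finite F] [CharP F 2] : KfRow.{u} (chevE8.group F) := by
  obtain ⟨m, hm⟩ := card_two_pow F
  have : Finite (chevE8.group F) := inferInstance
  exact isSLC_row (isSLC_E8 F) hm fun hW hm => rowEnd_E8 hW hm

end Chev

end Cfsg.Agent.Omega.EH3.Kf.SLFam

end

-- merged: Cfsg.Agent.Mrg.Omega.EH3.Kf.TableSL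
section

section


/-!
# EH3, Lie rows: the fields `psl`, `omp`, `e6`, `e7`, `e8` of `Table.Rows` (helper227)
-/

set_option autoImplicit false

namespace Cfsg.Agent.Omega.EH3.Kf.TableSL

open Cfsg Cfsg.Agent.Omega.EH3.Kf.Main

universe u

theorem psl (F : Type) [Field F] [Fintype F] [CharP F 2] (n : ℕ) (hn : 3 ≤ n) :
    Fam.{u} (Matrix.ProjectiveSpecialLinearGroup (Fin n) F) := by
  obtain ⟨m, rfl⟩ : ∃ m, n = m + 1 := ⟨n - 1, by omega⟩
  exact Fam.of_kfRow (SLFam.kfRow_PSL F)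

theorem omp (F : Type) [Field F] [Fintype F] [CharP F 2] (m : ℕ) (hm : 4 ≤ m) :
    Fam.{u} (POmega F (quadFormPlus m F)) := by
  obtain ⟨n, rfl⟩ : ∃ n, m = n + 2 := ⟨m - 2, by omega⟩
  exact Fam.of_kfRow (SLFam.kfRow_OPlus (by omega) F)

theorem e6 (F : Type) [Field F] [Fintype F] [CharP F 2] : Fam.{u} (Lie.chevE6.group F) :=
  Fam.of_kfRow (SLFam.kfRow_E6 F)

theorem e7 (F : Type) [Field F] [Fintype F] [CharP F 2] : Fam.{u} (Lie.chevE7.group F) :=
  Fam.of_kfRow (SLFam.kfRow_E7 F)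

theorem e8 (F : Type) [Field F] [Fintype F] [CharP F 2] : Fam.{u} (Lie.chevE8.group F) :=
  Fam.of_kfRow (SLFam.kfRow_E8 F)

end Cfsg.Agent.Omega.EH3.Kf.TableSL

end

section


/-!
# EH3, Lie rows in characteristic 2: `G₂(q)`, `q > 2` even, has no row (helper737)

`[X_9, X_8] = X_11`, `[X_9, X_7] = X_10`, `[x_6(u), x_7(t)] = x_8(tu) x_9(t²u) x_10(t³u) x_11(t³u²)`; the roots `8`, `9`
have full support.
-/

set_option autoImplicit false
set_option linter.unusedSectionVars false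

namespace Cfsg.Agent.Omega.EH3.Kf.FamG2

open CoxeterSystem Cfsg.Agent.ChevalleyStructure.CoxeterGeom Cfsg.Agent.Tits.Roots Cfsg.Agent.Tits.Core
  Cfsg.Agent.Tits.RootComb Cfsg.Agent.Nodes.Comb Cfsg.Agent.Nodes.Reps Cfsg.Agent.Nodes.BNOf
open Cfsg.Lie Cfsg.Agent.ChevalleyStructure Cfsg.Agent.ChevalleyStructure.Elts
  Cfsg.Agent.ChevalleyStructure.RootVec Cfsg.Agent.ChevalleyStructure.RootVecTab
  Cfsg.Agent.ChevalleyStructure.NPerm Cfsg.Agent.ChevalleyStructure.CoxeterGeomTypes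
open Cfsg.Agent.Nodes.RGDChev Cfsg.Agent.Omega.EH3.Kf.FamRow Cfsg.Agent.Omega.EH3.Kf.FamChev
  Cfsg.Agent.Omega.EH3.Kf.NoRow
open scoped commutatorElement

universe u v w

theorem isType : IsType chevG2 2 CoxeterMatrix.G₂ := by simp [IsType, typeList]

/-! ### the tables -/

theorem vec6 : vec chevG2 2 6 = sr 1 := vec_simple isType 1
theorem vec7 : vec chevG2 2 7 = sr 0 := vec_simple isType 0

theorem pos_tab : ∀ r < 12, (∀ k : Fin 2, 0 ≤ rt chevG2 r k) → r = 6 ∨ r = 7 ∨ r = 8 ∨ r = 9 ∨ r = 10 ∨ r = 11 := by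
  decide +kernel

theorem pos_tab' : ∀ r < 12, (r = 6 ∨ r = 7 ∨ r = 8 ∨ r = 9 ∨ r = 10 ∨ r = 11) → ∀ k : Fin 2, 0 ≤ rt chevG2 r k := by
  decide +kernel

theorem full_tab : ∀ k : Fin 2, 0 < rt chevG2 8 k ∧ 0 < rt chevG2 9 k := by
  decide +kernel

theorem neg_tab : chevG2.neg 7 ≠ 6 ∧ chevG2.neg 7 ≠ 9 ∧ chevG2.neg 8 ≠ 9 := by decide +kernel

theorem terms_tab : chevG2.commTerms 7 6 = [(8, -1, 1, 1), (9, 1, 2, 1), (10, 1, 3, 1), (11, 1, 3, 2)] ∧
    chevG2.commTerms 7 9 = [(10, 3, 1, 1)] ∧ chevG2.commTerms 8 9 = [(11, 3, 1, 1)] := by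
  decide +kernel

variable {K : Type v} [Field K] [CharP K 2]

/-- the root element of `G₂(K)` -/
noncomputable def e (K : Type v) [Field K] (r : ℕ) (t : K) : ↥(chevG2.group K) :=
  ⟨xG isType.inList r t, xG_mem_group isType.inList r t⟩

theorem e_add (r : ℕ) (t u : K) : e K r t * e K r u = e K r (t + u) := Subtype.ext (xG_add isType.inList r t u)

theorem e_zero (r : ℕ) : e K r 0 = 1 := Subtype.ext (xG_zero isType.inList r)

theorem e_ne {r : ℕ} (hr : r < 12) {t : K} (ht : t ≠ 0) : e K r t ≠ 1 := by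
  intro h
  exact ht ((xG_eq_one_iff isType.inList hr t).1 (congrArg Subtype.val h))

theorem three : (3 : K) = 1 := by
  have h2 : (2 : K) = 0 := by exact_mod_cast CharP.cast_eq_zero K 2
  linear_combination h2

theorem comm_8_9 (t u : K) : ⁅e K 9 u, e K 8 t⁆ = e K 11 (t * u) := by
  apply Subtype.ext
  show ⁅xG isType.inList 9 u, xG isType.inList 8 t⁆ = xG isType.inList 11 (t * u)
  rw [comm_two isType (by decide) (by decide) (by decide) neg_tab.2.2.symm]
  unfold ChevalleyDatum.commWord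
  rw [terms_tab.2.2]
  simp only [List.map_cons, List.map_nil, wordG_cons, wordG_nil, mul_one, pow_one, CharTwo.neg_eq]
  congr 1
  push_cast
  rw [three, one_mul]

theorem comm_7_9 (t u : K) : ⁅e K 9 u, e K 7 t⁆ = e K 10 (t * u) := by
  apply Subtype.ext
  show ⁅xG isType.inList 9 u, xG isType.inList 7 t⁆ = xG isType.inList 10 (t * u)
  rw [comm_two isType (by decide) (by decide) (by decide) neg_tab.2.1.symm]
  unfold ChevalleyDatum.commWord
  rw [terms_tab.2.1]
  simp only [List.map_cons, List.map_nil, wordG_cons, wordG_nil, mul_one, pow_one, CharTwo.neg_eq]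
  congr 1
  push_cast
  rw [three, one_mul]

theorem comm_7_6 (t u : K) : ⁅e K 6 u, e K 7 t⁆ =
    e K 8 (t * u) * (e K 9 (t ^ 2 * u) * (e K 10 (t ^ 3 * u) * e K 11 (t ^ 3 * u ^ 2))) := by
  apply Subtype.ext
  show ⁅xG isType.inList 6 u, xG isType.inList 7 t⁆ = xG isType.inList 8 (t * u) *
    (xG isType.inList 9 (t ^ 2 * u) * (xG isType.inList 10 (t ^ 3 * u) * xG isType.inList 11 (t ^ 3 * u ^ 2)))
  rw [comm_two isType (by decide) (by decide) (by decide) neg_tab.1.symm]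
  unfold ChevalleyDatum.commWord
  rw [terms_tab.1]
  simp only [List.map_cons, List.map_nil, wordG_cons, wordG_nil, mul_one, pow_one, CharTwo.neg_eq]
  push_cast
  simp only [CharTwo.neg_eq, one_mul]

/-- the root groups -/
abbrev X (K : Type v) [Field K] (x : Fin 2 → ℤ) : Subgroup ↥(chevG2.group K) :=
  (XV chevG2 2 K x).subgroupOf (chevG2.group K)

theorem e_mem {r : ℕ} (hr : r < 12) (t : K) : e K r t ∈ X K (vec chevG2 2 r) :=
  (mem_X_iff isType hr).2 ⟨t, rfl⟩

theorem mem_X {r : ℕ} (hr : r < 12) {g : ↥(chevG2.group K)} (hg : g ∈ X K (vec chevG2 2 r)) :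
    ∃ t, g = e K r t := by
  obtain ⟨t, ht⟩ := (mem_X_iff isType hr).1 hg
  exact ⟨t, Subtype.ext ht⟩

/-- `U` -/
abbrev U (K : Type v) [Field K] : Subgroup ↥(chevG2.group K) :=
  RGD.Sup (X K) (RGD.Pos CoxeterMatrix.G₂.toCoxeterSystem isType.isCartan)

theorem e_mem_U {r : ℕ} (hr : r < 12) (h : r = 6 ∨ r = 7 ∨ r = 8 ∨ r = 9 ∨ r = 10 ∨ r = 11) (t : K) :
    e K r t ∈ U K := by
  have hx : vec chevG2 2 r ∈ RGD.Pos CoxeterMatrix.G₂.toCoxeterSystem isType.isCartan :=
    ⟨isRoot_vec isType CoxeterMatrix.G₂.toCoxeterSystem hr, fun k => pos_tab' r hr h k⟩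
  exact RGD.le_Sup (X := X K) hx (e_mem hr t)

/-- all root groups of roots that are not fundamental lie in `[U, U]` -/
theorem mem_comm (hK : ∃ t : K, t ≠ 0 ∧ t ≠ 1) {r : ℕ} (hr : r = 8 ∨ r = 9 ∨ r = 10 ∨ r = 11) (c : K) :
    e K r c ∈ ⁅U K, U K⁆ := by
  have h11 : ∀ c : K, e K 11 c ∈ ⁅U K, U K⁆ := by
    intro c
    rw [show c = 1 * c from (one_mul c).symm, ← comm_8_9]
    exact Subgroup.commutator_mem_commutator (e_mem_U (by norm_num) (by norm_num) c)
      (e_mem_U (by norm_num) (by norm_num) 1)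
  have h10 : ∀ c : K, e K 10 c ∈ ⁅U K, U K⁆ := by
    intro c
    rw [show c = 1 * c from (one_mul c).symm, ← comm_7_9]
    exact Subgroup.commutator_mem_commutator (e_mem_U (by norm_num) (by norm_num) c)
      (e_mem_U (by norm_num) (by norm_num) 1)
  have h89 : ∀ t s : K, t ≠ 0 → e K 8 s * e K 9 (t * s) ∈ ⁅U K, U K⁆ := by
    intro t s ht
    have h1 : ⁅e K 6 (t⁻¹ * s), e K 7 t⁆ ∈ ⁅U K, U K⁆ :=
      Subgroup.commutator_mem_commutator (e_mem_U (by norm_num) (by norm_num) _)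
        (e_mem_U (by norm_num) (by norm_num) _)
    rw [comm_7_6, ← mul_assoc, show t * (t⁻¹ * s) = s by field_simp,
      show t ^ 2 * (t⁻¹ * s) = t * s by field_simp] at h1
    exact (Subgroup.mul_mem_cancel_right _ (mul_mem (h10 _) (h11 _))).1 h1
  have h9 : ∀ c : K, e K 9 c ∈ ⁅U K, U K⁆ := by
    intro c
    obtain ⟨t, ht0, ht1⟩ := hK
    have hs : t - 1 ≠ 0 := sub_ne_zero.2 ht1
    have h1 := h89 t (c / (t - 1)) ht0
    have h2 := h89 1 (c / (t - 1)) one_ne_zero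
    have h3 := mul_mem (inv_mem h2) h1
    have h4 : (e K 8 (c / (t - 1)) * e K 9 (1 * (c / (t - 1))))⁻¹ * (e K 8 (c / (t - 1)) * e K 9 (t * (c / (t - 1)))) =
        (e K 9 (1 * (c / (t - 1))))⁻¹ * e K 9 (t * (c / (t - 1))) := by group
    have h5 : (e K 9 (1 * (c / (t - 1))))⁻¹ = e K 9 (-(1 * (c / (t - 1)))) := by
      rw [inv_eq_iff_mul_eq_one, e_add, add_neg_cancel, e_zero]
    rw [h4, h5, e_add] at h3
    have h6 : -(1 * (c / (t - 1))) + t * (c / (t - 1)) = c := by field_simp; ring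
    rwa [h6] at h3
  rcases hr with rfl | rfl | rfl | rfl
  · have h1 := h89 1 c one_ne_zero
    exact (Subgroup.mul_mem_cancel_right _ (h9 _)).1 h1
  · exact h9 c
  · exact h10 c
  · exact h11 c

/-- **`G₂(q)`, `q > 2` even.** -/
theorem kfRow [Finite K] (hK : ∃ t : K, t ≠ 0 ∧ t ≠ 1) : KfRow.{u} ↥(chevG2.group K) := by
  refine kfRow_of_pair (bd isType (K := K)) (x := vec chevG2 2 8) (y := vec chevG2 2 9) ?_
    (isRoot_vec isType _ (by decide)) (isRoot_vec isType _ (by decide)) (fun k => (full_tab k).1)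
    (fun k => (full_tab k).2) ?_
  · intro x hx h0 hs
    obtain ⟨r, hr, rfl⟩ := (isRoot_iff isType _ _).1 hx
    have h1 := pos_tab r hr (fun k => h0 k)
    have h2 : r = 8 ∨ r = 9 ∨ r = 10 ∨ r = 11 := by
      rcases h1 with rfl | rfl | h1
      · exact absurd vec6 (hs 1)
      · exact absurd vec7 (hs 0)
      · exact h1
    intro g hg
    obtain ⟨t, rfl⟩ := mem_X hr hg
    exact mem_comm hK h2 t
  · intro h
    have h1 : ⁅e K 8 1, e K 9 1⁆ ∈ ⁅X K (vec chevG2 2 8), X K (vec chevG2 2 9)⁆ :=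
      Subgroup.commutator_mem_commutator (e_mem (by norm_num) 1) (e_mem (by norm_num) 1)
    rw [h, Subgroup.mem_bot] at h1
    have h2 : ⁅e K 9 1, e K 8 (1 : K)⁆ = 1 := by rw [← commutatorElement_inv, h1, inv_one]
    rw [comm_8_9] at h2
    exact e_ne (by norm_num) (by rw [mul_one]; exact one_ne_zero) h2

theorem exists_ne_of_card [Fintype K] (h : 3 ≤ Fintype.card K) : ∃ t : K, t ≠ 0 ∧ t ≠ 1 := by
  classical
  by_contra hcon
  push Not at hcon
  have h1 : (Finset.univ : Finset K) ⊆ {0, 1} := by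
    intro t _
    rw [Finset.mem_insert, Finset.mem_singleton]
    by_cases h0 : t = 0
    · exact Or.inl h0
    · exact Or.inr (hcon t h0)
  have h2 := Finset.card_le_card h1
  have h3 : ({0, 1} : Finset K).card ≤ 2 := Finset.card_le_two
  rw [Finset.card_univ] at h2
  omega

/-- **The row of `G₂(q)`**, in the form of `IsExceptionalChevChar`. -/
theorem kfRow_of_equiv {G : Type u} [Group G] [Fintype K] (h : 3 ≤ Fintype.card K)
    (e : G ≃* ↥(chevG2.group K)) : KfRow.{w} G :=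
  (kfRow (exists_ne_of_card h)).of_equiv e.symm

end Cfsg.Agent.Omega.EH3.Kf.FamG2

end

end
end

-- part: Mrg/Nodes/RGDAllP
section
prune_inst 0x102044004010001018000010000004000000020000000080800200024080002d0008010420000000300000000000081100001000000000000004000001000000801002a0480000000086000080000000000000000000000000000000000000000000000
set_option linter.all false
open scoped Cfsg.Agent.FastGrp

section


/-!
Root group data of the classical groups in EVERY characteristic, 2 included (helper827; ODD D10).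

`not_isPGroup`: `A ⊔ n A n⁻¹` (containing `n`) is not a finite `p`-group unless `n A n⁻¹ ≤ A`. With it the hypothesis
`Odd p` of `WittRGD.rgd`, `WittRGDD.rgd`, `WittModel.rgd`, `WittU.hasRGD_PSU`, `WittU.hasRGD_PSp` is not needed:

* `rgdC` (= `WittRGD.rgd`), `rgdD` (= `WittRGDD.rgd`), `rgd_model` (= `WittModel.rgd`);
* `hasRGD_PSU`, `hasRGD_PSp`: every `p`.
-/

set_option autoImplicit false
set_option linter.unusedSectionVars false

namespace Cfsg.Agent.Nodes.RGDAllP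

open CoxeterSystem Cfsg.Agent.ChevalleyStructure.CoxeterGeom Cfsg.Agent.Tits.Roots
open Cfsg.Agent.Nodes.Comb Cfsg.Agent.Nodes.Reps Cfsg.Agent.Nodes.BNOf
open Cfsg.Agent.TitsThree Cfsg.Agent.TitsThree.Siegel Cfsg.Agent.TitsThree.WittFrame
  Cfsg.Agent.TitsThree.WittWeyl Cfsg.Agent.TitsThree.FrameCN
open scoped commutatorElement

/-- Maximal subgroups of finite `p`-groups are normal, hence `A ⊔ n A n⁻¹` is a `p`-group containing `n` only if
`n A n⁻¹ ≤ A`. -/
theorem le_of_isPGroup {Y : Type*} [Group Y] {p : ℕ} [Fact p.Prime] {A A' : Subgroup Y} [Finite ↥(A ⊔ A')] {n : Y}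
    (hn : n ∈ A ⊔ A') (hA : cj n A = A') (hP : IsPGroup p ↥(A ⊔ A')) : A ⊔ A' = A := by
  by_contra hne
  set P : Subgroup Y := A ⊔ A' with hPdef
  have hlt : A.subgroupOf P ≠ ⊤ := by
    intro h
    rw [Subgroup.subgroupOf_eq_top] at h
    exact hne (le_antisymm h le_sup_left)
  obtain ⟨M, hM, hle⟩ := (eq_top_or_exists_le_coatom (A.subgroupOf P)).resolve_left hlt
  have : Group.IsNilpotent ↥P := hP.isNilpotent
  have hnorm : M.Normal := Subgroup.NormalizerCondition.normal_of_coatom M Group.normalizerCondition_of_isNilpotent hM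
  have h1 : Subgroup.subgroupOf A' P ≤ M := by
    intro x hx
    rw [Subgroup.mem_subgroupOf, ← hA, mem_cj] at hx
    have h2 : (⟨n, hn⟩ : P)⁻¹ * x * ⟨n, hn⟩ ∈ M := hle (by rw [Subgroup.mem_subgroupOf]; exact hx)
    have h3 := hnorm.conj_mem _ h2 ⟨n, hn⟩
    have h4 : (⟨n, hn⟩ : P) * ((⟨n, hn⟩ : P)⁻¹ * x * ⟨n, hn⟩) * (⟨n, hn⟩ : P)⁻¹ = x := by group
    rwa [h4] at h3
  apply hM.1
  rw [eq_top_iff]
  have h5 : A ≤ M.map P.subtype := by
    intro a ha
    have haP : a ∈ P := (le_sup_left : A ≤ A ⊔ A') ha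
    exact ⟨⟨a, haP⟩, hle ha, rfl⟩
  have h6 : A' ≤ M.map P.subtype := by
    intro a ha
    have haP : a ∈ P := (le_sup_right : A' ≤ A ⊔ A') ha
    exact ⟨⟨a, haP⟩, h1 ha, rfl⟩
  rintro ⟨x, hx⟩ -
  obtain ⟨y, hy, e⟩ := (sup_le h5 h6 : P ≤ M.map P.subtype) hx
  have : y = ⟨x, hx⟩ := Subtype.ext e
  rwa [this] at hy

section Witt

variable {F : Type*} [Field F] {V : Type*} [AddCommGroup V] [Module F V] {H : HForm F V}

theorem finite_equiv [Finite V] : Finite (V ≃ₗ[F] V) :=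
  Finite.of_injective (fun g : V ≃ₗ[F] V => (g : V → V)) DFunLike.coe_injective

section C

open Cfsg.Agent.Nodes.TypeC Cfsg.Agent.Nodes.WittRoot Cfsg.Agent.Nodes.WittRGD

variable {n : ℕ} {Fr : Frame H (Fin n)} {G0 : Subgroup (V ≃ₗ[F] V)} (hA : Amb Fr G0)

include hA

theorem fix_PG {a b : Fin n × Bool} {g : V ≃ₗ[F] V} (hab : Ok a b) (hg : g ∈ PG Fr a b) :
    g (Fr.b a) = Fr.b a := by
  have hne : a ≠ neg a := fun h => by
    have := congrArg Prod.snd h
    simp [neg] at this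
  by_cases h : a = b
  · subst h
    rw [PG_self] at hg
    obtain ⟨p, rfl⟩ := hg
    exact Z_apply_of_ne Fr hne p
  · rcases eq_or_ne a.1 b.1 with h1 | h1
    · exfalso
      rcases hab with h2 | h2
      · exact h2 h1
      · exact h h2
    · rw [PG_ne Fr h1] at hg
      obtain ⟨t, rfl⟩ := hg
      exact X_apply_of_ne Fr h1 hne (fun h2 => h1 (by rw [h2]; rfl)) t

theorem conjC {W : Type*} [Group W] (cs : CoxeterSystem (CoxeterMatrix.B n) W) {p0 : Fr.Adm} (hp0 : p0.c ≠ 0)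
    (i : Fin n) (x : Fin n → ℤ) (hx : IsRoot cs (isCartan n) x) :
    cj (_root_.Cfsg.Agent.Nodes.WittRGD.nn Fr p0 i) (rg Fr x) = rg Fr (rep cs (isCartan n) (cs.simple i) x) := by
  obtain ⟨a, b, hab, e⟩ := exists_of_isRoot cs hx
  rw [rg_eq Fr hab e, rep_simple, rg_eq Fr (hab.sg i) (ee_refl_of e)]
  exact hA.cj_sg (nn_mem hA p0 i) (mono_nn hp0 i) hab

theorem notpC [Finite V] {p : ℕ} [Fact p.Prime] {p0 : Fr.Adm} (hp0 : p0.c ≠ 0) (i : Fin n) :
    ¬ IsPGroup p ↥(rg Fr (sr i) ⊔ rg Fr (-sr i)) := by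
  intro hP
  have := finite_equiv (F := F) (V := V)
  have hconj : cj (_root_.Cfsg.Agent.Nodes.WittRGD.nn Fr p0 i) (rg Fr (sr i)) = rg Fr (-sr i) := by
    rw [conjC hA (CoxeterMatrix.B n).toCoxeterSystem hp0 i (sr i) (isRoot_sr _ _ _), rep_simple_sr]
  have h1 := le_of_isPGroup (nn_mem_sup p0 i) hconj hP
  have h2 : _root_.Cfsg.Agent.Nodes.WittRGD.nn Fr p0 i ∈ rg Fr (sr i) := by rw [← h1]; exact nn_mem_sup p0 i
  rw [rg_sr] at h2
  have h3 := fix_PG hA (ok_nx i) h2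
  obtain ⟨l, hl, e⟩ := mono_nn (Fr := Fr) hp0 i (i, true)
  rw [h3] at e
  have h1 : ((i, true) : Fin n × Bool) ≠ sg i (i, true) := by
    by_cases hi : (i : ℕ) + 1 < n
    · rw [sg_up hi]; simp [Fin.ext_iff]
    · rw [sg_last hi]; simp
  exact not_prop h1 hl e

/-- **The root group datum of a Witt frame, every characteristic.** -/
theorem rgdC [Finite V] {p : ℕ} [Fact p.Prime] [CharP F p] {p0 : Fr.Adm} (hp0 : p0.c ≠ 0)
    {W : Type*} [Group W] (cs : CoxeterSystem (CoxeterMatrix.B n) W) :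
    RGD cs (isCartan n) p (Tor Fr G0) (_root_.Cfsg.Agent.Nodes.WittRGD.nn Fr p0) (rg Fr) where
  nsys := nsys hA hp0
  conj := conjC hA cs hp0
  tor x hx t ht := by
    obtain ⟨a, b, hab, e⟩ := exists_of_isRoot cs hx
    rw [rg_eq Fr hab e]
    exact hA.cj_id ht.1 ht.2 hab
  comm x y hx hy hxy hxy' a ha b hb := comm_rg cs hx hy hxy hxy' ha hb
  rk1 i u hu hne := rk1 hA hp0 i hu hne
  pgrp i := by rw [rg_sr]; exact isPGroup_PG _ _
  notp i := notpC hA hp0 i
  tcop := tcop hA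

end C

section Model

open Cfsg.Agent.Nodes.TypeC Cfsg.Agent.Nodes.WittRoot Cfsg.Agent.Nodes.WittRGD Cfsg.Agent.Nodes.RGDLib

variable {n : ℕ} {Fr : Frame H (Fin n)} {K : Type*} [Group K] (M : Model Fr K)

/-- **The root group datum of a model, every characteristic.** -/
theorem rgd_model (hA : Amb Fr M.I) [Finite V] {p : ℕ} [Fact p.Prime] [CharP F p] {p0 : Fr.Adm} (hp0 : p0.c ≠ 0)
    {W : Type*} [Group W] (cs : CoxeterSystem (CoxeterMatrix.B n) W) :
    RGD cs (isCartan n) p (WittModel.T M) (WittModel.nw M hA p0) (WittModel.X M) := by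
  have := finite_equiv (F := F) (V := V)
  have : Finite W := finite_W cs
  exact rgd_map_of_ker_le_center (rgd_restrict (rgdC hA hp0 cs) M.I (fun x _ => hA.rg_le x)
    (fun i => nn_mem hA p0 i)) M.φ (WittModel.ker_le_center M hA)

end Model

section D

open Cfsg.Agent.Nodes.TypeC (wt wt_apply ng ng_ng ng_fst ng_snd wt_ng)
open Cfsg.Agent.Nodes.TypeD Cfsg.Agent.Nodes.WittRGDD
open Cfsg.Agent.Nodes.WittRoot (Amb Mono XG mem_XG XG_swap)
open Cfsg.Agent.Nodes.WittRGD (Tor mem_Tor not_prop b_ne_zero eq_or_ng)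

variable {n : ℕ} {Fr : Frame H (Fin (n + 2))} {G0 : Subgroup (V ≃ₗ[F] V)} (hA : Amb Fr G0)

include hA

end D

end Witt

section Main

open Cfsg.Agent.Nodes.TypeC Cfsg.Agent.Nodes.WittU

end Main

end Cfsg.Agent.Nodes.RGDAllP

end

section


/-!
# EH3, Lie rows in characteristic 2: `PSU_{2m+1}(q)`, `m ≥ 2` (helper944)

* `Gd` for the unitary frames with `V0 = ⟨d⟩` (type `BC_m`), the root group of `2 ε_0` is not abelian;
* `exists_bdU` : `PSU (2m+1) F q` has the data `FamRowU.BdU` (helper227), and there is no `Row` for them;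
* `kfRowU` : `KfRowU (PSU (2m+1) F q)`; `kfRowU_of_odd` : odd dimension `≥ 5`.
-/

set_option autoImplicit false

namespace Cfsg.Agent.Omega.EH3.Kf.UOdd

open CoxeterSystem Cfsg.Agent.ChevalleyStructure.CoxeterGeom Cfsg.Agent.Tits.Roots
  Cfsg.Agent.Nodes.Comb Cfsg.Agent.Nodes.Reps Cfsg.Agent.Nodes.BNOf Cfsg.Agent.Nodes.TypeC
  Cfsg.Agent.Nodes.WittRoot Cfsg.Agent.Nodes.WittRGD Cfsg.Agent.Nodes.WittModel
  Cfsg.Agent.Omega.EH3.Kf.Base Cfsg.Agent.Omega.EH3.Kf.TwC Cfsg.Agent.Omega.EH3.Kf.FamRow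
  Cfsg.Agent.Omega.EH3.Kf.FamRowU
open Cfsg Cfsg.Agent.LieClassical.HermBasic
open Cfsg.Agent.TitsThree Cfsg.Agent.TitsThree.Siegel Cfsg.Agent.TitsThree.SiegelGen
  Cfsg.Agent.TitsThree.WittFrame Cfsg.Agent.TitsThree.WBridge Cfsg.Agent.TitsThree.WittWeyl
  Cfsg.Agent.TitsThree.FrameCN Cfsg.Agent.TitsThree.KSideU Cfsg.Agent.TitsThree.KSideUDesc
open scoped commutatorElement

/-! ### Frames -/

section Frame

variable {F : Type*} [Field F] {V : Type*} [AddCommGroup V] [Module F V] {H : HForm F V} {n : ℕ}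
  {Fr : Frame H (Fin n)} {G0 : Subgroup (V ≃ₗ[F] V)}

/-- the torus is abelian if `V0` is a line -/
theorem tor_comm (hA : Amb Fr G0) {d : V} (hd : d ∈ Fr.V0) (hV0 : ∀ w ∈ Fr.V0, ∃ a : F, w = a • d)
    {g k : V ≃ₗ[F] V} (hg : g ∈ Tor Fr G0) (hk : k ∈ Tor Fr G0) : g * k = k * g := by
  have hgd : ∃ l : F, g d = l • d := hV0 _ (hA.map_V0 hg.1 hg.2 (ρ := id) (fun _ => rfl) hd)
  have hkd : ∃ l : F, k d = l • d := hV0 _ (hA.map_V0 hk.1 hk.2 (ρ := id) (fun _ => rfl) hd)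
  obtain ⟨l, hl⟩ := hgd
  obtain ⟨m, hm⟩ := hkd
  have h1 : ∀ x, (g * k) (Fr.b x) = (k * g) (Fr.b x) := by
    intro x
    obtain ⟨a, -, ha⟩ := hg.2 x
    obtain ⟨c, -, hc⟩ := hk.2 x
    rw [id] at ha hc
    rw [mul_apply', mul_apply', ha, hc, map_smul, map_smul, ha, hc, smul_smul, smul_smul, mul_comm]
  have h2 : ∀ w ∈ Fr.V0, (g * k) w = (k * g) w := by
    intro w hw
    obtain ⟨a, rfl⟩ := hV0 w hw
    rw [map_smul, map_smul]
    congr 1
    rw [mul_apply', mul_apply', hl, hm, map_smul, map_smul, hl, hm, smul_smul, smul_smul, mul_comm]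
  have h3 : (k * g)⁻¹ * (g * k) = 1 := by
    refine Amb.eq_one_of_fix hA (fun x => ?_) (fun w hw => ?_)
    · rw [mul_apply', h1, ← mul_apply', inv_mul_cancel]; rfl
    · rw [mul_apply', h2 w hw, ← mul_apply', inv_mul_cancel]; rfl
  exact (inv_mul_eq_one.1 h3).symm

/-- a torus element which multiplies `b (j, true)` by `t` and fixes `V0`; `j` the last index -/
theorem exists_tor (hA : Amb Fr G0) {i : Fin n} (hi : (i : ℕ) + 1 < n) {t : F} (ht : t ≠ 0) :
    ∃ g ∈ Tor Fr G0, g (Fr.b (⟨i + 1, hi⟩, true)) = t • Fr.b (⟨i + 1, hi⟩, true) ∧ ∀ w ∈ Fr.V0, g w = w := by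
  have hne : ((i, true) : Fin n × Bool).1 ≠ (nx i).1 := by
    unfold nx; rw [dif_pos hi]; simp [Fin.ext_iff]
  have hnx : nx i = (⟨i + 1, hi⟩, false) := by unfold nx; rw [dif_pos hi]
  have e0 : neg (nx i) = ((⟨i + 1, hi⟩, true) : Fin n × Bool) := by rw [hnx]; rfl
  have h1 := nX_apply_neg Fr hne ht
  have h2 := nX_apply_neg Fr hne (t := (1 : F)) one_ne_zero
  rw [e0] at h1 h2
  rw [one_smul] at h2
  refine ⟨(nX Fr (i, true) (nx i) 1)⁻¹ * nX Fr (i, true) (nx i) t, ?_, ?_, ?_⟩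
  · refine ⟨mul_mem (inv_mem (nX_mem hA _ _ _)) (nX_mem hA _ _ _), ?_⟩
    exact (((mono_nX hi one_ne_zero).inv (sg_sg i)).mul (mono_nX hi ht)).congr fun x => sg_sg i x
  · rw [mul_apply', h1, map_smul, ← h2, ← mul_apply', inv_mul_cancel]; rfl
  · intro w hw
    rw [mul_apply', nX_apply_V0 Fr hne hw]
    conv_lhs => rw [← nX_apply_V0 Fr hne hw 1]
    rw [← mul_apply', inv_mul_cancel]; rfl

end Frame

/-! ### The commutator identities -/

section Model

variable {F : Type*} [Field F] {V : Type*} [AddCommGroup V] [Module F V] {H : HForm F V} {n : ℕ}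
  {Fr : Frame H (Fin n)} {K : Type*} [Group K] (M : Model Fr K)

theorem map_comm {x y : Fin n → ℤ} {g k : V ≃ₗ[F] V} (hg : g ∈ M.I) (hk : k ∈ M.I) (hgx : g ∈ rg Fr x)
    (hky : k ∈ rg Fr y) (h : ⁅g, k⁆ ∈ M.I) : M.φ ⟨⁅g, k⁆, h⟩ ∈ ⁅X M x, X M y⁆ := by
  have e : (⟨⁅g, k⁆, h⟩ : M.I) = ⁅(⟨g, hg⟩ : M.I), ⟨k, hk⟩⁆ := by
    apply Subtype.ext
    rfl
  rw [e, map_commutatorElement]
  exact Subgroup.commutator_mem_commutator (mem_X_of M hg hgx) (mem_X_of M hk hky)

theorem X_mem_rg {x : Fin n → ℤ} {a b : Fin n × Bool} (hab : a.1 ≠ b.1) (e : ee x = wt a + wt b) (t : F) :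
    Fr.X a b t ∈ rg Fr x := by
  rw [rg_eq Fr (Or.inl hab) e, PG_ne Fr hab]
  exact ⟨t, rfl⟩

theorem Z_mem_rg {x : Fin n → ℤ} {a : Fin n × Bool} (e : ee x = wt a + wt a) (p : Fr.Adm) :
    Fr.Z a p ∈ rg Fr x := by
  rw [rg_eq Fr (Or.inr rfl) e, PG_self]
  exact ⟨p, rfl⟩

/-- **The commutator identities**: frames with `V0 ∋ d`, `h(d,d) ≠ 0`. -/
theorem gd (hp : ∃ d : V, H.h d d ≠ 0 ∧ ∀ a : F, ∃ c, Fr.ok (a • d) c) : Gd (X M) where
  a2 i j k hij hjk x y z ex ey ez := by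
    intro u hu
    obtain ⟨g, hg, hgz, rfl⟩ := (mem_X M).1 hu
    rw [rg_eq Fr (Or.inl (hij.trans hjk).ne) ez, PG_ne Fr (hij.trans hjk).ne] at hgz
    obtain ⟨t, rfl⟩ := hgz
    have e1 := Fr.conj_X_X (x := (i, true)) (y := (j, false)) (z := (k, false)) hij.ne hjk.ne (hij.trans hjk).ne 1 t
    rw [one_mul] at e1
    have e2 : Fr.X (i, true) (k, false) t = ⁅Fr.X (i, true) (j, false) 1, Fr.X (j, true) (k, false) t⁆ := by
      rw [commutatorElement_def]
      have e3 : Fr.X (i, true) (j, false) 1 * Fr.X (j, true) (k, false) t * (Fr.X (i, true) (j, false) 1)⁻¹ = _ := e1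
      rw [e3]
      exact (mul_inv_cancel_right _ _).symm
    have e4 : (⟨Fr.X (i, true) (k, false) t, hg⟩ : M.I) =
        ⟨⁅Fr.X (i, true) (j, false) 1, Fr.X (j, true) (k, false) t⁆, e2 ▸ hg⟩ := Subtype.ext e2
    rw [e4]
    exact map_comm M (M.hX _ _ _) (M.hX _ _ _) (X_mem_rg hij.ne ex 1) (X_mem_rg hjk.ne ey t) _
  mid i j hij x y z t ex ey ez et := by
    refine le_trans ?_ le_sup_right
    intro u hu
    obtain ⟨g, hg, hgz, rfl⟩ := (mem_X M).1 hu
    rw [rg_eq Fr (Or.inl hij.ne) ex, PG_ne Fr hij.ne] at hgz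
    obtain ⟨s, rfl⟩ := hgz
    obtain ⟨d, hdd, hok⟩ := hp
    obtain ⟨c0, hc0⟩ := hok 1
    rw [one_smul] at hc0
    have hη := Fr.η_ne (j, true)
    obtain ⟨c, hc⟩ := hok (H.σ (-((Fr.η (j, true))⁻¹ * s)) * (H.h d d)⁻¹)
    have e1 := Fr.Z_mul_Z (x := (i, true)) (y := (j, true)) hij.ne ⟨_, c, hc⟩ ⟨d, c0, hc0⟩
    have e2 : -(Fr.η (j, true) * H.σ (H.h ((H.σ (-((Fr.η (j, true))⁻¹ * s)) * (H.h d d)⁻¹) • d) d)) = s := by
      rw [H.smul_left, mul_assoc, inv_mul_cancel₀ hdd, mul_one, H.σσ]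
      field_simp
    simp only at e1
    rw [e2] at e1
    have e3 : Fr.X (i, true) (j, true) s = ⁅Fr.Z (i, true) ⟨_, c, hc⟩, Fr.Z (j, true) ⟨d, c0, hc0⟩⁆ := by
      rw [commutatorElement_def, e1]; group
    have e4 : (⟨Fr.X (i, true) (j, true) s, hg⟩ : M.I) =
        ⟨⁅Fr.Z (i, true) ⟨_, c, hc⟩, Fr.Z (j, true) ⟨d, c0, hc0⟩⁆, e3 ▸ hg⟩ := Subtype.ext e3
    rw [e4]
    exact map_comm M (M.hZ _ _) (M.hZ _ _) (Z_mem_rg ez _) (Z_mem_rg et _) _
  lng i j hij x y z t ex ey ez et := by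
    intro u hu
    obtain ⟨g, hg, hgz, rfl⟩ := (mem_X M).1 hu
    rw [rg_eq Fr (Or.inr rfl) ez, PG_self] at hgz
    obtain ⟨p, rfl⟩ := hgz
    have e1 := Fr.conj_X_Z (x := (i, true)) (y := (j, true)) hij.ne 1 p
    rw [map_one, Frame.Adm.one_smul, mul_one] at e1
    set s : F := -(H.ε⁻¹ * Fr.η (j, true) * H.σ p.c) with hs
    have e2 : Fr.Z (i, true) p = ⁅Fr.X (i, true) (j, false) 1, Fr.Z (j, true) p⁆ * (Fr.X (i, true) (j, true) s)⁻¹ := by
      rw [commutatorElement_def]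
      have e3 : Fr.X (i, true) (j, false) 1 * Fr.Z (j, true) p * (Fr.X (i, true) (j, false) 1)⁻¹ = _ := e1
      rw [e3]; group
    have hI : ⁅Fr.X (i, true) (j, false) 1, Fr.Z (j, true) p⁆ ∈ M.I :=
      mul_mem (mul_mem (mul_mem (M.hX _ _ _) (M.hZ _ _)) (inv_mem (M.hX _ _ _))) (inv_mem (M.hZ _ _))
    have e4 : (⟨Fr.Z (i, true) p, hg⟩ : M.I) =
        ⟨⁅Fr.X (i, true) (j, false) 1, Fr.Z (j, true) p⁆, hI⟩ * (⟨Fr.X (i, true) (j, true) s, M.hX _ _ _⟩ : M.I)⁻¹ :=
      Subtype.ext e2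
    rw [e4, map_mul, map_inv]
    refine mul_mem ?_ (inv_mem ?_)
    · exact (le_sup_left.trans le_sup_left : ⁅X M y, X M t⁆ ≤ ⁅X M y, X M t⁆ ⊔ ⁅X M x, X M y⁆ ⊔ ⁅X M z, X M t⁆)
        (map_comm M (M.hX _ _ _) (M.hZ _ _) (X_mem_rg hij.ne ey 1) (Z_mem_rg et p) _)
    · -- the same as `mid`
      obtain ⟨d, hdd, hok⟩ := hp
      obtain ⟨c0, hc0⟩ := hok 1
      rw [one_smul] at hc0
      have hη := Fr.η_ne (j, true)
      obtain ⟨c, hc⟩ := hok (H.σ (-((Fr.η (j, true))⁻¹ * s)) * (H.h d d)⁻¹)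
      have e1 := Fr.Z_mul_Z (x := (i, true)) (y := (j, true)) hij.ne ⟨_, c, hc⟩ ⟨d, c0, hc0⟩
      have e2 : -(Fr.η (j, true) * H.σ (H.h ((H.σ (-((Fr.η (j, true))⁻¹ * s)) * (H.h d d)⁻¹) • d) d)) = s := by
        rw [H.smul_left, mul_assoc, inv_mul_cancel₀ hdd, mul_one, H.σσ]
        field_simp
      simp only at e1
      rw [e2] at e1
      have e3 : Fr.X (i, true) (j, true) s = ⁅Fr.Z (i, true) ⟨_, c, hc⟩, Fr.Z (j, true) ⟨d, c0, hc0⟩⁆ := by
        rw [commutatorElement_def, e1]; group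
      have e5 : (⟨Fr.X (i, true) (j, true) s, M.hX _ _ _⟩ : M.I) =
          ⟨⁅Fr.Z (i, true) ⟨_, c, hc⟩, Fr.Z (j, true) ⟨d, c0, hc0⟩⁆, e3 ▸ M.hX _ _ _⟩ := Subtype.ext e3
      rw [e5]
      exact (le_sup_right : ⁅X M z, X M t⁆ ≤ ⁅X M y, X M t⁆ ⊔ ⁅X M x, X M y⁆ ⊔ ⁅X M z, X M t⁆)
        (map_comm M (M.hZ _ _) (M.hZ _ _) (Z_mem_rg ez _) (Z_mem_rg et _) _)

variable (hA : Amb Fr M.I)

include hA in
/-- `φ` is injective on the root groups of type II -/
theorem phi_Z {x : Fin n × Bool} {p : Fr.Adm} {h : Fr.Z x p ∈ M.I} (h1 : M.φ ⟨Fr.Z x p, h⟩ = 1) : p = 1 := by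
  obtain ⟨l, hl⟩ := M.ker (Fr.b (neg x)) _ h1
  change Fr.Z x p (Fr.b (neg x)) = l • Fr.b (neg x) at hl
  rw [Z_apply_neg] at hl
  have h2 := congrArg (fun v => H.h v (Fr.b (neg x))) hl
  simp only [H.add_left, H.smul_left, Fr.hb_self, mul_zero, zero_add, add_zero, Fr.h0' _ (Fr.ok_mem p.ok),
    Fr.hb_self_neg] at h2
  have hc : p.c = 0 := by
    rcases mul_eq_zero.1 h2 with h3 | h3
    · rcases mul_eq_zero.1 h3 with h4 | h4
      · exact h4
      · exact absurd h4 (Fr.η_ne _)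
    · exact absurd h3 (Fr.η_ne _)
  have hw : p.w = 0 := hA.ok_aniso _ (by have := p.ok; rwa [hc] at this)
  exact Frame.Adm.ext hw hc

/-- type II elements of `K` -/
noncomputable abbrev zz (x : Fin n × Bool) (p : Fr.Adm) : K := M.Z x p

theorem zz_mul (x : Fin n × Bool) (p q : Fr.Adm) : M.Z x (p * q) = M.Z x p * M.Z x q := by
  unfold Model.Z
  rw [← map_mul]
  congr 1
  exact Subtype.ext (Fr.Z_mul x p q)

theorem zz_one (x : Fin n × Bool) : M.Z x 1 = 1 := by
  have h := zz_mul M x 1 1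
  rw [one_mul] at h
  exact mul_eq_left.1 h.symm

theorem zz_inv (x : Fin n × Bool) (p : Fr.Adm) : M.Z x p⁻¹ = (M.Z x p)⁻¹ := by
  rw [eq_inv_iff_mul_eq_one, ← zz_mul, inv_mul_cancel, zz_one]

include hA in
theorem zz_inj {x : Fin n × Bool} {p q : Fr.Adm} (h : M.Z x p = M.Z x q) : p = q := by
  have h1 : M.Z x (p * q⁻¹) = 1 := by rw [zz_mul, zz_inv, h, mul_inv_cancel]
  exact mul_inv_eq_one.1 (phi_Z M hA h1)

/-- the root group of the last node -/
theorem mem_X_last {i : Fin n} (hi : ¬ (i : ℕ) + 1 < n) {k : K} : k ∈ X M (sr i) ↔ ∃ p : Fr.Adm, k = M.Z (i, true) p := by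
  have hnx : nx i = (i, true) := by unfold nx; rw [dif_neg hi]
  rw [mem_X]
  constructor
  · rintro ⟨g, hg, h, rfl⟩
    rw [rg_sr, hnx, PG_self] at h
    obtain ⟨p, rfl⟩ := h
    exact ⟨p, rfl⟩
  · rintro ⟨p, rfl⟩
    exact ⟨_, M.hZ _ _, by rw [rg_sr, hnx, PG_self]; exact ⟨p, rfl⟩, rfl⟩

/-- the root groups of the other nodes have exponent two -/
theorem sq_of_lt [CharP F 2] {i : Fin n} (hi : (i : ℕ) + 1 < n) {u : K} (hu : u ∈ X M (sr i)) : u * u = 1 := by
  have hne : ((i, true) : Fin n × Bool).1 ≠ (nx i).1 := by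
    unfold nx; rw [dif_pos hi]; simp [Fin.ext_iff]
  obtain ⟨g, hg, h, rfl⟩ := (mem_X M).1 hu
  rw [rg_sr, PG_ne Fr hne] at h
  obtain ⟨t, rfl⟩ := h
  rw [← map_mul]
  have e : (⟨Fr.X (i, true) (nx i) t, hg⟩ : M.I) * ⟨Fr.X (i, true) (nx i) t, hg⟩ = 1 := by
    apply Subtype.ext
    show Fr.X (i, true) (nx i) t * Fr.X (i, true) (nx i) t = 1
    rw [← Fr.X_add, CharTwo.add_self_eq_zero, Fr.X_zero]
  rw [e, map_one]

include hA in
/-- `T` is abelian -/
theorem T_comm {d : V} (hd : d ∈ Fr.V0) (hV0 : ∀ w ∈ Fr.V0, ∃ a : F, w = a • d) :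
    ∀ s ∈ T M, ∀ t ∈ T M, s * t = t * s := by
  rintro _ ⟨g, hg, rfl⟩ _ ⟨k, hk, rfl⟩
  have h1 := tor_comm hA hd hV0 (Subgroup.mem_subgroupOf.1 hg) (Subgroup.mem_subgroupOf.1 hk)
  rw [← map_mul, ← map_mul]
  congr 1
  exact Subtype.ext h1

end Model

/-! ### Admissible pairs in characteristic two -/

section Adm

variable {F : Type*} [Field F] {V : Type*} [AddCommGroup V] [Module F V] {H : HForm F V} {n : ℕ}
  {Fr : Frame H (Fin n)} {G0 : Subgroup (V ≃ₗ[F] V)} [CharP F 2]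

theorem sq_w (p : Fr.Adm) : (p * p).w = 0 := by
  have h1 : p.w + p.w = ((1 : F) + 1) • p.w := by rw [add_smul, one_smul]
  rw [Frame.Adm.mul_w, h1, CharTwo.add_self_eq_zero, zero_smul]

theorem sq_c (p : Fr.Adm) : (p * p).c = -(H.ε⁻¹ * H.h p.w p.w) := by
  rw [Frame.Adm.mul_c, CharTwo.add_self_eq_zero, zero_sub]

theorem sq_eq_one (hA : Amb Fr G0) {p : Fr.Adm} : p * p = 1 ↔ p.w = 0 := by
  constructor
  · intro h
    have h1 := sq_c p
    rw [h, Frame.Adm.one_c, eq_comm, neg_eq_zero, mul_eq_zero] at h1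
    rcases h1 with h2 | h2
    · exact absurd h2 (inv_ne_zero H.ε_ne)
    · exact hA.aniso _ (Fr.ok_mem p.ok) h2
  · intro h
    refine Frame.Adm.ext (sq_w p) ?_
    rw [sq_c, h, H.zero_left, mul_zero, neg_zero, Frame.Adm.one_c]

omit [CharP F 2] in
theorem cen_of_w {p : Fr.Adm} (h : p.w = 0) (r : Fr.Adm) : p * r = r * p := by
  refine Frame.Adm.ext ?_ ?_
  · rw [Frame.Adm.mul_w, Frame.Adm.mul_w, add_comm]
  · rw [Frame.Adm.mul_c, Frame.Adm.mul_c, h, H.zero_left, H.zero_right, add_comm]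

end Adm

/-! ### The unitary groups of odd dimension -/

section Unitary

variable {F : Type*} [Field F] [Fintype F] [CharP F 2] {q N m : ℕ} (hF : Fintype.card F = q ^ 2) (hN : 3 ≤ N)
  (W : WFrame (PU hF N) m) {d : Fin N → F} (hd : hermForm N F q d d = 1) (hW : W.V0 = Submodule.span F {d})

include hW in
theorem d_mem : d ∈ (toFrame W).V0 := by
  show d ∈ W.V0
  rw [hW]; exact Submodule.mem_span_singleton_self d

include hW in
theorem exists_smul : ∀ w ∈ (toFrame W).V0, ∃ a : F, w = a • d := by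
  intro w hw
  have hw' : w ∈ W.V0 := hw
  rw [hW] at hw'
  obtain ⟨a, ha⟩ := Submodule.mem_span_singleton.1 hw'
  exact ⟨a, ha.symm⟩

include hW in
theorem exists_ok (a : F) : ∃ c, (toFrame W).ok (a • d) c := by
  obtain ⟨c, hc⟩ := (PU hF N).ex (a • d)
  exact ⟨c, (toFrame W).V0.smul_mem a (d_mem hF W hW), hc⟩

include hd in
theorem d_ne : d ≠ 0 := by
  rintro rfl
  rw [herm_zero_left] at hd
  exact zero_ne_one hd

include hd in
theorem smul_inj {a b : F} (h : a • d = b • d) : a = b := by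
  have h1 : (a - b) • d = 0 := by rw [sub_smul, h, sub_self]
  rcases smul_eq_zero.1 h1 with h2 | h2
  · exact sub_eq_zero.1 h2
  · exact absurd h2 (d_ne hd)

include hd hW in
/-- elements of `Ω₁` are squares -/
theorem exists_sq {z : (toFrame W).Adm} (hz : z.w = 0) : ∃ y : (toFrame W).Adm, z = y * y := by
  have h1 : z.c + z.c ^ q = 0 := by
    have h2 := z.ok.2
    rw [ok_iff, hz, herm_zero_left, neg_zero] at h2
    exact h2
  have h2 : z.c ^ q = z.c := by
    have h3 := eq_neg_of_add_eq_zero_right h1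
    rw [h3, CharTwo.neg_eq]
  obtain ⟨a, ha⟩ := _root_.Cfsg.Agent.LieClassical.HermBasic.exists_norm_eq hF h2
  obtain ⟨c, hc⟩ := exists_ok hF W hW a
  refine ⟨⟨a • d, c, hc⟩, ?_⟩
  refine Frame.Adm.ext ?_ ?_
  · rw [sq_w, hz]
  · rw [sq_c]
    show z.c = -((1 : F)⁻¹ * hermForm N F q (a • d) (a • d))
    rw [inv_one, one_mul, herm_smul_left, herm_smul_right, hd, mul_one, ha, CharTwo.neg_eq]

include hd hW in
theorem card_lt {i : Fin m} (hi : ¬ (i : ℕ) + 1 < m) (Z : Subgroup (PSU N F q))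
    (hZ : ∀ z ∈ Z, z ∈ X (KInstU.model hF hN W) (sr i) ∧ z * z = 1) :
    Nat.card Z * Nat.card Z < Nat.card (X (KInstU.model hF hN W) (sr i)) := by
  classical
  set M := KInstU.model hF hN W with hM
  have hA : Amb (toFrame W) M.I := Nodes.WittU.amb_U hF W
  let Om := {c : F // c + c ^ q = 0}
  have hw : ∀ z : Z, ∃ p : (toFrame W).Adm, (z : PSU N F q) = M.Z (i, true) p ∧ p.w = 0 := by
    intro z
    obtain ⟨h1, h2⟩ := hZ z z.2
    obtain ⟨p, hp⟩ := (mem_X_last M hi).1 h1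
    refine ⟨p, hp, (sq_eq_one hA).1 ?_⟩
    rw [hp, ← zz_mul, ← zz_one M (i, true)] at h2
    exact zz_inj M hA h2
  choose f hf hf0 using hw
  have hok : ∀ z, (f z).c + (f z).c ^ q = 0 := by
    intro z
    have h2 := (f z).ok.2
    rw [ok_iff, hf0, herm_zero_left, neg_zero] at h2
    exact h2
  have h1 : Nat.card Z ≤ Nat.card Om := by
    refine Nat.card_le_card_of_injective (fun z => (⟨(f z).c, hok z⟩ : Om)) ?_
    intro z z' hzz
    have h3 : (f z).c = (f z').c := congrArg Subtype.val hzz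
    have h4 : f z = f z' := Frame.Adm.ext (by rw [hf0, hf0]) h3
    apply Subtype.ext
    rw [hf z, hf z', h4]
  have h2 : Nat.card Om < Nat.card F := by
    obtain ⟨x, hx⟩ := exists_trace_ne hF
    rw [Nat.card_eq_fintype_card, Nat.card_eq_fintype_card]
    exact Fintype.card_subtype_lt hx
  have h3 : Nat.card F * Nat.card Om ≤ Nat.card (X M (sr i)) := by
    choose s hs using exists_ok hF W hW
    rw [← Nat.card_prod]
    refine Nat.card_le_card_of_injective
      (fun x : F × Om => (⟨M.Z (i, true) ((⟨x.1 • d, s x.1, hs x.1⟩ : (toFrame W).Adm) *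
        ⟨0, x.2.1, ⟨W.V0.zero_mem, by rw [ok_iff, herm_zero_left, neg_zero]; exact x.2.2⟩⟩),
        (mem_X_last M hi).2 ⟨_, rfl⟩⟩ : X M (sr i))) ?_
    rintro ⟨a, c⟩ ⟨a', c'⟩ h
    have h4 := zz_inj M hA (congrArg Subtype.val h)
    have h5 := congrArg Frame.Adm.w h4
    simp only [Frame.Adm.mul_w, add_zero] at h5
    have h6 : a = a' := smul_inj hd h5
    subst h6
    have h7 := mul_left_cancel h4
    have h8 := congrArg Frame.Adm.c h7
    exact Prod.ext rfl (Subtype.ext h8)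
  have h4 : 0 < Nat.card Om := by
    have : Nonempty Om := ⟨⟨0, by rw [zero_pow_q hF, add_zero]⟩⟩
    exact Nat.card_pos
  calc Nat.card Z * Nat.card Z ≤ Nat.card Om * Nat.card Om := Nat.mul_le_mul h1 h1
    _ < Nat.card F * Nat.card Om := Nat.mul_lt_mul_of_pos_right h2 h4
    _ ≤ _ := h3

include hd hW in
/-- **The last node.** -/
theorem ex_last {i : Fin m} (hi : (i : ℕ) + 1 < m) (hi' : (i : ℕ) + 2 = m) :
    InL.Ex (T (KInstU.model hF hN W)) (X (KInstU.model hF hN W)) (⟨i + 1, hi⟩ : Fin m) where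
  cen := by
    set M := KInstU.model hF hN W with hM
    have hA : Amb (toFrame W) M.I := Nodes.WittU.amb_U hF W
    have hl : ¬ (((⟨i + 1, hi⟩ : Fin m) : ℕ) + 1 < m) := by simp only; omega
    intro u hu hu2 v hv
    obtain ⟨p, rfl⟩ := (mem_X_last M hl).1 hu
    obtain ⟨r, rfl⟩ := (mem_X_last M hl).1 hv
    rw [← zz_mul, ← zz_one M (⟨i + 1, hi⟩, true)] at hu2
    rw [← zz_mul, ← zz_mul, cen_of_w ((sq_eq_one hA).1 (zz_inj M hA hu2))]
  com := by
    set M := KInstU.model hF hN W with hM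
    have hA : Amb (toFrame W) M.I := Nodes.WittU.amb_U hF W
    have hl : ¬ (((⟨i + 1, hi⟩ : Fin m) : ℕ) + 1 < m) := by simp only; omega
    intro u hu v hv
    obtain ⟨p, rfl⟩ := (mem_X_last M hl).1 hu
    obtain ⟨r, rfl⟩ := (mem_X_last M hl).1 hv
    rw [← zz_inv, ← zz_inv, ← zz_mul, ← zz_mul, ← zz_mul, ← zz_mul, (sq_eq_one hA).2, zz_one]
    simp only [Frame.Adm.mul_w, Frame.Adm.inv_w]
    abel
  sq := by
    set M := KInstU.model hF hN W with hM
    have hA : Amb (toFrame W) M.I := Nodes.WittU.amb_U hF W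
    have hl : ¬ (((⟨i + 1, hi⟩ : Fin m) : ℕ) + 1 < m) := by simp only; omega
    intro z hz hz2
    obtain ⟨p, rfl⟩ := (mem_X_last M hl).1 hz
    rw [← zz_mul, ← zz_one M (⟨i + 1, hi⟩, true)] at hz2
    obtain ⟨y, hy⟩ := exists_sq hF W hd hW ((sq_eq_one hA).1 (zz_inj M hA hz2))
    exact ⟨M.Z (⟨i + 1, hi⟩, true) y, (mem_X_last M hl).2 ⟨y, rfl⟩, by rw [← zz_mul, ← hy]⟩
  irr := by
    set M := KInstU.model hF hN W with hM
    have hA : Amb (toFrame W) M.I := Nodes.WittU.amb_U hF W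
    have hl : ¬ (((⟨i + 1, hi⟩ : Fin m) : ℕ) + 1 < m) := by simp only; omega
    intro K hK hO hT
    by_cases hK2 : ∀ z ∈ K, z * z = 1
    · exact Or.inl hK2
    right
    push Not at hK2
    obtain ⟨k, hk, hk2⟩ := hK2
    obtain ⟨p, rfl⟩ := (mem_X_last M hl).1 (hK hk)
    have hp : p.w ≠ 0 := by
      intro h0
      apply hk2
      rw [← zz_mul, (sq_eq_one hA).2 h0, zz_one]
    obtain ⟨a, ha⟩ := exists_smul hF W hW _ ((toFrame W).ok_mem p.ok)
    have ha0 : a ≠ 0 := by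
      rintro rfl
      rw [zero_smul] at ha
      exact hp ha
    have hOm : ∀ r : (toFrame W).Adm, r.w = 0 → M.Z (⟨i + 1, hi⟩, true) r ∈ K := by
      intro r hr
      refine hO _ ((mem_X_last M hl).2 ⟨r, rfl⟩) ?_
      rw [← zz_mul, (sq_eq_one hA).2 hr, zz_one]
    intro u hu
    obtain ⟨r, rfl⟩ := (mem_X_last M hl).1 hu
    by_cases hr : r.w = 0
    · exact hOm r hr
    obtain ⟨b, hb⟩ := exists_smul hF W hW _ ((toFrame W).ok_mem r.ok)
    have hb0 : b ≠ 0 := by
      rintro rfl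
      rw [zero_smul] at hb
      exact hr hb
    have ht0 : (HU hF N).σ (b * a⁻¹) ≠ 0 := by
      rw [ne_eq, map_eq_zero]
      exact mul_ne_zero hb0 (inv_ne_zero ha0)
    obtain ⟨g, hg, hg1, hg2⟩ := exists_tor hA hi ht0
    have h1 := conj_Z (toFrame W) (hA.iso g hg.1) hg1 p p (hg2 _ ((toFrame W).ok_mem p.ok)) rfl
    rw [(HU hF N).σσ] at h1
    have h2 : M.Z (⟨i + 1, hi⟩, true) (Frame.Adm.smul (b * a⁻¹) p) ∈ K := by
      have h3 := hT (M.φ ⟨g, hg.1⟩) (Subgroup.mem_map_of_mem _ (Subgroup.mem_subgroupOf.2 hg)) _ hk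
      have h4 : M.φ ⟨g, hg.1⟩ * M.Z (⟨i + 1, hi⟩, true) p * (M.φ ⟨g, hg.1⟩)⁻¹ =
          M.Z (⟨i + 1, hi⟩, true) (Frame.Adm.smul (b * a⁻¹) p) := by
        unfold Model.Z
        rw [← map_inv, ← map_mul, ← map_mul]
        congr 1
        exact Subtype.ext h1
      rwa [h4] at h3
    have h3 : ((Frame.Adm.smul (b * a⁻¹) p)⁻¹ * r).w = 0 := by
      rw [Frame.Adm.mul_w, Frame.Adm.inv_w, Frame.Adm.smul_w, ha, hb, smul_smul, inv_mul_cancel_right₀ ha0,
        neg_add_cancel]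
    have h4 := mul_mem h2 (hOm _ h3)
    rwa [← zz_mul, mul_inv_cancel_left] at h4
  card := card_lt hF hN W hd hW (by simp only; omega)

include hd hW in
/-- the root group of `2 ε_0` is not abelian -/
theorem not_comm {x : Fin m → ℤ} {i : Fin m} (ex : ee x = wt (i, true) + wt (i, true)) :
    ⁅X (KInstU.model hF hN W) x, X (KInstU.model hF hN W) x⁆ ≠ ⊥ := by
  intro hbot
  set M := KInstU.model hF hN W with hM
  have hA : Amb (toFrame W) M.I := Nodes.WittU.amb_U hF W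
  obtain ⟨b, hb⟩ := exists_not_fixed hF
  obtain ⟨c, hc⟩ := exists_ok hF W hW b
  obtain ⟨e, he⟩ := exists_ok hF W hW 1
  have h1 : ∀ p : (toFrame W).Adm, M.Z (i, true) p ∈ X M x := fun p => mem_X_of M (M.hZ _ _) (Z_mem_rg ex p)
  have h2 : ⁅M.Z (i, true) ⟨b • d, c, hc⟩, M.Z (i, true) ⟨(1 : F) • d, e, he⟩⁆ = 1 := by
    rw [← Subgroup.mem_bot, ← hbot]
    exact Subgroup.commutator_mem_commutator (h1 _) (h1 _)
  rw [commutatorElement_eq_one_iff_mul_comm, ← zz_mul, ← zz_mul] at h2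
  have h3 := congrArg Frame.Adm.c (zz_inj M hA h2)
  have h4 : c + e - (1 : F)⁻¹ * hermForm N F q ((1 : F) • d) (b • d) =
      e + c - (1 : F)⁻¹ * hermForm N F q (b • d) ((1 : F) • d) := h3
  rw [inv_one, one_mul, one_mul, herm_smul_left, herm_smul_right, herm_smul_left, herm_smul_right, hd, one_pow,
    mul_one, mul_one, one_mul, add_comm e c, sub_right_inj] at h4
  exact hb (h4.trans (mul_one b))

include hd hW in
/-- **There is no row.** -/
theorem row_false (hm : 0 < m) {nn : Fin m → PSU N F q} {V : Type*} [AddCommGroup V] [Module (ZMod 2) V]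
    {ρ : PSU N F q →* (V ≃ₗ[ZMod 2] V)} {b : LinearMap.BilinForm (ZMod 2) V} {a : V} {D : Submodule (ZMod 2) V}
    {X0 : Subgroup (PSU N F q)} {w : ℕ}
    (R : Row (CoxeterMatrix.B m).toCoxeterSystem (isCartan m) (T (KInstU.model hF hN W)) nn
      (X (KInstU.model hF hN W)) ρ b a D X0 w) : False := by
  set M := KInstU.model hF hN W with hM
  have : Finite (CoxeterMatrix.B m).Group := finite_W (CoxeterMatrix.B m).toCoxeterSystem
  have hG : Gd (X M) := gd M ⟨d, by show hermForm N F q d d ≠ 0; rw [hd]; exact one_ne_zero, exists_ok hF W hW⟩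
  have hX : X0 = Nodes.LeviDec.VJ (CoxeterMatrix.B m).toCoxeterSystem (isCartan m) (X M) (Mv ρ nn a)ᶜ :=
    Cov.eq_VJ R (fun u hu => ThmA.thmA R.core le_rfl u hu) (fun x hx h0 hs => hG.gen _ hx h0 hs)
  obtain ⟨k, hk⟩ := mv_nonempty R
  obtain ⟨x, hx, ex⟩ := exists_root (CoxeterMatrix.B m).toCoxeterSystem (a := ((⟨0, hm⟩ : Fin m), true))
    (b := ((⟨0, hm⟩ : Fin m), true)) (Or.inr rfl) rfl le_rfl
  have h0 : (⟨0, hm⟩ : Fin m) ≤ k := Nat.zero_le _
  exact not_comm hF hN W hd hW ex (comm_bot R hX hx hx hk hk (pos_add ex h0) (pos_add ex h0))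

end Unitary

universe u

/-- **`PSU_{2m+1}(q)`, `q` even, `m ≥ 2`**: the data, and there is no `Row`. -/
theorem exists_bdU {F : Type*} [Field F] [Fintype F] [CharP F 2] {q m : ℕ} (hF : Fintype.card F = q ^ 2)
    (hm : 2 ≤ m) :
    ∃ (T : Subgroup (PSU (2 * m + 1) F q)) (n : Fin m → PSU (2 * m + 1) F q)
      (X : (Fin m → ℤ) → Subgroup (PSU (2 * m + 1) F q)), BdU (CoxeterMatrix.B m) (isCartan m) T n X ∧
      ∀ (V : Type u) [AddCommGroup V] [Module (ZMod 2) V] (ρ : PSU (2 * m + 1) F q →* (V ≃ₗ[ZMod 2] V))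
        (b : LinearMap.BilinForm (ZMod 2) V) (a : V) (D : Submodule (ZMod 2) V) (X0 : Subgroup (PSU (2 * m + 1) F q))
        (w : ℕ), ¬ Row (CoxeterMatrix.B m).toCoxeterSystem (isCartan m) T n X ρ b a D X0 w := by
  have hN : 3 ≤ 2 * m + 1 := by omega
  obtain ⟨W, d, hd, hW⟩ := exists_wframe_odd (N := 2 * m + 1) hF rfl
  obtain ⟨p0, hp0, -⟩ := Nodes.WittU.exists_adm hF W
  have hA : Amb (toFrame W) (KInstU.model hF hN W).I := Nodes.WittU.amb_U hF W
  have hlast : ∀ j : Fin m, ¬ (j : ℕ) + 1 < m → InL.Ex (T (KInstU.model hF hN W)) (X (KInstU.model hF hN W)) j := by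
    intro j hj
    have hj2 := j.2
    have h1 := ex_last hF hN W hd hW (i := ⟨m - 2, by omega⟩) (by simp only; omega) (by simp only; omega)
    have e : (⟨((⟨m - 2, by omega⟩ : Fin m) : ℕ) + 1, by simp only; omega⟩ : Fin m) = j := Fin.ext (by simp only; omega)
    rwa [e] at h1
  refine ⟨_, nw (KInstU.model hF hN W) hA p0, _, ⟨finite_W (CoxeterMatrix.B m).toCoxeterSystem,
    Nodes.RGDAllP.rgd_model (KInstU.model hF hN W) hA hp0 _, G1_eq_top _ (by omega) _,
    T_comm _ hA (d_mem hF W hW) (exists_smul hF W hW), fun j => ?_, fun i j h1 h2 => ?_⟩,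
    fun V _ _ ρ b a D X0 w R => row_false hF hN W hd hW (by omega) R⟩
  · by_cases hj : (j : ℕ) + 1 < m
    · exact Or.inl fun u hu => sq_of_lt _ hj hu
    · exact Or.inr (hlast j hj)
  · have hi' : ¬ (i : ℕ) + 1 < m := fun hi => h1 fun u hu => sq_of_lt _ hi hu
    have hj' : ¬ (j : ℕ) + 1 < m := fun hj => h2 fun u hu => sq_of_lt _ hj hu
    exact Fin.ext (by have := i.2; have := j.2; omega)

/-- **`KfRowU` for `PSU_{2m+1}(q)`.** -/
theorem kfRowU {F : Type*} [Field F] [Fintype F] [CharP F 2] {q m : ℕ} (hF : Fintype.card F = q ^ 2)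
    (hm : 2 ≤ m) : KfRowU.{u} (PSU (2 * m + 1) F q) := by
  obtain ⟨T, n, X, B, h⟩ := exists_bdU.{u} hF hm
  exact ⟨m, _, _, _, T, n, X, B, fun V _ _ ρ b a D X0 w R => absurd R (h V ρ b a D X0 w)⟩

end Cfsg.Agent.Omega.EH3.Kf.UOdd

end

section


/-!
# EH3, Lie rows in characteristic 2: the data of `PΩ⁻_{2m}(q)` (helper944, for row `omm` of `Kf/Table.lean`)

* `bd_of_orth` : `FamRow.Bd` for a model `M : Model Fr K`, `Fr` of orthogonal type with `V0` a plane;
* `bd_minus` : the same for `KSideO.model (wminus m F a b hab) hG hp` (`SpecMinus.modelMinus` is an instance);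
* `exists_h` : `h(p.w, q.w) = t` has a solution in `Fr.Adm`; `card_adm` : `|Fr.Adm| = |F|²`.
-/

set_option autoImplicit false
set_option linter.unusedSectionVars false

namespace Cfsg.Agent.Omega.EH3.Kf.OMinusBd

open CoxeterSystem Cfsg.Agent.ChevalleyStructure.CoxeterGeom Cfsg.Agent.Tits.Roots
  Cfsg.Agent.Nodes.Comb Cfsg.Agent.Nodes.Reps Cfsg.Agent.Nodes.BNOf Cfsg.Agent.Nodes.TypeC
  Cfsg.Agent.Nodes.WittRoot Cfsg.Agent.Nodes.RGDLib
open Cfsg Cfsg.Agent.TitsThree Cfsg.Agent.TitsThree.Siegel Cfsg.Agent.TitsThree.SiegelGen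
  Cfsg.Agent.TitsThree.WittFrame Cfsg.Agent.TitsThree.WBridge Cfsg.Agent.TitsThree.WittWeyl
  Cfsg.Agent.TitsThree.FrameCN Cfsg.Agent.TitsThree.KSideO
open Cfsg.Agent.KFacts.WittOrth Cfsg.Agent.KFacts.SpecMinus Cfsg.Agent.OddHalf.DblR.MinusTor
open Cfsg.Agent.Omega.EH3.Kf.Base Cfsg.Agent.Omega.EH3.Kf.FamRow
open Cfsg.Agent.LieClassical Cfsg.Agent.LieClassical.OrthCore Cfsg.Agent.LieClassical.OrthTrans
open Cfsg.Agent.LieClassical.OrthSimple Cfsg.Agent.LieClassical.OrthFinite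
open Cfsg.Agent.LieClassical.OrthForms

/-! ### Frames -/

section Frame

variable {F : Type*} [Field F] {V : Type*} [AddCommGroup V] [Module F V] {H : HForm F V} {n : ℕ}
  {Fr : Frame H (Fin n)} (O : Orth Fr)

include O

/-- the form is onto on admissible pairs, if `V0` is a plane -/
theorem exists_h (hP : IsPlane Fr) (t : F) : ∃ p q : Fr.Adm, H.h p.w q.w = t := by
  obtain ⟨q, v0, w0, P, -⟩ := hP
  obtain ⟨c, hc⟩ := O.full _ (Fr.V0.smul_mem t v0.2)
  obtain ⟨d, hd⟩ := O.full _ w0.2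
  refine ⟨⟨_, c, hc⟩, ⟨_, d, hd⟩, ?_⟩
  have h1 : H.h v0.1 w0.1 = 1 := P.pair
  rw [H.smul_left, h1, mul_one]

end Frame

/-! ### Models -/

section Model

variable {F : Type*} [Field F] {V : Type*} [AddCommGroup V] [Module F V] {H : HForm F V} {n : ℕ}
  {Fr : Frame H (Fin n)} {K : Type*} [Group K] (M : Model Fr K) (O : Orth Fr)

include O

/-- the simple root groups have exponent two -/
theorem sq_eq_one {i : Fin n} {u : K} (hu : u ∈ Nodes.WittModel.X M (sr i)) : u * u = 1 := by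
  have : CharP F 2 := CharTwo.of_one_ne_zero_of_two_eq_zero one_ne_zero O.two
  by_cases hi : (i : ℕ) + 1 < n
  · exact UOdd.sq_of_lt M hi hu
  · obtain ⟨p, rfl⟩ := (UOdd.mem_X_last M hi).1 hu
    rw [← UOdd.zz_mul, O.adm_sq, UOdd.zz_one]

/-- **The data of a model of orthogonal type, `V0` a plane.** -/
theorem bd_of_orth [Finite V] (hn : 0 < n) (hP : IsPlane Fr) (hA : Nodes.WittAll.AmbT Fr 2 M.I) {p0 : Fr.Adm}
    (hp0 : p0.c ≠ 0) :
    Bd (CoxeterMatrix.B n) (isCartan n) (Nodes.WittModel.T M)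
      (fun i => M.φ ⟨Nodes.WittRGD.nn Fr p0 i, Nodes.WittAll.nn_mem hA p0 i⟩) (Nodes.WittModel.X M) := by
  have : CharP F 2 := CharTwo.of_one_ne_zero_of_two_eq_zero one_ne_zero O.two
  have : Fact (Nat.Prime 2) := ⟨Nat.prime_two⟩
  exact ⟨finite_W (CoxeterMatrix.B n).toCoxeterSystem, Nodes.WittAll.rgdC_model M hA hp0 _,
    Nodes.WittModel.G1_eq_top M hn _, tab_model O hP M hA, fun i u hu => sq_eq_one M O hu⟩

end Model

/-! ### The minus form -/

section Minus

variable {F : Type*} [Field F] [Finite F] [CharP F 2] {m : ℕ} (a b : F)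
    (hab : ∀ z₁ z₂ : F, z₁ ^ 2 + a * z₁ * z₂ + b * z₂ ^ 2 = 0 → z₁ = 0 ∧ z₂ = 0)

include hab

theorem ambT (hm : 2 ≤ m) (hG : _root_.Cfsg.Agent.LieClassical.OrthTrans.Good (minusForm m F a b)) :
    Nodes.WittAll.AmbT (toFrame (wminus m F a b hab)) 2 (E (minusForm m F a b)) :=
  Nodes.WittInst.ambT_O _ fun _ hg hg2 hb =>
    Nodes.WittInst.fixp_minus a b hab CharTwo.two_eq_zero hm hG hg hg2 hb

theorem orth : Orth (toFrame (wminus m F a b hab)) := orth_minus CharTwo.two_eq_zero m a b hab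

theorem isPlane : IsPlane (toFrame (wminus m F a b hab)) := isPlane_minus CharTwo.two_eq_zero m a b hab

theorem exists_h_minus (t : F) : ∃ p q : (toFrame (wminus m F a b hab)).Adm,
    (HO (minusForm m F a b)).h p.w q.w = t := exists_h (orth a b hab) (isPlane a b hab) t

/-- **The data of `PΩ⁻_{2m+2}(F)`, `F` finite of characteristic two, `m ≥ 2`** (any `Good`, `hp`, `hA`). -/
theorem bd_minus (hm : 2 ≤ m) (hG : _root_.Cfsg.Agent.LieClassical.OrthTrans.Good (minusForm m F a b))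
    (hp : ∃ p : (toFrame (wminus m F a b hab)).Adm, p.c ≠ 0)
    (hA : Nodes.WittAll.AmbT (toFrame (wminus m F a b hab)) 2 (model (wminus m F a b hab) hG hp).I)
    {p0 : (toFrame (wminus m F a b hab)).Adm} (hp0 : p0.c ≠ 0) :
    Bd (CoxeterMatrix.B m) (isCartan m) (Nodes.WittModel.T (model (wminus m F a b hab) hG hp))
      (fun i => (model (wminus m F a b hab) hG hp).φ
        ⟨Nodes.WittRGD.nn (toFrame (wminus m F a b hab)) p0 i, Nodes.WittAll.nn_mem hA p0 i⟩)
      (Nodes.WittModel.X (model (wminus m F a b hab) hG hp)) :=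
  bd_of_orth (model (wminus m F a b hab) hG hp) (orth a b hab) (by omega) (isPlane a b hab) hA hp0

end Minus

end Cfsg.Agent.Omega.EH3.Kf.OMinusBd

end

section


/-!
# EH3, Lie rows in characteristic 2: the torus on a central cover (helper827)

`R : RGD cs h p T n X` with `n j ∈ ⟨X α_j, X (-α_j)⟩`.

* `T0 T X = ⨆ j, T ⊓ ⟨X α_j, X (-α_j)⟩` : `rgd_T0 : RGD cs h p (T0 T X) n X`;
* `Rank1 R` : the rank one tori are cyclic and induce on `⟨X α_j, X (-α_j)⟩` everything that `T` induces;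
* `comm_T0` : for a central extension `f : Y → Y'` with a datum `R'` of `Y'` with `Rank1`, the group `T0` of the lifted
  datum is abelian;
* `lift` : the datum of a perfect central extension by a `p'`-group.
-/

set_option autoImplicit false
set_option linter.unusedSectionVars false

namespace Cfsg.Agent.Omega.EH3.Kf.Tor

open scoped commutatorElement

open CoxeterSystem Cfsg.Agent.ChevalleyStructure.CoxeterGeom Cfsg.Agent.Tits.Roots Cfsg.Agent.Tits.Core
  Cfsg.Agent.Tits.RootComb Cfsg.Agent.Nodes.Comb Cfsg.Agent.Nodes.Reps Cfsg.Agent.Nodes.BNOf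
  Cfsg.Agent.Nodes.RGDLib Cfsg.Agent.Nodes.PosPair Cfsg.Agent.Nodes.RGDLift

/-! ### Braid relations and involutions -/

section Grp

variable {Q : Type*} [Group Q] {a b : Q}

theorem inv_self {a : Q} (ha : a * a = 1) : a⁻¹ = a := inv_eq_of_mul_eq_one_left ha

theorem braid_two (ha : a * a = 1) (hb : b * b = 1) (h : (a * b) ^ 2 = 1) : a * b = b * a := by
  have h1 : (a * b) * (a * b) = 1 := by rw [← pow_two]; exact h
  rw [eq_inv_of_mul_eq_one_left h1, mul_inv_rev, inv_self ha, inv_self hb]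

theorem braid_three (ha : a * a = 1) (hb : b * b = 1) (h : (a * b) ^ 3 = 1) : a * b * a = b * (a * b) := by
  have h1 : (a * b * a) * (b * a * b) = 1 := by rw [← h]; simp only [pow_succ, pow_zero, one_mul]; group
  rw [eq_inv_of_mul_eq_one_left h1, mul_inv_rev, mul_inv_rev, inv_self ha, inv_self hb]

theorem braid_four (ha : a * a = 1) (hb : b * b = 1) (h : (a * b) ^ 4 = 1) :
    a * b * a * b = b * (a * b * a) := by
  have h1 : (a * b * a * b) * (a * b * a * b) = 1 := by rw [← h]; simp only [pow_succ, pow_zero, one_mul]; group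
  rw [eq_inv_of_mul_eq_one_left h1]
  simp only [mul_inv_rev, inv_self ha, inv_self hb, mul_assoc]

theorem braid_six (ha : a * a = 1) (hb : b * b = 1) (h : (a * b) ^ 6 = 1) :
    a * b * a * b * a * b = b * (a * b * a * b * a) := by
  have h1 : (a * b * a * b * a * b) * (a * b * a * b * a * b) = 1 := by
    rw [← h]; simp only [pow_succ, pow_zero, one_mul]; group
  rw [eq_inv_of_mul_eq_one_left h1]
  simp only [mul_inv_rev, inv_self ha, inv_self hb, mul_assoc]

theorem pow_two_of (ha : a * a = 1) (hb : b * b = 1) (h : a * b = b * a) : (a * b) ^ 2 = 1 := by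
  rw [pow_two]
  nth_rewrite 2 [h]
  rw [mul_assoc, ← mul_assoc b b a, hb, one_mul, ha]

theorem pow_three_of (ha : a * a = 1) (hb : b * b = 1) (h : a * b * a = b * (a * b)) : (a * b) ^ 3 = 1 := by
  have h1 : (a * b) ^ 3 = (a * b * a) * (b * (a * b)) := by simp only [pow_succ, pow_zero, one_mul]; group
  rw [h1, ← h]
  calc a * b * a * (a * b * a) = a * b * (a * a) * b * a := by group
    _ = 1 := by rw [ha, mul_one, mul_assoc a b b, hb, mul_one, ha]

theorem pow_four_of (ha : a * a = 1) (hb : b * b = 1) (h : a * b * a * b = b * (a * b * a)) : (a * b) ^ 4 = 1 := by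
  have h1 : (a * b) ^ 4 = (a * b * a * b) * (a * b * a * b) := by simp only [pow_succ, pow_zero, one_mul]; group
  rw [h1]
  nth_rewrite 2 [h]
  calc a * b * a * b * (b * (a * b * a)) = a * b * a * (b * b) * a * b * a := by group
    _ = a * b * (a * a) * b * a := by rw [hb, mul_one]; group
    _ = 1 := by rw [ha, mul_one, mul_assoc a b b, hb, mul_one, ha]

theorem pow_six_of (ha : a * a = 1) (hb : b * b = 1) (h : a * b * a * b * a * b = b * (a * b * a * b * a)) :
    (a * b) ^ 6 = 1 := by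
  have h1 : (a * b) ^ 6 = (a * b * a * b * a * b) * (a * b * a * b * a * b) := by
    simp only [pow_succ, pow_zero, one_mul]; group
  rw [h1]
  nth_rewrite 2 [h]
  calc a * b * a * b * a * b * (b * (a * b * a * b * a)) = a * b * a * b * a * (b * b) * a * b * a * b * a := by group
    _ = a * b * a * b * (a * a) * b * a * b * a := by rw [hb, mul_one]; group
    _ = a * b * a * (b * b) * a * b * a := by rw [ha, mul_one]; group
    _ = a * b * (a * a) * b * a := by rw [hb, mul_one]; group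
    _ = 1 := by rw [ha, mul_one, mul_assoc a b b, hb, mul_one, ha]

end Grp

/-! ### The group generated by the rank one tori -/

variable {I W Y : Type*} [Fintype I] [DecidableEq I] [Group W] [Group Y] {M : CoxeterMatrix I}
  {cs : CoxeterSystem M W} {A : I → I → ℤ} {h : IsCartan M A} {p : ℕ} {T : Subgroup Y} {n : I → Y}
  {X : (I → ℤ) → Subgroup Y}

/-- the rank one group -/
def Lr (X : (I → ℤ) → Subgroup Y) (j : I) : Subgroup Y := X (sr j) ⊔ X (-sr j)

/-- The group generated by the rank one tori. -/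
def T0 (T : Subgroup Y) (X : (I → ℤ) → Subgroup Y) : Subgroup Y := ⨆ j : I, T ⊓ Lr X j

theorem T0_le : T0 T X ≤ T := iSup_le fun _ => inf_le_left

theorem le_T0 (j : I) : T ⊓ Lr X j ≤ T0 T X := le_iSup (fun j : I => T ⊓ Lr X j) j

theorem cj_Lr (R : RGD cs h p T n X) {t : Y} (ht : t ∈ T) (j : I) : cj t (Lr X j) = Lr X j := by
  unfold Lr
  rw [cj_sup, R.tor _ (isRoot_sr cs h j) t ht, R.tor _ (isRoot_sr cs h j).neg t ht]

theorem conj_mem_Lr (R : RGD cs h p T n X) {t g : Y} (ht : t ∈ T) {j : I} (hg : g ∈ Lr X j) : t * g * t⁻¹ ∈ Lr X j := by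
  rw [← cj_Lr R ht j]
  exact conj_mem_cj.2 hg

theorem conj_T0 (R : RGD cs h p T n X) {i : I} {g : Y} (hg : g ∈ Lr X i) (hgT : g ∈ Subgroup.normalizer (T : Set Y)) :
    cj g (T0 T X) ≤ T0 T X := by
  unfold T0
  rw [cj_iSup]
  refine iSup_le fun j => ?_
  intro y hy
  rw [mem_cj] at hy
  set t := g⁻¹ * y * g with ht
  obtain ⟨h1, h2⟩ := hy
  have h3 : y = t * (t⁻¹ * g * t * g⁻¹) := by rw [ht]; group
  have h4 : g * t * g⁻¹ ∈ T := (Subgroup.mem_normalizer_iff.1 hgT t).1 h1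
  have h5 : t⁻¹ * g * t * g⁻¹ ∈ Lr X i := by
    have := conj_mem_Lr R (inv_mem h1) hg
    rw [inv_inv] at this
    exact mul_mem this (inv_mem hg)
  have h6 : t⁻¹ * g * t * g⁻¹ ∈ T := by
    have : t⁻¹ * g * t * g⁻¹ = t⁻¹ * (g * t * g⁻¹) := by group
    rw [this]
    exact mul_mem (inv_mem h1) h4
  rw [h3]
  exact mul_mem (le_T0 j ⟨h1, h2⟩) (le_T0 i ⟨h6, h5⟩)

theorem norm_T0 (R : RGD cs h p T n X) (hn : ∀ i, n i ∈ Lr X i) (i : I) :
    n i ∈ Subgroup.normalizer (T0 T X : Set Y) := by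
  rw [mem_normalizer_iff_cj]
  apply le_antisymm (conj_T0 R (hn i) (R.nsys.norm i))
  have h1 := conj_T0 R ((Lr X i).inv_mem (hn i)) ((Subgroup.normalizer (T : Set Y)).inv_mem (R.nsys.norm i))
  have h2 := cj_mono (n i) h1
  rwa [cj_cj_inv] at h2

theorem rep_sr_of {w : W} {k j : I} (hw : w * cs.simple k = cs.simple j * w) :
    rep cs h w (sr k) = sr j ∨ rep cs h w (sr k) = -sr j := by
  have h1 : rep cs h (w * cs.simple k) (sr k) = rep cs h (cs.simple j * w) (sr k) := by rw [hw]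
  rw [rep_mul_apply, rep_simple_sr, map_neg, rep_mul_apply, rep_simple, refl_apply] at h1
  set z := rep cs h w (sr k) with hz
  have hzr : IsRoot cs h z := (isRoot_sr cs h k).act w
  refine eq_or_eq_neg_of_smul cs h hzr (isRoot_sr cs h j) (a := 2) (b := pairing A j z) two_ne_zero ?_
  have h2 : (Pi.single j (pairing A j z) : I → ℤ) = pairing A j z • sr j := by
    funext l
    rw [Pi.smul_apply, sr, Pi.single_apply, Pi.single_apply]
    split_ifs <;> simp
  rw [h2] at h1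
  have h3 : pairing A j z • sr j = z + z := by
    have : pairing A j z • sr j = z - (z - pairing A j z • sr j) := by abel
    rw [this, ← h1]
    abel
  rw [h3, two_smul]

theorem conj_mem_T0 (R : RGD cs h p T n X) (hn : ∀ i, n i ∈ Lr X i) {w : W} {g : Y} (hg : Rp cs R.nsys w g) {k j : I}
    (hw : w * cs.simple k = cs.simple j * w) : g * n k * g⁻¹ * (n j)⁻¹ ∈ T0 T X := by
  refine le_T0 j ⟨?_, ?_⟩
  · have h1 := ((hg.mul (rp_simple cs R.nsys k)).mul hg.inv).mul (rp_simple cs R.nsys j).inv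
    rw [hw] at h1
    have e : cs.simple j * w * w⁻¹ * (cs.simple j)⁻¹ = 1 := by group
    rw [e] at h1
    exact h1.mem_of_one
  · refine (Lr X j).mul_mem ?_ ((Lr X j).inv_mem (hn j))
    have h1 : cj g (Lr X k) ≤ Lr X j := by
      unfold Lr
      rw [cj_sup, R.conj_rp hg (isRoot_sr cs h k), R.conj_rp hg (isRoot_sr cs h k).neg, map_neg]
      rcases rep_sr_of (h := h) hw with h2 | h2 <;> rw [h2]
      rw [neg_neg, sup_comm]
    exact h1 (conj_mem_cj.2 (hn k))

/-- the relations modulo `T0` -/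
theorem rel_T0 (R : RGD cs h p T n X) (hn : ∀ i, n i ∈ Lr X i) (i j : I) : (n i * n j) ^ M i j ∈ T0 T X := by
  have hsq : ∀ i, n i * n i ∈ T0 T X := by
    intro i
    have h1 := R.nsys.rel i i
    rw [M.diagonal, pow_one] at h1
    exact le_T0 i ⟨h1, mul_mem (hn i) (hn i)⟩
  by_cases hij : i = j
  · subst hij
    rw [M.diagonal, pow_one]
    exact hsq i
  set N0 := Subgroup.normalizer (T0 T X : Set Y) with hN0
  let ν : I → N0 := fun i => ⟨n i, norm_T0 R hn i⟩
  let π : N0 →* N0 ⧸ (T0 T X).subgroupOf N0 := QuotientGroup.mk' _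
  have hπ : ∀ x : N0, π x = 1 ↔ (x : Y) ∈ T0 T X := fun x => by
    rw [QuotientGroup.mk'_apply, QuotientGroup.eq_one_iff, Subgroup.mem_subgroupOf]
  have ha : π (ν i) * π (ν i) = 1 := by rw [← map_mul, hπ]; exact hsq i
  have hb : π (ν j) * π (ν j) = 1 := by rw [← map_mul, hπ]; exact hsq j
  have hs : ∀ k, cs.simple k * cs.simple k = 1 := fun k => cs.simple_mul_simple_self k
  have hm : (cs.simple i * cs.simple j) ^ M i j = 1 := cs.simple_mul_simple_pow i j
  have ri := rp_simple cs R.nsys i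
  have rj := rp_simple cs R.nsys j
  suffices h0 : (π (ν i) * π (ν j)) ^ M i j = 1 by
    rw [← map_mul, ← map_pow, hπ] at h0
    exact h0
  have key : ∀ (g : N0) (k : I), (g : Y) * n k * (g : Y)⁻¹ * (n j)⁻¹ ∈ T0 T X → π g * π (ν k) = π (ν j) * π g := by
    intro g k hg
    have h1 : π (g * ν k * g⁻¹ * (ν j)⁻¹) = 1 := (hπ _).2 hg
    rw [map_mul, map_mul, map_mul, map_inv, map_inv] at h1
    have h2 := mul_inv_eq_one.1 h1
    rw [← h2]
    group
  rcases h.rel i j hij with ⟨h0, -⟩ | ⟨h0, -⟩ | ⟨h0, -⟩ | ⟨h0, -⟩ <;> rw [h0] at hm ⊢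
  · refine pow_two_of ha hb ?_
    exact key (ν i) j (conj_mem_T0 R hn ri (braid_two (hs i) (hs j) hm))
  · refine pow_three_of ha hb ?_
    have := key (ν i * ν j) i (conj_mem_T0 R hn (ri.mul rj) (braid_three (hs i) (hs j) hm))
    rwa [map_mul] at this
  · refine pow_four_of ha hb ?_
    have := key (ν i * ν j * ν i) j (conj_mem_T0 R hn ((ri.mul rj).mul ri) (braid_four (hs i) (hs j) hm))
    rwa [map_mul, map_mul] at this
  · refine pow_six_of ha hb ?_
    have := key (ν i * ν j * ν i * ν j * ν i) j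
      (conj_mem_T0 R hn ((((ri.mul rj).mul ri).mul rj).mul ri) (braid_six (hs i) (hs j) hm))
    rwa [map_mul, map_mul, map_mul, map_mul] at this

/-- **The datum with the smaller torus.** -/
theorem rgd_T0 (R : RGD cs h p T n X) (hn : ∀ i, n i ∈ Lr X i) : RGD cs h p (T0 T X) n X where
  nsys := ⟨norm_T0 R hn, rel_T0 R hn⟩
  conj := R.conj
  tor x hx t ht := R.tor x hx t (T0_le ht)
  comm := R.comm
  rk1 i u hu hne := by
    obtain ⟨a, ha, t, ht, b, hb, e⟩ := R.rk1 i u hu hne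
    refine ⟨a, ha, t, le_T0 i ⟨ht, ?_⟩, b, hb, e⟩
    have ha' : a ∈ Lr X i := (le_sup_left : X (sr i) ≤ _) ha
    have hb' : b ∈ Lr X i := (le_sup_left : X (sr i) ≤ _) hb
    have hu' : u ∈ Lr X i := (le_sup_right : X (-sr i) ≤ _) hu
    have h1 : t = a⁻¹ * u * b⁻¹ * (n i)⁻¹ := by rw [e]; group
    rw [h1]
    exact mul_mem (mul_mem (mul_mem ((Lr X i).inv_mem ha') hu') ((Lr X i).inv_mem hb')) ((Lr X i).inv_mem (hn i))
  pgrp := R.pgrp
  notp := R.notp
  tcop := Nat.Coprime.coprime_dvd_left (Subgroup.card_dvd_of_le T0_le) R.tcop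

/-! ### Central extensions -/

/-- The rank one tori are cyclic and induce on the rank one groups everything that `T` induces. -/
structure Rank1 (T : Subgroup Y) (n : I → Y) (X : (I → ℤ) → Subgroup Y) : Prop where
  nmem : ∀ j, n j ∈ Lr X j
  cyc : ∀ j, ∃ z ∈ T ⊓ Lr X j, ∀ t ∈ T ⊓ Lr X j, ∃ k : ℤ, t = z ^ k
  cov : ∀ j, ∀ t ∈ T, ∃ s ∈ T ⊓ Lr X j, ∀ x ∈ Lr X j, s⁻¹ * t * x = x * (s⁻¹ * t)

variable {Y' : Type*} [Group Y'] {T' : Subgroup Y'} {n' : I → Y'} {X' : (I → ℤ) → Subgroup Y'} {f : Y →* Y'}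

section Cover

variable [Finite W] [Finite Y] [Fact p.Prime] (hf : f.ker ≤ Subgroup.center Y) (hp : (Nat.card f.ker).Coprime p)
  (hs : Function.Surjective f) (R' : RGD cs h p T' n' X')

include hf hp hs R' in
theorem map_Lr (j : I) : (Lr (fun x => lft p f (X' x)) j).map f = Lr X' j := by
  unfold Lr
  rw [Subgroup.map_sup, map_lft hf hp hs (R'.pgrp j), map_lft hf hp hs (R'.pgrp' (isRoot_sr cs h j).neg)]

include hf hp hs R' in
theorem exists_n (hn : ∀ j, n' j ∈ Lr X' j) : ∃ n : I → Y, (∀ j, f (n j) = n' j) ∧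
    ∀ j, n j ∈ Lr (fun x => lft p f (X' x)) j := by
  have h1 : ∀ j, ∃ y, f y = n' j ∧ y ∈ Lr (fun x => lft p f (X' x)) j := by
    intro j
    have h2 := hn j
    rw [← map_Lr hf hp hs R' j] at h2
    obtain ⟨y, hy, e⟩ := h2
    exact ⟨y, e, hy⟩
  choose n hn1 hn2 using h1
  exact ⟨n, hn1, hn2⟩

include hf hp hs R' in
/-- an element of the torus over an element centralising `⟨X' α_j, X' (-α_j)⟩` -/
theorem central_of {n : I → Y} (hn : ∀ j, f (n j) = n' j) {j : I} {t : Y} (ht : t ∈ T'.comap f)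
    (hc : ∀ x ∈ Lr X' j, f t * x = x * f t) {y : Y} (hy : y ∈ Lr (fun x => lft p f (X' x)) j) : t * y = y * t := by
  have R := rgd_lift hf hp hs R' hn
  have key : ∀ x, IsRoot cs h x → (∀ y ∈ X' x, f t * y = y * f t) → ∀ y ∈ lft p f (X' x), t * y = y * t := by
    intro x hx hcx y hy
    have hP := R'.pgrp' hx
    have h1 : t * y * t⁻¹ ∈ lft p f (X' x) := by
      rw [← R.tor x hx t ht]
      exact conj_mem_cj.2 hy
    have h2 : t * y * t⁻¹ * y⁻¹ = 1 := by
      refine eq_one_of_mem_lft hf hp hP (mul_mem h1 (inv_mem hy)) ?_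
      rw [map_mul, map_mul, map_mul, map_inv, map_inv, hcx (f y) ((mem_lft hf hP).1 hy).1]
      group
    have h3 := mul_inv_eq_one.1 h2
    calc t * y = t * y * t⁻¹ * t := by group
      _ = y * t := by rw [h3]
  have h1 : Lr (fun x => lft p f (X' x)) j ≤ Subgroup.centralizer {t} := by
    unfold Lr
    refine sup_le (fun y hy => ?_) (fun y hy => ?_)
    · rw [Subgroup.mem_centralizer_singleton_iff]
      exact (key _ (isRoot_sr cs h j) (fun y hy => hc y ((le_sup_left : X' (sr j) ≤ _) hy)) y hy).symm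
    · rw [Subgroup.mem_centralizer_singleton_iff]
      exact (key _ (isRoot_sr cs h j).neg (fun y hy => hc y ((le_sup_right : X' (-sr j) ≤ _) hy)) y hy).symm
  exact (Subgroup.mem_centralizer_singleton_iff.1 (h1 hy)).symm

include hf hp hs R' in
/-- **The torus of the cover is abelian.** -/
theorem comm_T0 (H : Rank1 T' n' X') {n : I → Y} (hn : ∀ j, f (n j) = n' j) {s t : Y}
    (hs' : s ∈ T0 (T'.comap f) (fun x => lft p f (X' x))) (ht' : t ∈ T0 (T'.comap f) (fun x => lft p f (X' x))) :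
    s * t = t * s := by
  -- a rank one torus is abelian
  have h1 : ∀ j, ∀ s ∈ T'.comap f ⊓ Lr (fun x => lft p f (X' x)) j, ∀ t ∈ T'.comap f ⊓ Lr (fun x => lft p f (X' x)) j,
      s * t = t * s := by
    intro j
    obtain ⟨z, hz, hz2⟩ := H.cyc j
    have hzL : z ∈ (Lr (fun x => lft p f (X' x)) j).map f := by
      rw [map_Lr hf hp hs R' j]; exact hz.2
    obtain ⟨y, hy, rfl⟩ := hzL
    have h2 : ∀ s ∈ T'.comap f ⊓ Lr (fun x => lft p f (X' x)) j, ∃ k : ℤ, ∃ c ∈ f.ker, s = y ^ k * c := by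
      rintro s ⟨hs1, hs2⟩
      have hs3 : f s ∈ Lr X' j := by
        rw [← map_Lr hf hp hs R' j]
        exact Subgroup.mem_map_of_mem f hs2
      obtain ⟨k, hk⟩ := hz2 (f s) ⟨hs1, hs3⟩
      refine ⟨k, (y ^ k)⁻¹ * s, ?_, by group⟩
      rw [MonoidHom.mem_ker, map_mul, map_inv, map_zpow, hk, inv_mul_cancel]
    intro s hs1 t ht1
    obtain ⟨k, c, hc, rfl⟩ := h2 s hs1
    obtain ⟨l, d, hd, rfl⟩ := h2 t ht1
    have hc' := Subgroup.mem_center_iff.1 (hf hc)
    have hd' := Subgroup.mem_center_iff.1 (hf hd)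
    calc y ^ k * c * (y ^ l * d) = y ^ k * (y ^ l * d * c) := by rw [hc' (y ^ l * d)]; group
      _ = y ^ l * (y ^ k * d * c) := by group
      _ = y ^ l * (d * y ^ k * c) := by rw [hd' (y ^ k)]
      _ = y ^ l * d * (y ^ k * c) := by group
  -- two rank one tori commute
  have h2 : ∀ i j, ∀ s ∈ T'.comap f ⊓ Lr (fun x => lft p f (X' x)) i, ∀ t ∈ T'.comap f ⊓ Lr (fun x => lft p f (X' x)) j,
      s * t = t * s := by
    intro i j s hs1 t ht1
    obtain ⟨z, hz, hz2⟩ := H.cov j (f s) hs1.1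
    have hzL : z ∈ (Lr (fun x => lft p f (X' x)) j).map f := by
      rw [map_Lr hf hp hs R' j]; exact hz.2
    obtain ⟨y, hy, rfl⟩ := hzL
    have hyT : y ∈ T'.comap f := hz.1
    have h3 : (y⁻¹ * s) * t = t * (y⁻¹ * s) := by
      refine central_of hf hp hs R' hn (mul_mem (inv_mem hyT) hs1.1) ?_ ht1.2
      intro x hx
      rw [map_mul, map_inv]
      exact hz2 x hx
    have h4 := h1 j y ⟨hyT, hy⟩ t ht1
    calc s * t = y * ((y⁻¹ * s) * t) := by group
      _ = y * t * (y⁻¹ * s) := by rw [h3]; group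
      _ = t * s := by rw [h4]; group
  have h3 : T0 (T'.comap f) (fun x => lft p f (X' x)) ≤
      Subgroup.centralizer (T0 (T'.comap f) (fun x => lft p f (X' x)) : Set Y) := by
    have h4 : ∀ i, T'.comap f ⊓ Lr (fun x => lft p f (X' x)) i ≤
        Subgroup.centralizer (T0 (T'.comap f) (fun x => lft p f (X' x)) : Set Y) := by
      intro i s hs1
      rw [Subgroup.mem_centralizer_iff]
      have h5 : T0 (T'.comap f) (fun x => lft p f (X' x)) ≤ Subgroup.centralizer {s} := by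
        refine iSup_le fun j t ht1 => ?_
        rw [Subgroup.mem_centralizer_singleton_iff]
        exact h2 j i t ht1 s hs1
      intro t ht1
      exact Subgroup.mem_centralizer_singleton_iff.1 (h5 ht1)
    exact iSup_le h4
  exact (Subgroup.mem_centralizer_iff.1 (h3 hs') t ht').symm

include hf hp hs R' in
/-- **The datum of a perfect central extension by a `p'`-group.** -/
theorem lift (hperf : ⁅(⊤ : Subgroup Y), (⊤ : Subgroup Y)⁆ = ⊤) (H : Rank1 T' n' X')
    (hG : RGD.Sup X' {x | IsRoot cs h x} = ⊤) :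
    ∃ (T : Subgroup Y) (n : I → Y) (X : (I → ℤ) → Subgroup Y), RGD cs h p T n X ∧
      RGD.Sup X {x | IsRoot cs h x} = ⊤ ∧ (∀ s ∈ T, ∀ t ∈ T, s * t = t * s) ∧ (∀ j, n j ∈ Lr X j) ∧
      (∀ j, f (n j) = n' j) ∧ T.map f ≤ T' ∧
      ∀ x, IsRoot cs h x → (X x).map f = X' x ∧ ∀ y ∈ X x, f y = 1 → y = 1 := by
  obtain ⟨n, hn, hnL⟩ := exists_n hf hp hs R' H.nmem
  have R := rgd_lift hf hp hs R' hn
  refine ⟨T0 (T'.comap f) (fun x => lft p f (X' x)), n, fun x => lft p f (X' x), rgd_T0 R hnL, ?_,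
    fun s hs' t ht' => comm_T0 hf hp hs R' H hn hs' ht', hnL, hn, ?_, fun x hx => ?_⟩
  · -- generation
    set S := RGD.Sup (fun x => lft p f (X' x)) {x | IsRoot cs h x} with hS
    have h1 : S.map f = ⊤ := by
      rw [hS, ← hG]
      unfold RGD.Sup
      rw [Subgroup.map_iSup]
      exact iSup_congr fun z => map_lft hf hp hs (R'.pgrp' z.2)
    have h2 : ∀ y : Y, ∃ s ∈ S, ∃ c ∈ Subgroup.center Y, y = s * c := by
      intro y
      have h3 : f y ∈ S.map f := by rw [h1]; trivial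
      obtain ⟨s, hs', e⟩ := h3
      refine ⟨s, hs', s⁻¹ * y, hf ?_, by group⟩
      rw [MonoidHom.mem_ker, map_mul, map_inv, e, inv_mul_cancel]
    rw [eq_top_iff, ← hperf, Subgroup.commutator_le]
    intro y _ y' _
    obtain ⟨s, hs1, c, hc, rfl⟩ := h2 y
    obtain ⟨s', hs2, c', hc', rfl⟩ := h2 y'
    have hc1 := Subgroup.mem_center_iff.1 hc
    have hc2 := Subgroup.mem_center_iff.1 hc'
    have h3 : ⁅s * c, s' * c'⁆ = ⁅s, s'⁆ := by
      rw [commutatorElement_def, commutatorElement_def]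
      calc s * c * (s' * c') * (s * c)⁻¹ * (s' * c')⁻¹ = s * (c * s') * c' * (c⁻¹ * s⁻¹) * (c'⁻¹ * s'⁻¹) := by group
        _ = s * s' * (c * c' * c⁻¹) * s⁻¹ * (c'⁻¹ * s'⁻¹) := by rw [← hc1 s']; group
        _ = s * s' * (c' * (c * c⁻¹)) * s⁻¹ * (c'⁻¹ * s'⁻¹) := by rw [hc2 c]; group
        _ = s * s' * (c' * s⁻¹) * c'⁻¹ * s'⁻¹ := by group
        _ = s * s' * s⁻¹ * s'⁻¹ := by rw [← hc2 s⁻¹]; group
    rw [h3, commutatorElement_def]
    exact mul_mem (mul_mem (mul_mem hs1 hs2) (inv_mem hs1)) (inv_mem hs2)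
  · rintro _ ⟨t, ht, rfl⟩
    exact T0_le (T := T'.comap f) ht
  · exact ⟨map_lft hf hp hs (R'.pgrp' hx), fun y hy h1 => eq_one_of_mem_lft hf hp (R'.pgrp' hx) hy h1⟩

end Cover

theorem sq_of_map {X₁ : Subgroup Y} {X₂ : Subgroup Y'} (h1 : X₁.map f = X₂) (h2 : ∀ y ∈ X₁, f y = 1 → y = 1)
    (h3 : ∀ y ∈ X₂, y * y = 1) : ∀ y ∈ X₁, y * y = 1 := fun y hy =>
  h2 _ (mul_mem hy hy) (by rw [map_mul]; exact h3 _ (h1 ▸ Subgroup.mem_map_of_mem f hy))

end Cfsg.Agent.Omega.EH3.Kf.Tor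

end

section


/-!
# EH3, Lie rows in characteristic 2: `Rank1` from `ChevTwo.Sys`, the data on the cover (helper827)

* `rank1` : `Sys R e`, finite field of characteristic two, `NoCent`, `Y = ⟨X r⟩` ==> `Rank1`;
* `HasTor cs h m Y` : `Y` has a root group datum over `cs`, `h` of characteristic two with abelian torus, elementary
  abelian root groups of order `2 ^ m`, `n j ∈ ⟨X α_j, X (-α_j)⟩`, `Y = ⟨X r⟩`;
* `hasTor_of_sys` : this holds for every perfect central extension by an odd group of a group with `Sys`.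
-/

set_option autoImplicit false
set_option linter.unusedSectionVars false

namespace Cfsg.Agent.Omega.EH3.Kf.TorSys

open CoxeterSystem Cfsg.Agent.ChevalleyStructure.CoxeterGeom Cfsg.Agent.Tits.Roots Cfsg.Agent.Tits.Core
  Cfsg.Agent.Tits.RootComb Cfsg.Agent.Nodes.Comb Cfsg.Agent.Nodes.Reps Cfsg.Agent.Nodes.BNOf
  Cfsg.Agent.Nodes.Bruhat Cfsg.Agent.Nodes.Coroot Cfsg.Agent.KFacts.ChevTwo Cfsg.Agent.KFacts.RgdSys Cfsg.Agent.KFacts.RgdCent
  Cfsg.Agent.Omega.EH3.Kf.Tor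

variable {I W Y K : Type*} [Fintype I] [DecidableEq I] [Group W] [Group Y] [Field K] {M : CoxeterMatrix I}
variable {cs : CoxeterSystem M W} {A : I → I → ℤ} {h : IsCartan M A} {e : (I → ℤ) → K → Y}
  {p : ℕ} {T : Subgroup Y} {n : I → Y} {X : (I → ℤ) → Subgroup Y}

theorem commutes_Lr {R : RGD cs h p T n X} (S : Sys R e) {j : I} {g : Y} (h1 : ∀ a, g * e (sr j) a = e (sr j) a * g)
    (h2 : ∀ a, g * e (-sr j) a = e (-sr j) a * g) : ∀ x ∈ Lr X j, g * x = x * g := by
  intro x hx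
  have h3 : Lr X j ≤ Subgroup.centralizer {g} := by
    unfold Lr
    refine sup_le (fun y hy => ?_) (fun y hy => ?_)
    · obtain ⟨a, rfl⟩ := (S.mem_X _ (isRoot_sr cs h j) y).1 hy
      rw [Subgroup.mem_centralizer_singleton_iff]
      exact (h1 a).symm
    · obtain ⟨a, rfl⟩ := (S.mem_X _ (isRoot_sr cs h j).neg y).1 hy
      rw [Subgroup.mem_centralizer_singleton_iff]
      exact (h2 a).symm
  exact (Subgroup.mem_centralizer_singleton_iff.1 (h3 hx)).symm

/-- **`Rank1` for the groups with coordinates in characteristic two.** -/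
theorem rank1 [Finite W] [Finite K] [CharP K 2] {R : RGD cs h p T n X} (S : Sys R e)
    (hG1 : RGD.Sup X {x | IsRoot cs h x} = ⊤) (hN : NoCent cs h T X) : Rank1 T n X where
  nmem j := by
    rw [S.n_eq, nel_def]
    have h1 := S.mem (isRoot_sr cs h j) 1
    have h2 := S.mem (isRoot_sr cs h j).neg 1
    exact mul_mem (mul_mem ((le_sup_left : X (sr j) ≤ _) h1) ((le_sup_right : X (-sr j) ≤ _) h2))
      ((le_sup_left : X (sr j) ≤ _) h1)
  cyc j := by
    have hj := isRoot_sr cs h j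
    obtain ⟨g, hg⟩ := IsCyclic.exists_generator (α := Kˣ)
    let φ : Kˣ →* Y := {
      toFun := fun u => hel e (sr j) (u : K)
      map_one' := by
        have := hel_mul S hG1 hN hj (c := (1 : K)) (d := 1) one_ne_zero one_ne_zero
        rw [mul_one] at this
        exact mul_eq_left.1 this
      map_mul' := fun u v => by
        rw [Units.val_mul]
        exact (hel_mul S hG1 hN hj u.ne_zero v.ne_zero).symm }
    refine ⟨φ g, (mem_T_rank_one S hG1 hN j _).2 ⟨g, g.ne_zero, rfl⟩, fun t ht => ?_⟩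
    obtain ⟨a, ha, rfl⟩ := (mem_T_rank_one S hG1 hN j t).1 ht
    obtain ⟨k, hk⟩ := Subgroup.mem_zpowers_iff.1 (hg (Units.mk0 a ha))
    refine ⟨k, ?_⟩
    rw [← map_zpow, hk]
    rfl
  cov j t ht := by
    have hj := isRoot_sr cs h j
    obtain ⟨χ, hχ⟩ := S.chi t ht
    obtain ⟨u, hu⟩ : ∃ u : K, u ^ 2 = ((χ (sr j)).toMul : Kˣ) := by
      obtain ⟨u, hu⟩ := (Finite.injective_iff_surjective.1 (frobenius_inj K 2)) (((χ (sr j)).toMul : Kˣ) : K)
      exact ⟨u, by rw [← hu]; rfl⟩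
    have hu0 : u ≠ 0 := by
      rintro rfl
      rw [zero_pow two_ne_zero] at hu
      exact (Units.ne_zero _) hu.symm
    refine ⟨hel e (sr j) u, (mem_T_rank_one S hG1 hN j _).2 ⟨u, hu0, rfl⟩, commutes_Lr S (fun a => ?_) (fun a => ?_)⟩
    · have h1 := hχ _ hj a
      have h2 := S.data.hel_conj hj hj hu0 a
      rw [cpr_self cs h hj, zpow_two, ← pow_two, hu, ← h1] at h2
      have h3 : (hel e (sr j) u)⁻¹ * t * e (sr j) a = (hel e (sr j) u)⁻¹ * (t * e (sr j) a * t⁻¹) * t := by group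
      rw [h3, ← h2]
      group
    · have h1 := hχ _ hj.neg a
      have h2 := S.data.hel_conj hj.neg hj hu0 a
      have e1 : ((χ (-sr j)).toMul : Kˣ) = ((χ (sr j)).toMul : Kˣ)⁻¹ := by rw [map_neg]; rfl
      rw [cpr_neg cs h (sr j) hj, cpr_self cs h hj, zpow_neg, zpow_two, ← pow_two, hu, ← Units.val_inv_eq_inv_val, ← e1,
        ← h1] at h2
      have h3 : (hel e (sr j) u)⁻¹ * t * e (-sr j) a = (hel e (sr j) u)⁻¹ * (t * e (-sr j) a * t⁻¹) * t := by group
      rw [h3, ← h2]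
      group

/-! ### The data -/

/-- A root group datum of characteristic two over `cs`, `h`, with abelian torus and elementary abelian root groups of
order `2 ^ m`. -/
structure TorDat (cs : CoxeterSystem M W) (h : IsCartan M A) (m : ℕ) (T : Subgroup Y) (n : I → Y)
    (X : (I → ℤ) → Subgroup Y) : Prop where
  rgd : RGD cs h 2 T n X
  gen : RGD.Sup X {x | IsRoot cs h x} = ⊤
  comm : ∀ s ∈ T, ∀ t ∈ T, s * t = t * s
  nmem : ∀ j, n j ∈ Lr X j
  card : ∀ x, IsRoot cs h x → Nat.card (X x) = 2 ^ m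
  sq : ∀ x, IsRoot cs h x → ∀ y ∈ X x, y * y = 1

theorem TorDat.gg {m : ℕ} (D : TorDat cs h m T n X) : GG cs h T X = ⊤ := by
  unfold GG
  rw [D.gen, sup_top_eq]

end Cfsg.Agent.Omega.EH3.Kf.TorSys

end

section


/-!
# EH3, Lie rows in characteristic 2: `|H : L| ≤ 2` (helper227)

`L` normal in the finite group `H`, `H` faithful and irreducible on `V`, a root group datum of characteristic 2 on `L`
with `C_V(U) = {0, a}` and one of the five diagrams of `Goal.Good`; all elements of odd order of `H` lie in `L`.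

* `a2_of_three` : `M i j = 3` gives `A2 (sr i) (sr j)`;
* `cent_G1` : the subgroup `G₁` generated by the root groups is normal in `H` with `C_H(G₁) = 1`;
* `eq_one_of_fix'` : `g ∈ N₁` trivial on all `X_i` is `1`;
* `sg_eq` : the signs of `g ∈ N₁` on `X_i` and `X_j` agree if `M i j = 3`, `|X_i| = |X_j| = 4`;
* `index_le_two` : `|H : L| ≤ 2`.
-/

set_option autoImplicit false
set_option linter.unusedSectionVars false

namespace Cfsg.Agent.Omega.EH3.Kf.Idx

open CoxeterSystem Cfsg.Agent.ChevalleyStructure.CoxeterGeom Cfsg.Agent.Tits.Roots Cfsg.Agent.Tits.Core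
  Cfsg.Agent.Tits.RootComb Cfsg.Agent.Nodes.Comb Cfsg.Agent.Nodes.Reps Cfsg.Agent.Nodes.BNOf
  Cfsg.Agent.Nodes.StabComb Cfsg.Agent.Nodes.Bruhat Cfsg.Agent.Nodes.LeviDec Cfsg.Agent.Nodes.Coroot
  Cfsg.Agent.KFacts.RgdDiag Cfsg.Agent.KFacts.RgdSL
  Cfsg.Agent.Omega.EH3.Kf.Odd Cfsg.Agent.Omega.EH3.Kf.Sym Cfsg.Agent.Omega.EH3.Kf.Goal
open Cfsg.Agent.LieRecognition.BNCox (cA)
open scoped commutatorElement

variable {I W Y : Type*} [Fintype I] [DecidableEq I] [Group W] [Group Y] {M : CoxeterMatrix I}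
  {cs : CoxeterSystem M W} {A : I → I → ℤ} {h : IsCartan M A} {p : ℕ} {T : Subgroup Y} {n : I → Y}
  {X : (I → ℤ) → Subgroup Y}

/-! ### roots in the plane of two nodes with label 3 -/

/-- pairings of a vector supported on `{i, j}` -/
theorem pairing_two {i j : I} (hij : i ≠ j) {x : I → ℤ} (hx : ∀ k, k ≠ i → k ≠ j → x k = 0) (k : I) :
    pairing A k x = A k i * x i + A k j * x j := by
  unfold pairing
  rw [← Finset.sum_subset (Finset.subset_univ {i, j}), Finset.sum_pair hij]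
  intro l _ hl
  rw [Finset.mem_insert, Finset.mem_singleton, not_or] at hl
  rw [hx l hl.1 hl.2, mul_zero]

/-- A root with support `{i, j}`, `M i j = 3`, both coefficients positive, is `sr i + sr j`. -/
theorem eq_add_of_supp {i j : I} (hij : i ≠ j) (h1 : A i j = -1) (h2 : A j i = -1) {x : I → ℤ} (hx : IsRoot cs h x)
    (hi : 0 < x i) (hj : 0 < x j) (hk : ∀ k, k ≠ i → k ≠ j → x k = 0) : x = sr i + sr j := by
  have key : ∀ i j : I, i ≠ j → A i j = -1 → A j i = -1 → ∀ x : I → ℤ, IsRoot cs h x → 0 < x i → 0 < x j →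
      (∀ k, k ≠ i → k ≠ j → x k = 0) → x j < 2 * x i → x = sr i + sr j := by
    intro i j hij h1 h2 x hx hi hj hk h3
    -- reflect in `i`
    have hp := pairing_two (A := A) hij hk i
    rw [h.diag, h1] at hp
    have hs := hx.act (cs.simple i)
    have e1 : rep cs h (cs.simple i) x i = x j - x i := by
      rw [rep_simple_apply_self, hp]; ring
    have e2 : rep cs h (cs.simple i) x j = x j := rep_simple_apply cs h i x j hij.symm
    have e3 : ∀ k, k ≠ i → rep cs h (cs.simple i) x k = x k := fun k hk' => rep_simple_apply cs h i x k hk'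
    have hpos : 0 ≤ rep cs h (cs.simple i) x := by
      rcases hs.pos_or_neg with h4 | h4
      · exact h4
      · have := h4 j
        rw [e2] at this
        exact absurd this (not_le.2 hj)
    have h5 := hpos i
    rw [e1] at h5
    change 0 ≤ x j - x i at h5
    -- reflect in `j`
    have hp' := pairing_two (A := A) hij hk j
    rw [h.diag, h2] at hp'
    have hs' := hx.act (cs.simple j)
    have f1 : rep cs h (cs.simple j) x j = x i - x j := by
      rw [rep_simple_apply_self, hp']; ring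
    have f2 : rep cs h (cs.simple j) x i = x i := rep_simple_apply cs h j x i hij
    have hpos' : 0 ≤ rep cs h (cs.simple j) x := by
      rcases hs'.pos_or_neg with h4 | h4
      · exact h4
      · have := h4 i
        rw [f2] at this
        exact absurd this (not_le.2 hi)
    have h6 := hpos' j
    rw [f1] at h6
    change 0 ≤ x i - x j at h6
    have h7 : x i = x j := by (clear * - h5 h6; omega)
    have h8 : rep cs h (cs.simple i) x = sr j := by
      refine hs.eq_sr hpos j fun k hk' => ?_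
      by_cases hki : k = i
      · subst hki
        rw [e1, h7]; ring
      · rw [e3 k hki, hk k hki hk']
    have h9 := congrFun h8 j
    rw [e2, sr_self] at h9
    funext k
    rw [Pi.add_apply]
    by_cases hki : k = i
    · subst hki
      rw [sr_self, sr_ne hij, h7, h9]; rfl
    · by_cases hkj : k = j
      · subst hkj
        rw [sr_self, sr_ne hij.symm, h9]; rfl
      · rw [sr_ne hki, sr_ne hkj, hk k hki hkj]; rfl
  by_cases h3 : x j < 2 * x i
  · exact key i j hij h1 h2 x hx hi hj hk h3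
  · rw [add_comm]
    exact key j i hij.symm h2 h1 x hx hj hi (fun k h4 h5 => hk k h5 h4) (by omega)

/-- `M i j = 3` gives `A2 (sr i) (sr j)`. -/
theorem a2_of_three [Finite W] {i j : I} (h3 : M i j = 3) : A2 cs h (sr i) (sr j) := by
  have hij : i ≠ j := by
    rintro rfl
    rw [M.diagonal] at h3
    omega
  have hA : A i j = -1 ∧ A j i = -1 := by
    rcases h.rel i j hij with h1 | h1 | h1 | h1
    · rw [h3] at h1; omega
    · exact h1.2
    · rw [h3] at h1; omega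
    · rw [h3] at h1; omega
  have sup : ∀ {x : I → ℤ}, IsRoot cs h x → 0 < x i → 0 < x j → (∀ k, k ≠ i → k ≠ j → x k = 0) →
      x = sr i + sr j := fun hx h1 h2 h3 => eq_add_of_supp hij hA.1 hA.2 hx h1 h2 h3
  have hb : ∀ z, Btwn cs h (sr i) (sr j) z → z = sr i + sr j := by
    rintro z ⟨hz, m, a, b, hm, ha, hb, he⟩
    have ei := congrFun he i
    have ej := congrFun he j
    rw [Pi.add_apply, Pi.smul_apply, Pi.smul_apply, Pi.smul_apply, sr_self, sr_ne hij] at ei
    rw [Pi.add_apply, Pi.smul_apply, Pi.smul_apply, Pi.smul_apply, sr_self, sr_ne hij.symm] at ej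
    simp only [smul_eq_mul, mul_one, mul_zero, add_zero, zero_add] at ei ej
    refine sup hz ?_ ?_ ?_
    · by_contra hc
      push Not at hc
      nlinarith only [hm, ha, ei, hc]
    · by_contra hc
      push Not at hc
      nlinarith only [hm, hb, ej, hc]
    · intro k hki hkj
      have ek := congrFun he k
      rw [Pi.add_apply, Pi.smul_apply, Pi.smul_apply, Pi.smul_apply, sr_ne hki, sr_ne hkj] at ek
      simp only [smul_eq_mul, mul_zero, add_zero] at ek
      rcases mul_eq_zero.1 ek with h5 | h5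
      · omega
      · exact h5
  have psr : ∀ k l : I, pairing A k (sr l) = A k l := by
    intro k l
    rw [sr, pairing_single, mul_one]
  have hb' : ∀ z, Btwn cs h (sr j) (sr i) z → z = sr i + sr j := fun z hz => hb z hz.symm
  have r1 : rep cs h (cs.simple i) (sr i + sr j) = sr j := by
    rw [rep_simple_eq, pairing_add, psr, psr, h.diag, hA.1]
    module
  have r2 : rep cs h (cs.simple j) (sr i + sr j) = sr i := by
    rw [rep_simple_eq, pairing_add, psr, psr, h.diag, hA.2]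
    module
  have act : ∀ (w : W) {x y z : I → ℤ}, Btwn cs h x y z → Btwn cs h (rep cs h w x) (rep cs h w y) (rep cs h w z) := by
    rintro w x y z ⟨hz, m, a, b, hm, ha, hb, he⟩
    refine ⟨hz.act w, m, a, b, hm, ha, hb, ?_⟩
    rw [← map_smul, he, map_add, map_smul, map_smul]
  refine ⟨isRoot_sr cs h i, isRoot_sr cs h j, by rw [cpr_sr, psr, hA.2], by rw [cpr_sr, psr, hA.1], hb, ?_, ?_, ?_,
    ?_, ?_⟩
  · rintro z ⟨hz, m, a, b, hm, ha, hb, he⟩
    have ei := congrFun he i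
    have ej := congrFun he j
    simp only [Pi.add_apply, Pi.smul_apply, Pi.neg_apply, sr_self, sr_ne hij, smul_eq_mul, mul_one, mul_zero,
      add_zero, mul_neg] at ei
    simp only [Pi.add_apply, Pi.smul_apply, Pi.neg_apply, sr_self, sr_ne hij.symm, smul_eq_mul, mul_one, mul_zero,
      neg_zero, zero_add] at ej
    rcases hz.pos_or_neg with h4 | h4
    · have h5 : 0 ≤ z i := h4 i
      have : 0 ≤ m * z i := mul_nonneg hm.le h5
      omega
    · have h5 : z j ≤ 0 := h4 j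
      have : m * z j ≤ 0 := mul_nonpos_of_nonneg_of_nonpos hm.le h5
      omega
  · intro z hz
    have h4 := act (cs.simple i) hz
    rw [map_neg, rep_simple_sr, neg_neg, r1] at h4
    have h5 := hb _ h4
    have h6 := congrArg (rep cs h (cs.simple i)) h5
    rw [r1, ← rep_mul_apply, cs.simple_mul_simple_self, map_one, Module.End.one_apply] at h6
    exact h6
  · intro z hz
    have h4 := act (cs.simple j) hz
    rw [map_neg, rep_simple_sr, neg_neg, r2] at h4
    have h5 := hb' _ h4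
    have h6 := congrArg (rep cs h (cs.simple j)) h5
    rw [r2, ← rep_mul_apply, cs.simple_mul_simple_self, map_one, Module.End.one_apply] at h6
    exact h6
  · rintro z ⟨hz, m, a, b, hm, ha, hb, he⟩
    have ei := congrFun he i
    have ej := congrFun he j
    simp only [Pi.add_apply, Pi.smul_apply, sr_self, sr_ne hij, smul_eq_mul, mul_one, mul_zero, add_zero] at ei
    simp only [Pi.add_apply, Pi.smul_apply, sr_self, sr_ne hij.symm, smul_eq_mul, mul_one, zero_add] at ej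
    have h6 := sup hz (by
      by_contra hc
      push Not at hc
      nlinarith only [hm, ha, ei, hc]) (by
      by_contra hc
      push Not at hc
      nlinarith only [hm, ha, hb, ej, hc]) (by
      intro k hki hkj
      have ek := congrFun he k
      simp only [Pi.add_apply, Pi.smul_apply, sr_ne hki, sr_ne hkj, smul_eq_mul, mul_zero, add_zero] at ek
      rcases mul_eq_zero.1 ek with h5 | h5
      · omega
      · exact h5)
    have h7 := congrFun h6 i
    have h8 := congrFun h6 j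
    rw [Pi.add_apply, sr_self, sr_ne hij] at h7
    rw [Pi.add_apply, sr_self, sr_ne hij.symm] at h8
    rw [h7] at ei
    rw [h8] at ej
    omega
  · rintro z ⟨hz, m, a, b, hm, ha, hb, he⟩
    have ei := congrFun he i
    have ej := congrFun he j
    simp only [Pi.add_apply, Pi.smul_apply, sr_self, sr_ne hij, smul_eq_mul, mul_one, add_zero] at ei
    simp only [Pi.add_apply, Pi.smul_apply, sr_self, sr_ne hij.symm, smul_eq_mul, mul_one, mul_zero, add_zero,
      zero_add] at ej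
    have h6 := sup hz (by
      by_contra hc
      push Not at hc
      nlinarith only [hm, ha, hb, ei, hc]) (by
      by_contra hc
      push Not at hc
      nlinarith only [hm, ha, ej, hc]) (by
      intro k hki hkj
      have ek := congrFun he k
      simp only [Pi.add_apply, Pi.smul_apply, sr_ne hki, sr_ne hkj, smul_eq_mul, mul_zero, add_zero] at ek
      rcases mul_eq_zero.1 ek with h5 | h5
      · omega
      · exact h5)
    have h7 := congrFun h6 i
    have h8 := congrFun h6 j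
    rw [Pi.add_apply, sr_self, sr_ne hij] at h7
    rw [Pi.add_apply, sr_self, sr_ne hij.symm] at h8
    rw [h7] at ei
    rw [h8] at ej
    omega

/-! ### frame automorphisms -/

section

variable (R : RGD cs h p T n X)

include R

/-- A frame automorphism with trivial diagram symmetry, trivial on the groups `X_i`, is trivial on all root
groups. -/
theorem root_of_fix [Finite W] {β : MulAut Y} (D : _root_.Cfsg.Agent.KFacts.RgdDiag.Diag T X β 1)
    (hfix : ∀ i, ∀ x ∈ X (sr i), β x = x) {r : I → ℤ} (hr : IsRoot cs h r) {u : Y} (hu : u ∈ X r) : β u = u := by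
  -- the fixed subgroup
  let K0 : Subgroup Y :=
    { carrier := {x | β x = x}
      one_mem' := map_one β
      mul_mem' := by
        intro x y (hx : β x = x) (hy : β y = y)
        show β (x * y) = x * y
        rw [map_mul, hx, hy]
      inv_mem' := by
        intro x (hx : β x = x)
        show β x⁻¹ = x⁻¹
        rw [map_inv, hx] }
  have hK0 : ∀ x, x ∈ K0 ↔ β x = x := fun x => Iff.rfl
  have hβn : ∀ i, (n i)⁻¹ * β (n i) ∈ T := fun i => (rp_simple cs R.nsys i).unique (D.rp (R := R) i)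
  have hn' : ∀ i, ∃ k ∈ K0, Rp cs R.nsys (cs.simple i) k := by
    intro i
    obtain ⟨u, hu, hu1⟩ := exists_ne_one R i
    have h1 : n i * u * (n i)⁻¹ ∈ X (-sr i) := by
      have := R.conj_mem (rp_simple cs R.nsys i) (isRoot_sr cs h i) hu
      rwa [rep_simple_sr] at this
    have h2 : n i * u * (n i)⁻¹ ≠ 1 := fun h3 => hu1 (mul_eq_left.1 (mul_inv_eq_one.1 h3))
    obtain ⟨a, ha, t, ht, b, hb, e⟩ := R.rk1 i _ h1 h2
    set v := n i * u * (n i)⁻¹ with hv
    have hk : Rp cs R.nsys (cs.simple i) (t * n i) := by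
      have := (rp_of_mem (cs := cs) (hN := R.nsys) ht).mul (rp_simple cs R.nsys i)
      rwa [one_mul] at this
    have hβa := hfix i a ha
    have hβb := hfix i b hb
    have hz : v⁻¹ * β v ∈ X (-sr i) := mul_mem (inv_mem h1) ((D.neg i v).2 h1)
    have hβk : (t * n i)⁻¹ * β (t * n i) ∈ T := by
      have h3 : Rp cs R.nsys (cs.simple i) (β (t * n i)) := by
        have := (rp_of_mem (cs := cs) (hN := R.nsys) ((D.tor t).2 ht)).mul (D.rp (R := R) i)
        rw [map_mul]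
        rwa [one_mul] at this
      exact hk.unique h3
    have e1 : v⁻¹ * β v = b⁻¹ * ((t * n i)⁻¹ * β (t * n i)) * b := by
      rw [e, map_mul, map_mul, map_mul, hβa, hβb, map_mul]
      group
    have hbB : b ∈ RGD.B cs h T X := RGD.X_le_B (isRoot_sr cs h i) (sr_nonneg i) hb
    have h3 : v⁻¹ * β v ∈ RGD.B cs h T X := by
      rw [e1]
      exact mul_mem (mul_mem (inv_mem hbB) (RGD.T_le_B hβk)) hbB
    have h4 : (n i)⁻¹ * (v⁻¹ * β v) * n i ∈ X (sr i) := by
      have := R.conj_mem' (rp_simple cs R.nsys i) (isRoot_sr cs h i).neg hz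
      rwa [inv_simple, map_neg, rep_simple_sr, neg_neg] at this
    have h5 : (n i)⁻¹ * (v⁻¹ * β v) * n i = 1 := by
      refine eq_one_of_conj_mem_B R h4 (rp_simple cs R.nsys i) ?_
      have e2 : n i * ((n i)⁻¹ * (v⁻¹ * β v) * n i) * (n i)⁻¹ = v⁻¹ * β v := by group
      rw [e2]
      exact h3
    have h6 : v⁻¹ * β v = 1 := by
      have e2 : v⁻¹ * β v = n i * ((n i)⁻¹ * (v⁻¹ * β v) * n i) * (n i)⁻¹ := by group
      rw [e2, h5]; group
    have h7 : β v = v := by
      rw [inv_mul_eq_one] at h6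
      exact h6.symm
    refine ⟨t * n i, ?_, hk⟩
    have e3 : t * n i = a⁻¹ * v * b⁻¹ := by rw [e]; group
    rw [hK0, e3, map_mul, map_mul, map_inv, map_inv, hβa, hβb, h7]
  have hw : ∀ w : W, ∃ k ∈ K0, Rp cs R.nsys w k := by
    intro w
    obtain ⟨ω, rfl⟩ := cs.wordProd_surjective w
    induction ω with
    | nil => exact ⟨1, one_mem _, by rw [wordProd_nil]; exact rp_one⟩
    | cons i ω ih =>
      obtain ⟨k, hk, hk'⟩ := ih
      obtain ⟨k', hk1, hk2⟩ := hn' i
      exact ⟨k' * k, mul_mem hk1 hk, by rw [wordProd_cons]; exact hk2.mul hk'⟩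
  obtain ⟨w, i, rfl⟩ := hr
  obtain ⟨k, hk, hk'⟩ := hw w
  have h1 : k⁻¹ * u * k ∈ X (sr i) := by
    have := R.conj_mem' hk' ((isRoot_sr cs h i).act w) hu
    rwa [rep_inv_apply] at this
  have h2 : u = k * (k⁻¹ * u * k) * k⁻¹ := by group
  have h3 : u ∈ K0 := by
    rw [h2]
    exact mul_mem (mul_mem hk (hfix i _ h1)) (inv_mem hk)
  exact h3

/-- the subgroup generated by the root groups is normal -/
theorem G1_normal (hG : GG cs h T X = ⊤) : (RGD.Sup X {x | IsRoot cs h x}).Normal := by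
  rw [← Subgroup.normalizer_eq_top_iff, eq_top_iff, ← hG]
  refine sup_le ?_ Subgroup.le_normalizer
  intro t ht
  rw [mem_normalizer_iff_cj]
  have key : ∀ s ∈ T, cj s (RGD.Sup X {x | IsRoot cs h x}) ≤ RGD.Sup X {x | IsRoot cs h x} := by
    intro s hs
    rw [show cj s (RGD.Sup X {x | IsRoot cs h x}) = (RGD.Sup X {x | IsRoot cs h x}).map (MulAut.conj s).toMonoidHom
      from rfl, Subgroup.map_le_iff_le_comap]
    refine RGD.Sup_le fun x hx u hu => ?_
    rw [Subgroup.mem_comap]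
    refine RGD.le_Sup hx ?_
    have h1 := R.tor x hx s hs
    rw [← h1]
    exact Subgroup.mem_map_of_mem _ hu
  apply le_antisymm (key t ht)
  have h1 := cj_mono t (key t⁻¹ (inv_mem ht))
  rwa [cj_cj_inv] at h1

end

/-! ### `C_H(G₁) = 1` -/

section Main

variable {H : Type*} [Group H] {L : Subgroup H} [L.Normal] {T : Subgroup L} {n : I → L}
  {X : (I → ℤ) → Subgroup L}

/-- the subgroup of `H` generated by the root groups -/
def G1 (cs : CoxeterSystem M W) (h : IsCartan M A) (X : (I → ℤ) → Subgroup L) : Subgroup H :=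
  (RGD.Sup X {x | IsRoot cs h x}).map L.subtype

theorem mem_G1 {x : L} : (x : H) ∈ G1 cs h X ↔ x ∈ RGD.Sup X {x | IsRoot cs h x} := by
  unfold G1
  constructor
  · rintro ⟨y, hy, e⟩
    rw [← Subtype.ext (e : (y : H) = x)]
    exact hy
  · exact fun hx => ⟨x, hx, rfl⟩

variable [Finite H] (R : RGD cs h p T n X)

include R

/-- a `p`-subgroup of `L` is contained in `G₁` -/
theorem pgroup_le [Finite W] [Fact p.Prime] (hG : GG cs h T X = ⊤) {P : Subgroup L} (hP : IsPGroup p P) :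
    P ≤ RGD.Sup X {x | IsRoot cs h x} := by
  have hN := G1_normal R hG
  obtain ⟨P', hP'⟩ := hP.exists_le_sylow
  obtain ⟨S, hS⟩ := (R.isPGroup_Upos (cs := cs) (h := h)).exists_le_sylow
  have hSU : (S : Subgroup L) = RGD.Sup X (RGD.Pos cs h) :=
    Cfsg.Agent.Nodes.NormalForm.eq_U_of_isPGroup R S.isPGroup' hS (by rw [hG]; exact le_top)
  have hU : (S : Subgroup L) ≤ RGD.Sup X {x | IsRoot cs h x} := by
    rw [hSU]
    exact RGD.Sup_le fun x hx => RGD.le_Sup hx.1
  obtain ⟨g, hg⟩ := MulAction.exists_smul_eq L S P'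
  intro x hx
  have h1 : x ∈ (P' : Subgroup L) := hP' hx
  rw [← hg, Sylow.coe_subgroup_smul, Subgroup.mem_pointwise_smul_iff_inv_smul_mem] at h1
  have h2 : (MulAut.conj g)⁻¹ • x = g⁻¹ * x * g := by
    rw [← map_inv, MulAut.smul_def, MulAut.conj_apply, inv_inv]
  rw [h2] at h1
  have h3 := hN.conj_mem _ (hU h1) g
  have h4 : g * (g⁻¹ * x * g) * g⁻¹ = x := by group
  rwa [h4] at h3

/-- `G₁` is normal in `H` -/
theorem G1_normal' [Finite W] [Fact p.Prime] (hG : GG cs h T X = ⊤) : (G1 cs h X : Subgroup H).Normal := by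
  constructor
  intro x hx g
  obtain ⟨y, hy, rfl⟩ := hx
  have h1 : RGD.Sup X {x | IsRoot cs h x} ≤ (RGD.Sup X {x | IsRoot cs h x}).comap (cn L g).toMonoidHom := by
    refine RGD.Sup_le fun r hr u hu => ?_
    rw [Subgroup.mem_comap]
    have h2 : IsPGroup p ((X r).map (cn L g).toMonoidHom) := (R.pgrp' hr).map _
    exact pgroup_le R hG h2 (Subgroup.mem_map_of_mem _ hu)
  have h2 := h1 hy
  rw [Subgroup.mem_comap, ← mem_G1] at h2
  exact h2

/-- `C_H(G₁) = 1` -/
theorem cent_G1 [Finite W] [Fact p.Prime] (hG : GG cs h T X = ⊤) {V : Type*} [AddCommGroup V] [Module (ZMod 2) V]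
    {ρ : H →* (V ≃ₗ[ZMod 2] V)} {a : V} (hinj : Function.Injective ρ)
    (hirr : ∀ W : Submodule (ZMod 2) V, (∀ g, ∀ v ∈ W, ρ g v ∈ W) → W = ⊥ ∨ W = ⊤) (ha : a ≠ 0)
    (hUa : ∀ u ∈ RGD.Sup X (RGD.Pos cs h), ρ (u : H) a = a)
    (hcent : ∀ v, (∀ u ∈ RGD.Sup X (RGD.Pos cs h), ρ (u : H) v = v) → v = 0 ∨ v = a) {c : H}
    (hc : ∀ x ∈ (G1 cs h X : Subgroup H), x * c = c * x) : c = 1 := by
  have hmul : ∀ (g k : H) (v : V), ρ (g * k) v = ρ g (ρ k v) := by
    intro g k v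
    rw [map_mul]; rfl
  have hN := G1_normal' R hG
  let C := Subgroup.centralizer ((G1 cs h X : Subgroup H) : Set H)
  have hC : ∀ g : H, g ∈ C ↔ ∀ x ∈ (G1 cs h X : Subgroup H), x * g = g * x := fun g =>
    Subgroup.mem_centralizer_iff
  have hCN : C.Normal := by
    constructor
    intro x hx g
    rw [hC] at hx ⊢
    intro y hy
    have h1 := hx (g⁻¹ * y * g) (by
      have := hN.conj_mem y hy g⁻¹
      rwa [inv_inv] at this)
    calc y * (g * x * g⁻¹) = g * ((g⁻¹ * y * g) * x) * g⁻¹ := by group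
      _ = g * (x * (g⁻¹ * y * g)) * g⁻¹ := by rw [h1]
      _ = g * x * g⁻¹ * y := by group
  let F : Submodule (ZMod 2) V :=
    { carrier := {v | ∀ x ∈ C, ρ x v = v}
      zero_mem' := fun x _ => map_zero _
      add_mem' := by
        intro v w hv hw x hx
        show ρ x (v + w) = v + w
        rw [map_add, hv x hx, hw x hx]
      smul_mem' := by
        intro r v hv x hx
        show ρ x (r • v) = r • v
        rw [map_smul, hv x hx] }
  have hF : ∀ v, v ∈ F ↔ ∀ x ∈ C, ρ x v = v := fun v => Iff.rfl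
  have haF : a ∈ F := by
    intro x hx
    have h1 := hcent (ρ x a) (by
      intro u hu
      have h2 : (u : H) ∈ (G1 cs h X : Subgroup H) := mem_G1.2 (by
        have : RGD.Sup X (RGD.Pos cs h) ≤ RGD.Sup X {x | IsRoot cs h x} :=
          RGD.Sup_le fun x hx => RGD.le_Sup hx.1
        exact this hu)
      rw [← hmul, (hC x).1 hx _ h2, hmul, hUa u hu])
    rcases h1 with h1 | h1
    · exfalso
      apply ha
      apply (ρ x).injective
      rw [h1, map_zero]
    · exact h1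
  have h1 := hirr F (by
    intro g v hv x hx
    have h2 := hCN.conj_mem x hx g⁻¹
    rw [inv_inv] at h2
    have h3 : x * g = g * (g⁻¹ * x * g) := by group
    rw [← hmul, h3, hmul, hv _ h2])
  rcases h1 with h1 | h1
  · exfalso
    rw [h1] at haF
    exact ha haF
  · apply hinj
    ext v
    have h2 : v ∈ F := by rw [h1]; trivial
    have h3 := h2 c ((hC c).2 hc)
    rw [h3, map_one]
    rfl

/-- an element of `N₁` trivial on all `X_i` is `1` -/
theorem eq_one_of_fix' [Finite W] (hC : ∀ c : H, (∀ x ∈ (G1 cs h X : Subgroup H), x * c = c * x) → c = 1) {g : H}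
    (hg : g ∈ N1 T X) (hfix : ∀ i, ∀ x ∈ X (sr i), cn L g x = x) : g = 1 := by
  apply hC
  rintro _ ⟨y, hy, rfl⟩
  let K0 : Subgroup L :=
    { carrier := {x | cn L g x = x}
      one_mem' := map_one (cn L g)
      mul_mem' := by
        intro x y (hx : cn L g x = x) (hy : cn L g y = y)
        show cn L g (x * y) = x * y
        rw [map_mul, hx, hy]
      inv_mem' := by
        intro x (hx : cn L g x = x)
        show cn L g x⁻¹ = x⁻¹
        rw [map_inv, hx] }
  have h1 : RGD.Sup X {x | IsRoot cs h x} ≤ K0 :=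
    RGD.Sup_le fun r hr u hu => root_of_fix R (mem_N1.1 hg) hfix hr hu
  have h2 : cn L g y = y := h1 hy
  have h3 := cn_apply (L := L) g y
  rw [h2] at h3
  show (y : H) * g = g * (y : H)
  rw [eq_mul_inv_iff_mul_eq] at h3
  exact h3

end Main

/-! ### small permutations -/

theorem exists_fixed {α : Type*} [Fintype α] [DecidableEq α] (π : Equiv.Perm α) (x0 : α) (hx : π x0 = x0)
    (hs : Equiv.Perm.sign π = -1) (hc : Fintype.card α = 4) : ∃ x, x ≠ x0 ∧ π x = x := by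
  have h2 : π.support ⊆ Finset.univ.erase x0 := by
    intro x hx'
    rw [Finset.mem_erase]
    refine ⟨?_, Finset.mem_univ x⟩
    rintro rfl
    exact (Equiv.Perm.mem_support.1 hx') hx
  by_contra hcon
  push Not at hcon
  have h3 : π.support = Finset.univ.erase x0 := by
    apply Finset.Subset.antisymm h2
    intro x hx'
    rw [Finset.mem_erase] at hx'
    exact Equiv.Perm.mem_support.2 (hcon x hx'.1)
  have h4 : π.support.card = 3 := by
    rw [h3, Finset.card_erase_of_mem (Finset.mem_univ x0), Finset.card_univ, hc]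
  have h5 := (card_support_eq_three_iff.1 h4).sign
  rw [h5] at hs
  exact absurd hs (by decide)

section Main2

variable {H : Type*} [Group H] {L : Subgroup H} [L.Normal] {T : Subgroup L} {n : I → L}
  {X : (I → ℤ) → Subgroup L} [Finite H]

theorem fix_of_two {i : I} (h2 : Nat.card (X (sr i)) = 2) {g : H} (hg : g ∈ N1 T X) {x : L} (hx : x ∈ X (sr i)) :
    cn L g x = x := by
  by_cases hx1 : x = 1
  · rw [hx1, map_one]
  · have h3 : cn L g x ∈ X (sr i) := ((mem_N1.1 hg).pos i x).2 hx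
    have h4 : cn L g x ≠ 1 := fun h5 => hx1 ((cn L g).map_eq_one_iff.1 h5)
    rw [Nat.card_eq_two_iff' (1 : X (sr i))] at h2
    obtain ⟨r, hr1, hr2⟩ := h2
    have e3 := hr2 ⟨_, h3⟩ (fun e => h4 (congrArg Subtype.val e))
    have e4 := hr2 ⟨_, hx⟩ (fun e => hx1 (congrArg Subtype.val e))
    exact congrArg Subtype.val (e3.trans e4.symm)

theorem sg_of_two {i : I} (h2 : Nat.card (X (sr i)) = 2) (g : N1 T X) : sg T X i g = 1 := by
  classical
  let _ : Fintype {x : L // x ∈ X (sr i)} := Fintype.ofFinite _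
  have h1 : pa i g = 1 := by
    ext x
    rw [pa_apply, fix_of_two h2 g.2 x.2]
    rfl
  show Equiv.Perm.sign (pa i g) = 1
  rw [h1, Equiv.Perm.sign_one]

variable (R : RGD cs h p T n X)

include R

set_option maxHeartbeats 1000000 in
/-- the signs of two nodes with label 3 agree -/
theorem sg_eq [Finite W] {i j : I} (h3 : M i j = 3) (hi : Nat.card (X (sr i)) = 4) (hj : Nat.card (X (sr j)) = 4)
    {g : N1 T X} (hs : sg T X i g = -1) : sg T X j g = -1 := by
  classical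
  rcases Int.units_eq_one_or (sg T X j g) with h1 | h1
  swap
  · exact h1
  exfalso
  have hA : A2 cs h (sr i) (sr j) := a2_of_three h3
  let _ : Fintype {x : L // x ∈ X (sr i)} := Fintype.ofFinite _
  have h4 : sg T X i (g ^ 3) = -1 := by
    rw [map_pow, hs]; decide
  have h5 : Equiv.Perm.sign (pa i (g ^ 3)) = -1 := by
    rw [← h4]
    unfold sg
    rw [MonoidHom.comp_apply]
  have hc : Fintype.card {x : L // x ∈ X (sr i)} = 4 := by
    rw [← Nat.card_eq_fintype_card]; exact hi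
  obtain ⟨y, hy1, hy2⟩ := exists_fixed (pa i (g ^ 3)) ⟨1, one_mem _⟩ (by
    apply Subtype.ext
    rw [pa_apply, map_one]) h5 hc
  have hfj : ∀ v ∈ X (sr j), cn L ((g : H) ^ 3) v = v := fun v hv => cube_of_sg j hj.le h1 hv
  have hy3 : cn L ((g : H) ^ 3) y.1 = y.1 := by
    have := congrArg Subtype.val hy2
    rw [pa_apply, Subgroup.coe_pow] at this
    exact this
  have hy4 : y.1 ≠ 1 := fun e => hy1 (Subtype.ext e)
  have hfs : ∀ w ∈ X (sr i + sr j), cn L ((g : H) ^ 3) w = w := by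
    intro w hw
    obtain ⟨v, hv, rfl⟩ := A2.comm_surj R hA y.2 hy4 hw
    rw [map_commutatorElement, hy3, hfj v hv]
  have h6 : pa i (g ^ 3) ≠ 1 := by
    intro h6
    rw [h6, Equiv.Perm.sign_one] at h5
    exact absurd h5 (by decide)
  obtain ⟨x, hx⟩ : ∃ x, pa i (g ^ 3) x ≠ x := by
    by_contra hcon
    push Not at hcon
    exact h6 (Equiv.ext hcon)
  have hx0 : ((pa i (g ^ 3) x : {x : L // x ∈ X (sr i)}) : L) = cn L ((g : H) ^ 3) x.1 := by
    rw [pa_apply, Subgroup.coe_pow]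
  have hx' : cn L ((g : H) ^ 3) x.1 ∈ X (sr i) := by
    rw [← hx0]
    exact (pa i (g ^ 3) x).2
  have hx1 : cn L ((g : H) ^ 3) x.1 ≠ x.1 := by
    rw [← hx0]
    exact fun e => hx (Subtype.ext e)
  generalize cn L ((g : H) ^ 3) = β at *
  obtain ⟨v, hv, hv1⟩ := exists_ne_one R j
  have h7 := hfs _ (A2.comm_mem R hA x.2 hv)
  rw [map_commutatorElement, hfj v hv] at h7
  have h8 : ⁅(β x.1)⁻¹ * x.1, v⁆ = 1 := by
    rw [commutatorElement_eq_one_iff_mul_comm]
    rw [commutatorElement_def, commutatorElement_def] at h7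
    have h9 : β x.1 * v * (β x.1)⁻¹ = x.1 * v * x.1⁻¹ := mul_right_cancel h7
    calc (β x.1)⁻¹ * x.1 * v = (β x.1)⁻¹ * (x.1 * v * x.1⁻¹) * x.1 := by group
      _ = (β x.1)⁻¹ * (β x.1 * v * (β x.1)⁻¹) * x.1 := by rw [h9]
      _ = v * ((β x.1)⁻¹ * x.1) := by group
  refine A2.comm_ne_one R hA (mul_mem (inv_mem hx') x.2) ?_ hv hv1 h8
  intro e
  rw [inv_mul_eq_one] at e
  exact hx1 e

end Main2

/-! ### the index -/

theorem index_of_mul {H : Type*} [Group H] {L : Subgroup H} (hL : ∀ g k : H, g ∉ L → k ∉ L → g * k ∈ L) :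
    L.index ≤ 2 := by
  by_cases h1 : L = ⊤
  · rw [h1, Subgroup.index_top]; omega
  · have h2 : ∃ a, a ∉ L := by
      by_contra hcon
      push Not at hcon
      exact h1 (eq_top_iff.2 fun x _ => hcon x)
    obtain ⟨a, ha⟩ := h2
    have h3 : L.index = 2 := by
      rw [Subgroup.index_eq_two_iff]
      refine ⟨a, fun b => ?_⟩
      by_cases hb : b ∈ L
      · right
        refine ⟨hb, fun h4 => ha ?_⟩
        have := L.mul_mem (L.inv_mem hb) h4
        rwa [inv_mul_cancel_left] at this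
      · left
        exact ⟨hL b a hb ha, hb⟩
    omega

/-! ### diagram symmetries -/

theorem uA (σ τ : Equiv.Perm (Fin 5)) (hσ : ∀ i j, cA 5 (σ i) (σ j) = cA 5 i j)
    (hτ : ∀ i j, cA 5 (τ i) (τ j) = cA 5 i j) (hσ1 : σ ≠ 1) (hτ1 : τ ≠ 1) : σ * τ = 1 := by
  have key : ∀ σ : Equiv.Perm (Fin 5), (∀ i j, cA 5 (σ i) (σ j) = cA 5 i j) → σ ≠ 1 →
      σ 0 = 4 ∧ σ 1 = 3 ∧ σ 2 = 2 ∧ σ 3 = 1 ∧ σ 4 = 0 := by
    intro σ hσ hσ1
    have h : ∀ i j, tA (σ i) (σ j) = tA i j := by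
      intro i j
      rw [← tA_eq, ← tA_eq]
      exact hσ i j
    rcases keyA (σ 0) (σ 1) (by rw [h]; decide) (σ 2) (by rw [h]; decide) (by rw [h]; decide) (σ 3)
      (by rw [h]; decide) (by rw [h]; decide) (σ 4) (by rw [h]; decide) (by rw [h]; decide) with
      ⟨h0, h1, h2, h3, h4⟩ | h5
    · exfalso
      apply hσ1
      ext i
      congr 1
      fin_cases i
      · exact h0
      · exact h1
      · exact h2
      · exact h3
      · exact h4
    · exact h5
  obtain ⟨s0, s1, s2, s3, s4⟩ := key σ hσ hσ1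
  obtain ⟨t0, t1, t2, t3, t4⟩ := key τ hτ hτ1
  ext i
  rw [Equiv.Perm.mul_apply, Equiv.Perm.one_apply]
  congr 1
  fin_cases i
  · show σ (τ 0) = 0
    rw [t0, s4]
  · show σ (τ 1) = 1
    rw [t1, s3]
  · show σ (τ 2) = 2
    rw [t2, s2]
  · show σ (τ 3) = 3
    rw [t3, s1]
  · show σ (τ 4) = 4
    rw [t4, s0]

theorem uD (σ τ : Equiv.Perm (Fin 6)) (hσ : ∀ i j, Nodes.TypeD.M 4 (σ i) (σ j) = Nodes.TypeD.M 4 i j)
    (hτ : ∀ i j, Nodes.TypeD.M 4 (τ i) (τ j) = Nodes.TypeD.M 4 i j) (hσ1 : σ ≠ 1) (hτ1 : τ ≠ 1) : σ * τ = 1 := by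
  have key : ∀ σ : Equiv.Perm (Fin 6), (∀ i j, Nodes.TypeD.M 4 (σ i) (σ j) = Nodes.TypeD.M 4 i j) → σ ≠ 1 →
      σ 0 = 0 ∧ σ 1 = 1 ∧ σ 2 = 2 ∧ σ 3 = 3 ∧ σ 4 = 5 ∧ σ 5 = 4 := by
    intro σ hσ hσ1
    have h : ∀ i j, tD (σ i) (σ j) = tD i j := by
      intro i j
      rw [← tD_eq, ← tD_eq]
      exact hσ i j
    rcases keyD (σ 0) (σ 1) (by rw [h]; decide) (σ 2) (by rw [h]; decide) (by rw [h]; decide) (σ 3) (by rw [h]; decide)
      (by rw [h]; decide) (σ 4) (by rw [h]; decide) (by rw [h]; decide) (σ 5) (by rw [h]; decide) (by rw [h]; decide)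
      (by rw [h]; decide) with ⟨h0, h1, h2, h3, h4, h5⟩ | h6
    · exfalso
      apply hσ1
      ext i
      congr 1
      fin_cases i
      · exact h0
      · exact h1
      · exact h2
      · exact h3
      · exact h4
      · exact h5
    · exact h6
  obtain ⟨s0, s1, s2, s3, s4, s5⟩ := key σ hσ hσ1
  obtain ⟨t0, t1, t2, t3, t4, t5⟩ := key τ hτ hτ1
  ext i
  rw [Equiv.Perm.mul_apply, Equiv.Perm.one_apply]
  congr 1
  fin_cases i
  · show σ (τ 0) = 0
    rw [t0, s0]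
  · show σ (τ 1) = 1
    rw [t1, s1]
  · show σ (τ 2) = 2
    rw [t2, s2]
  · show σ (τ 3) = 3
    rw [t3, s3]
  · show σ (τ 4) = 4
    rw [t4, s5]
  · show σ (τ 5) = 5
    rw [t5, s4]

theorem uE (σ : Equiv.Perm (Fin 7)) (hσ : ∀ i j, CoxeterMatrix.E₇ (σ i) (σ j) = CoxeterMatrix.E₇ i j) : σ = 1 := by
  have h : ∀ i j, tE (σ i) (σ j) = tE i j := by
    intro i j
    rw [← tE_eq, ← tE_eq]
    exact hσ i j
  obtain ⟨h0, h1, h2, h3, h4, h5, h6⟩ := keyE (σ 0) (σ 2) (by rw [h]; decide) (σ 3) (by rw [h]; decide)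
    (by rw [h]; decide) (σ 1) (by rw [h]; decide) (by rw [h]; decide) (by rw [h]; decide)
    (σ 4) (by rw [h]; decide) (by rw [h]; decide) (by rw [h]; decide)
    (σ 5) (by rw [h]; decide) (by rw [h]; decide) (σ 6) (by rw [h]; decide) (by rw [h]; decide)
  ext i
  congr 1
  fin_cases i
  · exact h0
  · exact h1
  · exact h2
  · exact h3
  · exact h4
  · exact h5
  · exact h6

theorem uB (σ : Equiv.Perm (Fin 3)) (hσ : ∀ i j, CoxeterMatrix.B 3 (σ i) (σ j) = CoxeterMatrix.B 3 i j) : σ = 1 := by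
  have h : ∀ i j, tB (σ i) (σ j) = tB i j := by
    intro i j
    rw [← tB_eq, ← tB_eq]
    exact hσ i j
  obtain ⟨h0, h1, h2⟩ := keyB (σ 1) (σ 2) (by rw [h]; decide) (σ 0) (by rw [h]; decide)
  ext i
  congr 1
  fin_cases i
  · exact h0
  · exact h1
  · exact h2

/-! ### the theorem -/

section Final

variable {l : ℕ} {M : CoxeterMatrix (Fin l)} {A : Fin l → Fin l → ℤ} {h : IsCartan M A}
  {H : Type*} [Group H] [Finite H] {L : Subgroup H} [L.Normal] {T : Subgroup L} {n : Fin l → L}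
  {X : (Fin l → ℤ) → Subgroup L} {q : Fin l → ℕ} {i : Fin l}

/-- all orders `2`: the elements outside `L` multiply into `L` -/
theorem mul_of_two [Finite M.Group] (R : RGD M.toCoxeterSystem h 2 T n X) (hG : GG M.toCoxeterSystem h T X = ⊤)
    (hC : ∀ c : H, (∀ x ∈ (G1 M.toCoxeterSystem h X : Subgroup H), x * c = c * x) → c = 1)
    (hq : ∀ j, Nat.card (X (sr j)) = 2)
    (hsym : ∀ σ τ : Equiv.Perm (Fin l), (∀ i j, M (σ i) (σ j) = M i j) → (∀ i j, M (τ i) (τ j) = M i j) →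
      σ ≠ 1 → τ ≠ 1 → σ * τ = 1) (g k : H) (hg : g ∉ L) (hk : k ∉ L) : g * k ∈ L := by
  have : Fact (Nat.Prime 2) := ⟨Nat.prime_two⟩
  have hN : ∀ g ∈ N1 T X, g = (1 : H) := fun g hg => eq_one_of_fix' R hC hg fun i x hx => fix_of_two (hq i) hg hx
  obtain ⟨u, σ, hσ⟩ := exists_frame' R hG g
  obtain ⟨v, τ, hτ⟩ := exists_frame' R hG k
  have hσ1 : σ ≠ 1 := by
    rintro rfl
    have h1 := hN _ (mem_N1.2 hσ)
    apply hg
    have h2 : g = (u : H)⁻¹ := by
      rw [eq_inv_iff_mul_eq_one]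
      have h3 : (u : H) * g * (u : H) * (u : H)⁻¹ = (u : H)⁻¹ * (u : H) := by rw [h1]; group
      have h4 : g = (u : H)⁻¹ * ((u : H) * g) := by group
      rw [h4, h1]; group
    rw [h2]
    exact inv_mem u.2
  have hτ1 : τ ≠ 1 := by
    rintro rfl
    have h1 := hN _ (mem_N1.2 hτ)
    apply hk
    have h2 : k = (v : H)⁻¹ := by
      have h4 : k = (v : H)⁻¹ * ((v : H) * k) := by group
      rw [h4, h1]; group
    rw [h2]
    exact inv_mem v.2
  have h1 := hσ.mul hτ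
  rw [hsym σ τ (fun i j => Diag.matrix R hσ i j) (fun i j => Diag.matrix R hτ i j) hσ1 hτ1, ← cn_mul] at h1
  have h2 := hN _ (mem_N1.2 h1)
  have h3 : g * k = (u : H)⁻¹ * ((u : H) * g * ((v : H) * k)) * (k⁻¹ * (v : H)⁻¹ * k) := by group
  rw [h3, h2]
  have h4 : k⁻¹ * (v : H)⁻¹ * k ∈ L := by
    have := (inferInstance : L.Normal).conj_mem (v : H)⁻¹ (inv_mem v.2) k⁻¹
    rwa [inv_inv] at this
  exact mul_mem (mul_mem (inv_mem u.2) (one_mem _)) h4

/-- the case `C₃(4,4,2)` -/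
theorem mul_of_C3 {M : CoxeterMatrix (Fin 3)} (hM : M = CoxeterMatrix.B 3) {A : Fin 3 → Fin 3 → ℤ} {h : IsCartan M A}
    {T : Subgroup L} {n : Fin 3 → L} {X : (Fin 3 → ℤ) → Subgroup L}
    [Finite M.Group] (R : RGD M.toCoxeterSystem h 2 T n X) (hG : GG M.toCoxeterSystem h T X = ⊤)
    (hC : ∀ c : H, (∀ x ∈ (G1 M.toCoxeterSystem h X : Subgroup H), x * c = c * x) → c = 1)
    (hodd : ∀ g : H, Odd (orderOf g) → g ∈ L)
    (hq : ∀ j, Nat.card (X (sr j)) = ![4, 4, 2] j) (g k : H) (hg : g ∉ L) (hk : k ∉ L) : g * k ∈ L := by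
  have : Fact (Nat.Prime 2) := ⟨Nat.prime_two⟩
  have h01 : M 0 1 = 3 := by
    rw [hM, tB_eq]; decide
  have h10 : M 1 0 = 3 := by
    rw [hM, tB_eq]; decide
  have q0 : Nat.card (X (sr 0)) = 4 := hq 0
  have q1 : Nat.card (X (sr 1)) = 4 := hq 1
  have q2 : Nat.card (X (sr 2)) = 2 := hq 2
  have hT2 : ∀ g ∈ T2 T X, g ∈ L := by
    intro g hg
    obtain ⟨hg1, hg2⟩ := mem_T2.1 hg
    have h1 : g ^ 3 = 1 := by
      refine eq_one_of_fix' R hC ((N1 T X).pow_mem hg1 3) ?_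
      intro i x hx
      have h5 : ∀ i : Fin 3, (![4, 4, 2] : Fin 3 → ℕ) i ≤ 4 := by decide
      exact cube_of_sg (g := ⟨g, hg1⟩) i (by rw [hq]; exact h5 i) (hg2 i) hx
    exact hodd g (Odd.of_dvd_nat (by decide) (orderOf_dvd_of_pow_eq_one h1))
  have hN : ∀ g (hg : g ∈ N1 T X), sg T X 0 ⟨g, hg⟩ = 1 → g ∈ L := by
    intro g hg h1
    refine hT2 g (mem_T2.2 ⟨hg, fun i => ?_⟩)
    have h2 : sg T X 1 ⟨g, hg⟩ = 1 := by
      rcases Int.units_eq_one_or (sg T X 1 ⟨g, hg⟩) with h2 | h2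
      · exact h2
      · have h3 := sg_eq R h10 q1 q0 h2
        rw [h1] at h3
        exact absurd h3 (by decide)
    fin_cases i
    · exact h1
    · exact h2
    · exact sg_of_two q2 _
  obtain ⟨u, σ, hσ⟩ := exists_frame' R hG g
  obtain ⟨v, τ, hτ⟩ := exists_frame' R hG k
  have hσ1 : σ = 1 := uB σ fun i j => by
    have := Diag.matrix R hσ i j
    rwa [hM] at this
  have hτ1 : τ = 1 := uB τ fun i j => by
    have := Diag.matrix R hτ i j
    rwa [hM] at this
  subst hσ1 hτ1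
  have hg' : (u : H) * g ∈ N1 T X := mem_N1.2 hσ
  have hk' : (v : H) * k ∈ N1 T X := mem_N1.2 hτ
  have h1 : sg T X 0 ⟨(u : H) * g, hg'⟩ = -1 := by
    rcases Int.units_eq_one_or (sg T X 0 ⟨(u : H) * g, hg'⟩) with h2 | h2
    · exfalso
      apply hg
      have h3 := hN _ hg' h2
      have h4 := mul_mem (inv_mem u.2) h3
      rwa [inv_mul_cancel_left] at h4
    · exact h2
  have h2 : sg T X 0 ⟨(v : H) * k, hk'⟩ = -1 := by
    rcases Int.units_eq_one_or (sg T X 0 ⟨(v : H) * k, hk'⟩) with h2 | h2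
    · exfalso
      apply hk
      have h3 := hN _ hk' h2
      have h4 := mul_mem (inv_mem v.2) h3
      rwa [inv_mul_cancel_left] at h4
    · exact h2
  have h3 := hN _ (mul_mem hg' hk') (by
    have : (⟨(u : H) * g * ((v : H) * k), mul_mem hg' hk'⟩ : N1 T X) = ⟨(u : H) * g, hg'⟩ * ⟨(v : H) * k, hk'⟩ := rfl
    rw [this, map_mul, h1, h2]; decide)
  have h4 : g * k = (u : H)⁻¹ * ((u : H) * g * ((v : H) * k)) * (k⁻¹ * (v : H)⁻¹ * k) := by group
  rw [h4]
  have h5 : k⁻¹ * (v : H)⁻¹ * k ∈ L := by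
    have := (inferInstance : L.Normal).conj_mem (v : H)⁻¹ (inv_mem v.2) k⁻¹
    rwa [inv_inv] at this
  exact mul_mem (mul_mem (inv_mem u.2) h3) h5

/-- **`|H : L| ≤ 2`.** -/
theorem index_le_two [Finite M.Group] {V : Type*} [AddCommGroup V] [Module (ZMod 2) V]
    {ρ : H →* (V ≃ₗ[ZMod 2] V)} {a : V} (hinj : Function.Injective ρ)
    (hirr : ∀ W : Submodule (ZMod 2) V, (∀ g, ∀ v ∈ W, ρ g v ∈ W) → W = ⊥ ∨ W = ⊤) (ha : a ≠ 0)
    (hgood : _root_.Cfsg.Agent.Omega.EH3.Kf.Goal.Good M q i) (hodd : ∀ g : H, Odd (orderOf g) → g ∈ L)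
    (R : RGD M.toCoxeterSystem h 2 T n X) (hG : GG M.toCoxeterSystem h T X = ⊤)
    (hfix : ∀ j, j ≠ i → ∀ g ∈ PJ M.toCoxeterSystem h T X {j}, ρ (g : H) a = a)
    (hq : ∀ j, Nat.card (X (sr j)) = q j)
    (hcent : ∀ v, (∀ u ∈ RGD.Sup X (RGD.Pos M.toCoxeterSystem h), ρ (u : H) v = v) → v = 0 ∨ v = a) :
    L.index ≤ 2 := by
  have : Fact (Nat.Prime 2) := ⟨Nat.prime_two⟩
  have hUa : ∀ u ∈ RGD.Sup X (RGD.Pos M.toCoxeterSystem h), ρ (u : H) a = a := by
    have key : ∀ j : Fin l, j ≠ i → ∀ u ∈ RGD.Sup X (RGD.Pos M.toCoxeterSystem h), ρ (u : H) a = a := by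
      intro j hj u hu
      refine hfix j hj u ?_
      exact B_le_PJ (RGD.U_le_B hu)
    cases hgood with
    | A5 => exact key 0 (by decide)
    | D6 => exact key 0 (by decide)
    | D6' => exact key 0 (by decide)
    | E7 => exact key 0 (by decide)
    | C3 => exact key 0 (by decide)
  have hC : ∀ c : H, (∀ x ∈ (G1 M.toCoxeterSystem h X : Subgroup H), x * c = c * x) → c = 1 :=
    fun c hc => cent_G1 R hG hinj hirr ha hUa hcent hc
  apply index_of_mul
  cases hgood with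
  | A5 => exact mul_of_two R hG hC hq fun σ τ h1 h2 h3 h4 => uA σ τ h1 h2 h3 h4
  | D6 => exact mul_of_two R hG hC hq fun σ τ h1 h2 h3 h4 => uD σ τ h1 h2 h3 h4
  | D6' => exact mul_of_two R hG hC hq fun σ τ h1 h2 h3 h4 => uD σ τ h1 h2 h3 h4
  | E7 => exact mul_of_two R hG hC hq fun σ τ h1 _ h3 _ => absurd (uE σ h1) h3
  | C3 => exact mul_of_C3 rfl R hG hC hodd hq

end Final

end Cfsg.Agent.Omega.EH3.Kf.Idx

end

section


/-!
# EH3 END: `U` has two different commutators `≠ 1` (helper134, for helper805's closing theorem)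

`exists_comm` : in the five cases of `Good`, for every `t` there are `x, y ∈ U` with `⁅x, y⁆ ≠ 1`, `⁅x, y⁆ ≠ t`.
-/

set_option autoImplicit false

namespace Cfsg.Agent.Omega.EH3Close.UComm

open CoxeterSystem Cfsg.Agent.ChevalleyStructure.CoxeterGeom Cfsg.Agent.Tits.Roots Cfsg.Agent.Tits.Core
  Cfsg.Agent.Tits.RootComb Cfsg.Agent.Nodes.Comb Cfsg.Agent.Nodes.Reps Cfsg.Agent.Nodes.BNOf
  Cfsg.Agent.Nodes.StabComb Cfsg.Agent.Nodes.Bruhat Cfsg.Agent.Nodes.OppDec Cfsg.Agent.Nodes.LeviDec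
  Cfsg.Agent.KFacts.RgdSL Cfsg.Agent.Omega.EH3.Kf
open Cfsg.Agent.Omega.EH3.Kf.Goal (Good)
open scoped commutatorElement

variable {I W Y : Type*} [Fintype I] [DecidableEq I] [Group W] [Group Y] {M : CoxeterMatrix I}
  {cs : CoxeterSystem M W} {A : I → I → ℤ} {h : IsCartan M A} {p : ℕ} {T : Subgroup Y} {n : I → Y}
  {X : (I → ℤ) → Subgroup Y}

theorem mem_Pos_of_sr {i : I} {x : Y} (hx : x ∈ X (sr i)) : x ∈ RGD.Sup X (RGD.Pos cs h) :=
  RGD.le_Sup (S := RGD.Pos cs h) ⟨isRoot_sr cs h i, sr_nonneg i⟩ hx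

/-- three nodes -/
theorem of_three (R : RGD cs h p T n X) [Finite W] {i j k : I} (hik : i ≠ k) (h1 : A2 cs h (sr i) (sr j))
    (h2 : A2 cs h (sr j) (sr k)) (t : Y) :
    ∃ x ∈ RGD.Sup X (RGD.Pos cs h), ∃ y ∈ RGD.Sup X (RGD.Pos cs h), ⁅x, y⁆ ≠ 1 ∧ ⁅x, y⁆ ≠ t := by
  obtain ⟨a, ha, ha1⟩ := exists_ne_one R i
  obtain ⟨b, hb, hb1⟩ := exists_ne_one R j
  obtain ⟨c, hc, hc1⟩ := exists_ne_one R k
  have e1 := A2.comm_ne_one R h1 ha ha1 hb hb1
  have e2 := A2.comm_ne_one R h2 hb hb1 hc hc1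
  by_cases ht : ⁅a, b⁆ = t
  · refine ⟨b, mem_Pos_of_sr hb, c, mem_Pos_of_sr hc, e2, fun ht' => e2 ?_⟩
    have m1 := A2.comm_mem R h1 ha hb
    have m2 := A2.comm_mem R h2 hb hc
    rw [ht, ← ht'] at m1
    have hne : sr i + sr j ≠ sr j + sr k := by
      intro h3
      have h4 := congrFun h3 i
      rw [Pi.add_apply, Pi.add_apply, sr_self, sr_ne hik] at h4
      omega
    have h3 := X_inf_X R h1.rxy h2.rxy hne
    rw [Subgroup.eq_bot_iff_forall] at h3
    exact h3 _ ⟨m1, m2⟩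
  · exact ⟨a, mem_Pos_of_sr ha, b, mem_Pos_of_sr hb, e1, ht⟩

/-- two nodes, `|X_j| > 2` -/
theorem of_two (R : RGD cs h p T n X) [Finite W] {i j : I} (h1 : A2 cs h (sr i) (sr j))
    (hj : 2 < Nat.card (X (sr j))) (t : Y) :
    ∃ x ∈ RGD.Sup X (RGD.Pos cs h), ∃ y ∈ RGD.Sup X (RGD.Pos cs h), ⁅x, y⁆ ≠ 1 ∧ ⁅x, y⁆ ≠ t := by
  obtain ⟨a, ha, ha1⟩ := exists_ne_one R i
  obtain ⟨b, hb, hb1⟩ := exists_ne_one R j
  have : Finite (X (sr j)) := Nat.finite_of_card_ne_zero (by omega)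
  obtain ⟨c, hc1, hcb⟩ : ∃ c : X (sr j), c ≠ 1 ∧ c ≠ ⟨b, hb⟩ := by
    by_contra hcon
    push Not at hcon
    have h2 : (Set.univ : Set (X (sr j))) ⊆ {1, ⟨b, hb⟩} := by
      intro c _
      by_cases hc : c = 1
      · exact Or.inl hc
      · exact Or.inr (hcon c hc)
    have h3 := Set.ncard_le_ncard h2 (Set.toFinite _)
    rw [Set.ncard_univ] at h3
    have h4 : ({1, ⟨b, hb⟩} : Set (X (sr j))).ncard = 2 := Set.ncard_pair fun h5 => hb1 (congrArg Subtype.val h5).symm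
    omega
  have hc1' : (c : Y) ≠ 1 := fun h2 => hc1 (Subtype.ext h2)
  have e1 := A2.comm_ne_one R h1 ha ha1 hb hb1
  have e2 := A2.comm_ne_one R h1 ha ha1 c.2 hc1'
  by_cases ht : ⁅a, b⁆ = t
  · refine ⟨a, mem_Pos_of_sr ha, c, mem_Pos_of_sr c.2, e2, fun ht' => hcb ?_⟩
    apply Subtype.ext
    exact A2.comm_inj R h1 ha ha1 c.2 hb (by rw [ht, ht'])
  · exact ⟨a, mem_Pos_of_sr ha, b, mem_Pos_of_sr hb, e1, ht⟩

/-- **Two different commutators.** -/
theorem exists_comm {Y : Type*} [Group Y] {l : ℕ} {M : CoxeterMatrix (Fin l)} {q : Fin l → ℕ} {i : Fin l}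
    (hg : _root_.Cfsg.Agent.Omega.EH3.Kf.Goal.Good M q i) [Finite M.Group] {A' : Fin l → Fin l → ℤ} {h : IsCartan M A'} {T : Subgroup Y}
    {n : Fin l → Y} {X : (Fin l → ℤ) → Subgroup Y} (R : RGD M.toCoxeterSystem h 2 T n X)
    (hq : ∀ j, Nat.card (X (sr j)) = q j) (t : Y) :
    ∃ x ∈ RGD.Sup X (RGD.Pos M.toCoxeterSystem h), ∃ y ∈ RGD.Sup X (RGD.Pos M.toCoxeterSystem h),
      ⁅x, y⁆ ≠ 1 ∧ ⁅x, y⁆ ≠ t := by
  cases hg with
  | A5 =>
    exact of_three R (i := 0) (j := 1) (k := 2) (by decide) (Idx.a2_of_three (by rw [Sym.tA_eq]; decide))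
      (Idx.a2_of_three (by rw [Sym.tA_eq]; decide)) t
  | D6 =>
    exact of_three R (i := 0) (j := 1) (k := 2) (by decide) (Idx.a2_of_three (by rw [Sym.tD_eq]; decide))
      (Idx.a2_of_three (by rw [Sym.tD_eq]; decide)) t
  | D6' =>
    exact of_three R (i := 0) (j := 1) (k := 2) (by decide) (Idx.a2_of_three (by rw [Sym.tD_eq]; decide))
      (Idx.a2_of_three (by rw [Sym.tD_eq]; decide)) t
  | E7 =>
    exact of_three R (i := 0) (j := 2) (k := 3) (by decide) (Idx.a2_of_three (by rw [Sym.tE_eq]; decide))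
      (Idx.a2_of_three (by rw [Sym.tE_eq]; decide)) t
  | C3 =>
    exact of_two R (i := 0) (j := 1) (Idx.a2_of_three (by rw [Sym.tB_eq]; decide)) (by rw [hq]; decide) t

end Cfsg.Agent.Omega.EH3Close.UComm

end
end

-- part: Mrg/Omega/EH3/Kf/TwWitt
section
prune_inst 0x300061441c62100010180092410018468e000192000b080040e00d420580ee4028070e21bcb014121032085460380048131800100220000000000c000118058100a81002b0480000000086000084400000000000000000000000000000000000200000000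
set_option linter.all false
open scoped Cfsg.Agent.FastGrp


/-!
# EH3, Lie rows in characteristic 2: root groups of a Witt model (helper94; K6)

`M : FrameCN.Model Fr K`.  Relations of the root elements `M.X a b t`, `M.Z a p` of `K`; `Gd`, `NAX`, `NAZ`, `NAS` for
the root groups `WittModel.X M`; the orders.
-/

set_option autoImplicit false
set_option linter.unusedVariables false

namespace Cfsg.Agent.Omega.EH3.Kf.TwWitt

open CoxeterSystem Cfsg.Agent.ChevalleyStructure.CoxeterGeom Cfsg.Agent.Tits.Roots Cfsg.Agent.Nodes.TypeC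
open Cfsg.Agent.Nodes.Comb Cfsg.Agent.Nodes.Reps Cfsg.Agent.Nodes.WittRoot Cfsg.Agent.Nodes.BNOf
open Cfsg.Agent.Nodes.RGDLib Cfsg.Agent.Nodes.WittAll
open Cfsg.Agent.TitsThree Cfsg.Agent.TitsThree.Siegel Cfsg.Agent.TitsThree.WittFrame
  Cfsg.Agent.TitsThree.WittWeyl Cfsg.Agent.TitsThree.FrameCN
open Cfsg.Agent.Omega.EH3.Kf.TwC
open scoped commutatorElement

variable {F : Type*} [Field F] {V : Type*} [AddCommGroup V] [Module F V] {H : HForm F V} {n : ℕ}
  {Fr : Frame H (Fin n)} {K : Type*} [Group K] (M : Model Fr K)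

/-! ### Relations -/

theorem X_add (a b : Fin n × Bool) (s t : F) : M.X a b (s + t) = M.X a b s * M.X a b t := by
  unfold Model.X
  rw [← map_mul]
  exact congrArg M.φ (Subtype.ext (Fr.X_add a b s t))

theorem X_zero (a b : Fin n × Bool) : M.X a b 0 = 1 := by
  unfold Model.X
  rw [← map_one M.φ]
  exact congrArg M.φ (Subtype.ext (Fr.X_zero a b))

theorem Z_mul (a : Fin n × Bool) (p q : Fr.Adm) : M.Z a (p * q) = M.Z a p * M.Z a q := by
  unfold Model.Z
  rw [← map_mul]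
  exact congrArg M.φ (Subtype.ext (Fr.Z_mul a p q))

theorem Z_one (a : Fin n × Bool) : M.Z a 1 = 1 := by
  unfold Model.Z
  rw [← map_one M.φ]
  exact congrArg M.φ (Subtype.ext (Fr.Z_one a))

theorem X_swap {a b : Fin n × Bool} (h : a.1 ≠ b.1) (t : F) :
    M.X a b t = M.X b a (-(H.ε⁻¹ * Fr.η a * Fr.η b * H.σ t)) := by
  unfold Model.X
  exact congrArg M.φ (Subtype.ext (Fr.X_swap h t))

theorem comm_XX {x y z : Fin n × Bool} (hxy : x.1 ≠ y.1) (hyz : y.1 ≠ z.1) (hxz : x.1 ≠ z.1) (s t : F) :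
    ⁅M.X x y s, M.X (neg y) z t⁆ = M.X x z (s * t) := by
  rw [commutatorElement_def, mul_inv_eq_iff_eq_mul]
  unfold Model.X
  rw [← map_mul, ← map_inv, ← map_mul, ← map_mul]
  exact congrArg M.φ (Subtype.ext (Fr.conj_X_X hxy hyz hxz s t))

theorem comm_same {x y : Fin n × Bool} (hxy : x.1 ≠ y.1) (s t : F) :
    ⁅M.X x y s, M.X x (neg y) t⁆ = M.Z x (Frame.Adm.tr (H.σ s * t * (Fr.η (neg y))⁻¹)) := by
  rw [commutatorElement_def, mul_inv_eq_iff_eq_mul, mul_inv_eq_iff_eq_mul]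
  unfold Model.X Model.Z
  rw [← map_mul, ← map_mul, ← map_mul]
  refine congrArg M.φ (Subtype.ext ?_)
  exact (Fr.X_mul_X_same hxy s t).trans (mul_assoc _ _ _).symm

theorem comm_XZ {x y : Fin n × Bool} (hxy : x.1 ≠ y.1) (t : F) (p : Fr.Adm) :
    ⁅M.X x (neg y) t, M.Z y p⁆ =
      M.Z x (Frame.Adm.smul (H.σ t) p) * M.X x y (-(H.ε⁻¹ * Fr.η y * H.σ p.c * t)) := by
  rw [commutatorElement_def, mul_inv_eq_iff_eq_mul]
  unfold Model.X Model.Z
  rw [← map_mul, ← map_inv, ← map_mul, ← map_mul, ← map_mul]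
  exact congrArg M.φ (Subtype.ext (Fr.conj_X_Z hxy t p))

theorem comm_ZZ {x y : Fin n × Bool} (hxy : x.1 ≠ y.1) (p q : Fr.Adm) :
    ⁅M.Z x p, M.Z y q⁆ = M.X x y (-(Fr.η y * H.σ (H.h p.w q.w))) := by
  rw [commutatorElement_def, mul_inv_eq_iff_eq_mul, mul_inv_eq_iff_eq_mul]
  unfold Model.X Model.Z
  rw [← map_mul, ← map_mul, ← map_mul]
  refine congrArg M.φ (Subtype.ext ?_)
  exact (Fr.Z_mul_Z hxy p q).trans (mul_assoc _ _ _).symm

/-! ### Root groups -/

theorem mem_XK {x : Fin n → ℤ} {a b : Fin n × Bool} (hab : a.1 ≠ b.1) (e : ee x = wt a + wt b) {k : K} :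
    k ∈ Nodes.WittModel.X M x ↔ ∃ t, k = M.X a b t := by
  rw [Nodes.WittModel.mem_X, rg_eq Fr (Or.inl hab) e, PG_ne Fr hab]
  constructor
  · rintro ⟨g, hg, ⟨t, rfl⟩, rfl⟩
    exact ⟨t, rfl⟩
  · rintro ⟨t, rfl⟩
    exact ⟨_, M.hX a b t, ⟨t, rfl⟩, rfl⟩

theorem mem_ZK {x : Fin n → ℤ} {a : Fin n × Bool} (e : ee x = wt a + wt a) {k : K} :
    k ∈ Nodes.WittModel.X M x ↔ ∃ p, k = M.Z a p := by
  rw [Nodes.WittModel.mem_X, rg_eq Fr (Or.inr rfl) e, PG_self]
  constructor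
  · rintro ⟨g, hg, ⟨t, rfl⟩, rfl⟩
    exact ⟨t, rfl⟩
  · rintro ⟨t, rfl⟩
    exact ⟨_, M.hZ a t, ⟨t, rfl⟩, rfl⟩

theorem X_mem {x : Fin n → ℤ} {a b : Fin n × Bool} (hab : a.1 ≠ b.1) (e : ee x = wt a + wt b) (t : F) :
    M.X a b t ∈ Nodes.WittModel.X M x := (mem_XK M hab e).2 ⟨t, rfl⟩

theorem Z_mem {x : Fin n → ℤ} {a : Fin n × Bool} (e : ee x = wt a + wt a) (p : Fr.Adm) :
    M.Z a p ∈ Nodes.WittModel.X M x := (mem_ZK M e).2 ⟨p, rfl⟩

/-- `φ` is injective on the root groups -/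
theorem eq_one_of_ker {p : ℕ} [Fact p.Prime] [CharP F p] [Finite V] (hA : AmbT Fr p M.I) {g : V ≃ₗ[F] V} (hg : g ∈ M.I)
    {a b : Fin n × Bool} (hgx : g ∈ PG Fr a b) (h1 : M.φ ⟨g, hg⟩ = 1) : g = 1 := by
  have : Finite (V ≃ₗ[F] V) := Finite.of_injective (fun g : V ≃ₗ[F] V => (g : V → V)) DFunLike.coe_injective
  have hT : g ∈ Nodes.WittRGD.Tor Fr M.I := by
    refine ⟨hg, fun x => ?_⟩
    obtain ⟨c, hc⟩ := M.ker (Fr.b x) ⟨g, hg⟩ h1
    refine ⟨c, ?_, hc⟩
    rintro rfl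
    rw [zero_smul] at hc
    exact Nodes.WittRGD.b_ne_zero x (g.map_eq_zero_iff.1 hc)
  have hp := Nodes.WittRGD.isPGroup_PG (p := p) (Fr := Fr) a b
  have h2 := (IsPGroup.iff_orderOf.1 hp) ⟨g, hgx⟩
  obtain ⟨k, hk⟩ := h2
  rw [Subgroup.orderOf_mk] at hk
  have h3 : orderOf g ∣ Nat.card (Nodes.WittRGD.Tor Fr M.I) := by
    have := orderOf_dvd_natCard (⟨g, hT⟩ : Nodes.WittRGD.Tor Fr M.I)
    rwa [Subgroup.orderOf_mk] at this
  have h4 : Nat.Coprime (orderOf g) (orderOf g) :=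
    Nat.Coprime.coprime_dvd_left h3 (by rw [hk]; exact (hA.tcop).pow_right k)
  rw [← orderOf_eq_one_iff]
  exact Nat.Coprime.eq_one_of_dvd h4 dvd_rfl

theorem X_eq_one {p : ℕ} [Fact p.Prime] [CharP F p] [Finite V] (hA : AmbT Fr p M.I) {a b : Fin n × Bool} (hab : a.1 ≠ b.1)
    {t : F} (h : M.X a b t = 1) : t = 0 := by
  have h1 := eq_one_of_ker M hA (M.hX a b t) (a := a) (b := b) (by rw [PG_ne Fr hab]; exact ⟨t, rfl⟩) h
  have h2 := X_apply_neg Fr hab t
  rw [h1] at h2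
  have h3 : t • Fr.b a = 0 := by
    have h4 : Fr.b (neg b) = Fr.b (neg b) + t • Fr.b a := h2
    exact (left_eq_add.1 h4)
  exact (smul_eq_zero.1 h3).resolve_right (Nodes.WittRGD.b_ne_zero a)

theorem Z_eq_one {p : ℕ} [Fact p.Prime] [CharP F p] [Finite V] (hA : AmbT Fr p M.I) {a : Fin n × Bool}
    {q : Fr.Adm} (h : M.Z a q = 1) : q = 1 := by
  have h1 := eq_one_of_ker M hA (M.hZ a q) (a := a) (b := a) (by rw [PG_self]; exact ⟨q, rfl⟩) h
  have h2 := Z_apply_neg Fr a q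
  rw [h1] at h2
  have h4 : Fr.b (neg a) = Fr.b (neg a) + Fr.η a • q.w + (q.c * Fr.η a) • Fr.b a := h2
  rw [add_assoc] at h4
  have h5 : Fr.η a • q.w + (q.c * Fr.η a) • Fr.b a = 0 := left_eq_add.1 h4
  have h6 : H.h (Fr.b (neg a)) (Fr.η a • q.w + (q.c * Fr.η a) • Fr.b a) = 0 := by rw [h5, H.zero_right]
  rw [H.add_right, H.smul_right, H.smul_right, Fr.h0 _ _ (Fr.ok_mem q.ok), Fr.hb_neg_self] at h6
  have hη := Fr.η_ne a
  have hc : q.c = 0 := by
    by_contra hne
    have h7 : H.σ (q.c * Fr.η a) ≠ 0 := by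
      rw [map_mul]
      exact mul_ne_zero (by simpa using hne) (by simpa using hη)
    rw [mul_zero, zero_add] at h6
    exact (mul_ne_zero h7 hη) h6
  have hw : q.w = 0 := by
    rw [hc, zero_mul, zero_smul, add_zero] at h5
    exact (smul_eq_zero.1 h5).resolve_left hη
  ext <;> simp [hw, hc]

/-! ### Generation -/

theorem le_comm_XX {a b c : Fin n × Bool} (hab : a.1 ≠ b.1) (hbc : b.1 ≠ c.1) (hac : a.1 ≠ c.1) {x y z : Fin n → ℤ}
    (ex : ee x = wt a + wt b) (ey : ee y = wt (neg b) + wt c) (ez : ee z = wt a + wt c) :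
    Nodes.WittModel.X M z ≤ ⁅Nodes.WittModel.X M x, Nodes.WittModel.X M y⁆ := by
  intro k hk
  obtain ⟨t, rfl⟩ := (mem_XK M hac ez).1 hk
  rw [← mul_one t, ← comm_XX M hab hbc hac t 1]
  exact Subgroup.commutator_mem_commutator (X_mem M hab ex t) (X_mem M (a := neg b) (b := c) hbc ey 1)

theorem le_comm_ZZ (hs : ∀ m : F, ∃ p q : Fr.Adm, H.h p.w q.w = m) {a b : Fin n × Bool} (hab : a.1 ≠ b.1)
    {x y z : Fin n → ℤ} (ex : ee x = wt a + wt a) (ey : ee y = wt b + wt b) (ez : ee z = wt a + wt b) :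
    Nodes.WittModel.X M z ≤ ⁅Nodes.WittModel.X M x, Nodes.WittModel.X M y⁆ := by
  intro k hk
  obtain ⟨t, rfl⟩ := (mem_XK M hab ez).1 hk
  obtain ⟨p, q, hpq⟩ := hs (H.σ (-(t * (Fr.η b)⁻¹)))
  have h1 : -(Fr.η b * H.σ (H.h p.w q.w)) = t := by
    rw [hpq, H.σσ, mul_neg, _root_.neg_neg]
    have := Fr.η_ne b
    field_simp
  rw [← h1, ← comm_ZZ M hab p q]
  exact Subgroup.commutator_mem_commutator (Z_mem M ex p) (Z_mem M ey q)

theorem le_comm_same (htr : ∀ p : Fr.Adm, ∃ m, p = Frame.Adm.tr m) {a b : Fin n × Bool} (hab : a.1 ≠ b.1)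
    {x y z : Fin n → ℤ} (ex : ee x = wt a + wt b) (ey : ee y = wt a + wt (neg b)) (ez : ee z = wt a + wt a) :
    Nodes.WittModel.X M z ≤ ⁅Nodes.WittModel.X M x, Nodes.WittModel.X M y⁆ := by
  intro k hk
  obtain ⟨p, rfl⟩ := (mem_ZK M ez).1 hk
  obtain ⟨m, rfl⟩ := htr p
  have h1 : H.σ 1 * (m * Fr.η (neg b)) * (Fr.η (neg b))⁻¹ = m := by
    rw [map_one, one_mul, mul_assoc, mul_inv_cancel₀ (Fr.η_ne _), mul_one]
  rw [← h1, ← comm_same M hab]
  exact Subgroup.commutator_mem_commutator (X_mem M hab ex _) (X_mem M (b := neg b) hab ey _)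

/-- `X_{a+b} ≤ Q` if `Q` contains `[X_{a-b}, Z_b]` and `Z_a` -/
theorem X_le_of {p0 : Fr.Adm} (hp0 : p0.c ≠ 0) {a b : Fin n × Bool} (hab : a.1 ≠ b.1) {x y z t : Fin n → ℤ}
    (ex : ee x = wt a + wt b) (ey : ee y = wt a + wt (neg b)) (ez : ee z = wt a + wt a)
    (et : ee t = wt b + wt b) {Q : Subgroup K} (h1 : ⁅Nodes.WittModel.X M y, Nodes.WittModel.X M t⁆ ≤ Q)
    (h2 : Nodes.WittModel.X M z ≤ Q) : Nodes.WittModel.X M x ≤ Q := by
  intro k hk
  obtain ⟨s, rfl⟩ := (mem_XK M hab ex).1 hk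
  have hσ : H.σ p0.c ≠ 0 := by simpa using hp0
  set r : F := -(s * H.ε * (Fr.η b)⁻¹ * (H.σ p0.c)⁻¹) with hr
  have h3 : -(H.ε⁻¹ * Fr.η b * H.σ p0.c * r) = s := by
    rw [hr]
    have := Fr.η_ne b
    have := H.ε_ne
    field_simp
  have h4 := comm_XZ M hab r p0
  rw [h3] at h4
  have h5 : M.X a b s = (M.Z a (Frame.Adm.smul (H.σ r) p0))⁻¹ * ⁅M.X a (neg b) r, M.Z b p0⁆ := by
    rw [h4]; group
  rw [h5]
  exact mul_mem (inv_mem (h2 (Z_mem M ez _)))
    (h1 (Subgroup.commutator_mem_commutator (X_mem M (b := neg b) hab ey _) (Z_mem M et _)))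

/-- `Z_a ≤ Q` if `Q` contains `[X_{a-b}, Z_b]` and `X_{a+b}` -/
theorem Z_le_of {a b : Fin n × Bool} (hab : a.1 ≠ b.1) {x y z t : Fin n → ℤ}
    (ex : ee x = wt a + wt b) (ey : ee y = wt a + wt (neg b)) (ez : ee z = wt a + wt a)
    (et : ee t = wt b + wt b) {Q : Subgroup K} (h1 : ⁅Nodes.WittModel.X M y, Nodes.WittModel.X M t⁆ ≤ Q)
    (h2 : Nodes.WittModel.X M x ≤ Q) : Nodes.WittModel.X M z ≤ Q := by
  intro k hk
  obtain ⟨p, rfl⟩ := (mem_ZK M ez).1 hk
  have h4 := comm_XZ M hab 1 p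
  rw [map_one, Frame.Adm.one_smul] at h4
  have h5 : M.Z a p = ⁅M.X a (neg b) 1, M.Z b p⁆ * (M.X a b (-(H.ε⁻¹ * Fr.η b * H.σ p.c * 1)))⁻¹ := by
    rw [h4]; group
  rw [h5]
  exact mul_mem (h1 (Subgroup.commutator_mem_commutator (X_mem M (b := neg b) hab ey _) (Z_mem M et _)))
    (inv_mem (h2 (X_mem M hab ex _)))

/-- symplectic groups over a field with more than two elements -/
theorem Z_le_sp (hw : ∀ p : Fr.Adm, p.w = 0) (hσ : ∀ t, H.σ t = t) (hc : ∀ c, ∃ p : Fr.Adm, p.c = c)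
    {l : F} (hl0 : l ≠ 0) (hl1 : l ≠ 1) {a b : Fin n × Bool} (hab : a.1 ≠ b.1) {y z t : Fin n → ℤ}
    (ey : ee y = wt a + wt (neg b)) (ez : ee z = wt a + wt a) (et : ee t = wt b + wt b) :
    Nodes.WittModel.X M z ≤ ⁅Nodes.WittModel.X M y, Nodes.WittModel.X M t⁆ := by
  intro k hk
  obtain ⟨p, rfl⟩ := (mem_ZK M ez).1 hk
  have hl2 : l * l - l ≠ 0 := by
    have h1 : l * l - l = l * (l - 1) := by ring
    rw [h1]
    exact mul_ne_zero hl0 (sub_ne_zero.2 hl1)
  obtain ⟨q, hq⟩ := hc (p.c / (l * l - l))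
  obtain ⟨q', hq'⟩ := hc (l * q.c)
  have h1 := comm_XZ M hab l q
  have h2 := comm_XZ M hab 1 q'
  rw [map_one, Frame.Adm.one_smul] at h2
  rw [hσ, hσ] at h1
  rw [hσ, hq'] at h2
  have e1 : -(H.ε⁻¹ * Fr.η b * (l * q.c) * 1) = -(H.ε⁻¹ * Fr.η b * q.c * l) := by ring
  rw [e1] at h2
  have e2 : Frame.Adm.smul l q = p * q' := by
    ext
    · rw [hw, hw]
    · rw [Frame.Adm.smul_c, Frame.Adm.mul_c, hw, hw, H.zero_right, mul_zero, sub_zero, hσ, hq', hq]
      field_simp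
      ring
  have h3 : M.Z a p = ⁅M.X a (neg b) l, M.Z b q⁆ * ⁅M.X a (neg b) 1, M.Z b q'⁆⁻¹ := by
    rw [h1, h2, e2, Z_mul]; group
  rw [h3]
  exact mul_mem (Subgroup.commutator_mem_commutator (X_mem M (b := neg b) hab ey _) (Z_mem M et _))
    (inv_mem (Subgroup.commutator_mem_commutator (X_mem M (b := neg b) hab ey _) (Z_mem M et _)))

theorem a2 (i j k : Fin n) (hij : i < j) (hjk : j < k) (x y z : Fin n → ℤ) (ex : ee x = wt (i, true) + wt (j, false))
    (ey : ee y = wt (j, true) + wt (k, false)) (ez : ee z = wt (i, true) + wt (k, false)) :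
    Nodes.WittModel.X M z ≤ ⁅Nodes.WittModel.X M x, Nodes.WittModel.X M y⁆ :=
  le_comm_XX M (a := (i, true)) (b := (j, false)) (c := (k, false)) hij.ne hjk.ne (hij.trans hjk).ne ex ey ez

/-- the groups with `h` not zero on `V0` -/
theorem gd_of_surj (hs : ∀ m : F, ∃ p q : Fr.Adm, H.h p.w q.w = m) : Gd (Nodes.WittModel.X M) where
  a2 := a2 M
  mid i j hij x y z t ex ey ez et := (le_comm_ZZ M hs (a := (i, true)) (b := (j, true)) hij.ne ez et ex).trans
    le_sup_right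
  lng i j hij x y z t ex ey ez et := Z_le_of M (a := (i, true)) (b := (j, true)) hij.ne ex ey ez et
    (le_sup_left.trans le_sup_left)
    ((le_comm_ZZ M hs (a := (i, true)) (b := (j, true)) hij.ne ez et ex).trans le_sup_right)

/-- the unitary groups of even dimension -/
theorem gd_of_tr (htr : ∀ p : Fr.Adm, ∃ m, p = Frame.Adm.tr m) {p0 : Fr.Adm} (hp0 : p0.c ≠ 0) :
    Gd (Nodes.WittModel.X M) where
  a2 := a2 M
  mid i j hij x y z t ex ey ez et := X_le_of M hp0 (a := (i, true)) (b := (j, true)) hij.ne ex ey ez et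
    (le_sup_left.trans le_sup_left)
    ((le_comm_same M htr (a := (i, true)) (b := (j, true)) hij.ne ex ey ez).trans
      (le_sup_right.trans le_sup_left))
  lng i j hij x y z t ex ey ez et :=
    (le_comm_same M htr (a := (i, true)) (b := (j, true)) hij.ne ex ey ez).trans (le_sup_right.trans le_sup_left)

/-- the symplectic groups, `q > 2` -/
theorem gd_of_sp (hw : ∀ p : Fr.Adm, p.w = 0) (hσ : ∀ t, H.σ t = t) (hc : ∀ c, ∃ p : Fr.Adm, p.c = c)
    {l : F} (hl0 : l ≠ 0) (hl1 : l ≠ 1) : Gd (Nodes.WittModel.X M) where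
  a2 := a2 M
  mid i j hij x y z t ex ey ez et := by
    obtain ⟨p0, hp0⟩ := hc 1
    exact X_le_of M (p0 := p0) (by rw [hp0]; exact one_ne_zero) (a := (i, true)) (b := (j, true)) hij.ne ex ey ez et
      (le_sup_left.trans le_sup_left)
      ((Z_le_sp M hw hσ hc hl0 hl1 (a := (i, true)) (b := (j, true)) hij.ne ey ez et).trans
        (le_sup_left.trans le_sup_left))
  lng i j hij x y z t ex ey ez et :=
    (Z_le_sp M hw hσ hc hl0 hl1 (a := (i, true)) (b := (j, true)) hij.ne ey ez et).trans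
      (le_sup_left.trans le_sup_left)

/-! ### Pairs which do not commute -/

section NonAb

variable {p : ℕ} [Fact p.Prime] [CharP F p] [Finite V] (hA : AmbT Fr p M.I)

include hA

theorem X_ne_bot {a b : Fin n × Bool} (hab : a.1 ≠ b.1) {x : Fin n → ℤ} (ex : ee x = wt a + wt b) :
    Nodes.WittModel.X M x ≠ ⊥ := by
  intro h
  have h1 := X_mem M hab ex 1
  rw [h, Subgroup.mem_bot] at h1
  exact one_ne_zero (X_eq_one M hA hab h1)

theorem naz (hs : ∀ m : F, ∃ p q : Fr.Adm, H.h p.w q.w = m) : NAZ (Nodes.WittModel.X M) := by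
  intro i j hij x y ex ey h
  obtain ⟨z, -, ez⟩ := rt_of_ok (cs := (CoxeterMatrix.B n).toCoxeterSystem)
    (show Ok ((i, true) : Fin n × Bool) (j, true) from Or.inl hij.ne)
  have h1 := le_comm_ZZ M hs (a := (i, true)) (b := (j, true)) hij.ne ex ey ez
  rw [h] at h1
  exact X_ne_bot M hA (a := (i, true)) (b := (j, true)) hij.ne ez (le_bot_iff.1 h1)

theorem nax {m : F} (hm : (Frame.Adm.tr m : Fr.Adm) ≠ 1) : NAX (Nodes.WittModel.X M) := by
  intro i j hij x y ex ey h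
  have h1 : H.σ 1 * (m * Fr.η (neg (j, true))) * (Fr.η (neg (j, true)))⁻¹ = m := by
    rw [map_one, one_mul, mul_assoc, mul_inv_cancel₀ (Fr.η_ne _), mul_one]
  have h2 := comm_same M (x := (i, true)) (y := (j, true)) hij.ne 1 (m * Fr.η (neg (j, true)))
  rw [h1] at h2
  have h3 := Subgroup.commutator_mem_commutator
    (X_mem M (a := (i, true)) (b := (j, true)) hij.ne ex 1)
    (X_mem M (a := (i, true)) (b := (j, false)) hij.ne ey (m * Fr.η (neg (j, true))))
  rw [h, Subgroup.mem_bot] at h3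
  exact hm (Z_eq_one M hA (h2.symm.trans h3))

end NonAb

end Cfsg.Agent.Omega.EH3.Kf.TwWitt
end

-- part: Mrg/Omega/EH3/Kf/TwUni
section
prune_inst 0x101061445c62100010000592510000040c0000020000080080a00f02030862408d420000080014100002800000000000020800000000000000000400000101000080020030400000220086800084000000000000000000000000000000000000000000000
set_option linter.all false
open scoped Cfsg.Agent.FastGrp

-- merged: Cfsg.Agent.Mrg.Omega.EH3.Kf.TwRow
section

section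


/-!
# EH3, Lie rows in characteristic 2: the rows of relative type `C_n` (helper94; K6)

* `dead_odd` : unitary groups of odd dimension;
* `short_le`, `long_le` : (F);
* `dead_sp` : symplectic groups, `q > 2`;
* `even_end` : unitary groups of even dimension.
-/

set_option autoImplicit false
set_option linter.unusedVariables false
set_option linter.unusedSectionVars false

namespace Cfsg.Agent.Omega.EH3.Kf.TwRow

open CoxeterSystem Cfsg.Agent.ChevalleyStructure.CoxeterGeom Cfsg.Agent.Tits.Roots Cfsg.Agent.Tits.Core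
  Cfsg.Agent.Tits.RootComb Cfsg.Agent.Nodes.TypeC
open Cfsg.Agent.Nodes.Comb Cfsg.Agent.Nodes.Reps Cfsg.Agent.Nodes.WittRoot Cfsg.Agent.Nodes.BNOf
open Cfsg.Agent.Nodes.StabComb Cfsg.Agent.Nodes.Bruhat Cfsg.Agent.Nodes.LeviDec
open Cfsg.Agent.Nodes.RGDLib Cfsg.Agent.Nodes.WittAll
open Cfsg.Agent.TitsThree Cfsg.Agent.TitsThree.Siegel Cfsg.Agent.TitsThree.WittFrame
  Cfsg.Agent.TitsThree.WittWeyl Cfsg.Agent.TitsThree.FrameCN
open Cfsg.Agent.Omega.EH3.Kf.TwC Cfsg.Agent.Omega.EH3.Kf.TwWitt Cfsg.Agent.Omega.EH3.Kf.Base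
open scoped commutatorElement

/-! ### Conjugate roots -/

section Orb

variable {n : ℕ} {W : Type*} [Group W] {cs : CoxeterSystem (CoxeterMatrix.B n) W}

/-- `x` is conjugate to `α_k` under the other reflections -/
def Orb (cs : CoxeterSystem (CoxeterMatrix.B n) W) (k : Fin n) (x : Fin n → ℤ) : Prop :=
  ∃ v ∈ WJ cs ({k}ᶜ : Set (Fin n)), x = rep cs (isCartan n) v (sr k)

theorem orb_self (k : Fin n) : Orb cs k (sr k) := ⟨1, one_mem _, by rw [map_one]; rfl⟩

theorem Orb.step {k i : Fin n} (hik : i ≠ k) {x y : Fin n → ℤ} (hx : Orb cs k x) {a b : Fin n × Bool}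
    (ex : ee x = wt a + wt b) (ey : ee y = wt (sg i a) + wt (sg i b)) : Orb cs k y := by
  obtain ⟨v, hv, rfl⟩ := hx
  refine ⟨cs.simple i * v, mul_mem (Subgroup.subset_closure ⟨i, hik, rfl⟩) hv, ?_⟩
  rw [rep_mul_apply, rep_simple]
  exact ee_injective (ey.trans (ee_refl_of ex).symm)

theorem ee_add_comm {x : Fin n → ℤ} {a b : Fin n × Bool} (h : ee x = wt a + wt b) : ee x = wt b + wt a := by
  rw [h, add_comm]

/-- the long roots `2 ε_j` are conjugate to the last fundamental root -/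
theorem orb_long {k : Fin n} (hk : (k : ℕ) + 1 = n) (d : ℕ) : ∀ (j : Fin n), (j : ℕ) + d + 1 = n →
    ∀ x, ee x = wt (j, true) + wt (j, true) → Orb cs k x := by
  induction d with
  | zero =>
    intro j hj x ex
    have hjk : j = k := Fin.ext (by omega)
    subst hjk
    have h1 : x = sr j := ee_injective (by rw [ex, ee_sr, bt, nx, dif_neg (by omega)])
    rw [h1]
    exact orb_self j
  | succ d ih =>
    intro j hj x ex
    have hj1 : (j : ℕ) + 1 < n := by omega
    obtain ⟨y, -, ey⟩ := rt_of_ok (cs := cs) (show Ok ((⟨j + 1, hj1⟩, true) : Fin n × Bool) (⟨j + 1, hj1⟩, true) from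
      Or.inr rfl)
    have h1 := ih ⟨j + 1, hj1⟩ (by simp only; omega) y ey
    refine h1.step (i := j) (by rintro rfl; omega) ey ?_
    rw [sg_down hj1, ex]

/-- the roots `ε_0 - ε_j` are conjugate to the first fundamental root -/
theorem orb_sub {k : Fin n} (hk : (k : ℕ) = 0) (d : ℕ) : ∀ (j : Fin n), (j : ℕ) = d + 1 →
    ∀ x, ee x = wt (k, true) + wt (j, false) → Orb cs k x := by
  induction d with
  | zero =>
    intro j hj x ex
    have h1 : x = sr k := by
      refine ee_injective ?_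
      rw [ex, ee_sr, bt, nx, dif_pos (by rw [hk]; exact hj ▸ j.2)]
      congr 3
      exact Fin.ext (by simp only; omega)
    rw [h1]
    exact orb_self k
  | succ d ih =>
    intro j hj x ex
    have hj2 := j.2
    set i : Fin n := ⟨d + 1, by omega⟩ with hi
    have hi1 : (i : ℕ) + 1 < n := by simp only [hi]; omega
    have hji : j = ⟨i + 1, hi1⟩ := Fin.ext (by simp only [hi]; omega)
    have hki : k ≠ i := by
      intro h; have := congrArg Fin.val h; simp only [hi] at this; omega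
    obtain ⟨y, -, ey⟩ := rt_of_ok (cs := cs) (show Ok ((k, true) : Fin n × Bool) (i, false) from Or.inl hki)
    have h1 := ih i rfl y ey
    refine h1.step (i := i) hki.symm ey ?_
    rw [sg_up hi1, sg_of_ne (i := i) (x := (k, true)) hki (by simp only [hi]; omega), ex, hji]

/-- the roots `ε_0 + ε_j` are conjugate to the first fundamental root -/
theorem orb_add {k : Fin n} (hk : (k : ℕ) = 0) (d : ℕ) : ∀ (j : Fin n), 0 < (j : ℕ) → (j : ℕ) + d + 1 = n →
    ∀ x, ee x = wt (k, true) + wt (j, true) → Orb cs k x := by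
  induction d with
  | zero =>
    intro j hj0 hj x ex
    have hkj : k ≠ j := by rintro rfl; omega
    obtain ⟨y, -, ey⟩ := rt_of_ok (cs := cs) (show Ok ((k, true) : Fin n × Bool) (j, false) from Or.inl hkj)
    have h1 := orb_sub (cs := cs) hk (j - 1) j (by omega) y ey
    refine h1.step (i := j) hkj.symm ey ?_
    rw [sg_last (by omega), sg_of_ne (i := j) (x := (k, true)) hkj (by simp only; omega), ex]
    rfl
  | succ d ih =>
    intro j hj0 hj x ex
    have hkj : k ≠ j := by rintro rfl; omega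
    have hj1 : (j : ℕ) + 1 < n := by omega
    obtain ⟨y, -, ey⟩ := rt_of_ok (cs := cs) (show Ok ((k, true) : Fin n × Bool) (⟨j + 1, hj1⟩, true) from
      Or.inl (by intro h; have := congrArg Fin.val h; simp only at this; omega))
    have h1 := ih ⟨j + 1, hj1⟩ (by simp only; omega) (by simp only; omega) y ey
    refine h1.step (i := j) hkj.symm ey ?_
    rw [sg_down hj1, sg_of_ne (i := j) (x := (k, true)) hkj (by simp only; omega), ex]

end Orb

variable {F : Type*} [Field F] {V' : Type*} [AddCommGroup V'] [Module F V'] {H : HForm F V'} {n : ℕ}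
  {Fr : Frame H (Fin n)} {K : Type*} [Group K] (M : Model Fr K)

/-! ### Orders and commuting pairs -/

section Card

variable {p : ℕ} [Fact p.Prime] [CharP F p] [Finite V'] (hA : AmbT Fr p M.I)

include hA

theorem card_short {a b : Fin n × Bool} (hab : a.1 ≠ b.1) {x : Fin n → ℤ} (ex : ee x = wt a + wt b) :
    Nat.card (Nodes.WittModel.X M x) = Nat.card F := by
  symm
  refine Nat.card_congr (Equiv.ofBijective
    (fun t : F => (⟨M.X a b t, X_mem M hab ex t⟩ : Nodes.WittModel.X M x)) ⟨?_, ?_⟩)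
  · intro s t e
    have e1 : M.X a b s = M.X a b t := congrArg Subtype.val e
    have e2 : M.X a b (s - t) = 1 := by
      have e3 : M.X a b (s - t) * M.X a b t = M.X a b s := by rw [← X_add]; congr 1; ring
      rw [e1] at e3
      exact mul_eq_right.1 e3
    exact sub_eq_zero.1 (X_eq_one M hA hab e2)
  · rintro ⟨k, hk⟩
    obtain ⟨t, rfl⟩ := (mem_XK M hab ex).1 hk
    exact ⟨t, rfl⟩

theorem card_long {a : Fin n × Bool} {x : Fin n → ℤ} (ex : ee x = wt a + wt a) :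
    Nat.card (Nodes.WittModel.X M x) = Nat.card Fr.Adm := by
  symm
  refine Nat.card_congr (Equiv.ofBijective
    (fun q : Fr.Adm => (⟨M.Z a q, Z_mem M ex q⟩ : Nodes.WittModel.X M x)) ⟨?_, ?_⟩)
  · intro s t e
    have e1 : M.Z a s = M.Z a t := congrArg Subtype.val e
    have e2 : M.Z a (s * t⁻¹) = 1 := by
      have e3 : M.Z a (s * t⁻¹) * M.Z a t = M.Z a s := by rw [← Z_mul, inv_mul_cancel_right]
      rw [e1] at e3
      exact mul_eq_right.1 e3
    exact mul_inv_eq_one.1 (Z_eq_one M hA e2)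
  · rintro ⟨k, hk⟩
    obtain ⟨t, rfl⟩ := (mem_ZK M ex).1 hk
    exact ⟨t, rfl⟩

end Card

theorem comm_short (htr : ∀ m, (Frame.Adm.tr m : Fr.Adm) = 1) {a b : Fin n × Bool} (hab : a.1 ≠ b.1) {x y : Fin n → ℤ}
    (ex : ee x = wt a + wt b) (ey : ee y = wt a + wt (neg b)) :
    ∀ u ∈ Nodes.WittModel.X M x, ∀ v ∈ Nodes.WittModel.X M y, u * v = v * u := by
  intro u hu v hv
  obtain ⟨s, rfl⟩ := (mem_XK M hab ex).1 hu
  obtain ⟨t, rfl⟩ := (mem_XK M (a := a) (b := neg b) hab ey).1 hv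
  rw [← commutatorElement_eq_one_iff_mul_comm, comm_same M hab, htr, Z_one]

theorem comm_long (hw : ∀ p : Fr.Adm, p.w = 0) {a b : Fin n × Bool} (hab : a.1 ≠ b.1) {x y : Fin n → ℤ}
    (ex : ee x = wt a + wt a) (ey : ee y = wt b + wt b) :
    ∀ u ∈ Nodes.WittModel.X M x, ∀ v ∈ Nodes.WittModel.X M y, u * v = v * u := by
  intro u hu v hv
  obtain ⟨s, rfl⟩ := (mem_ZK M ex).1 hu
  obtain ⟨t, rfl⟩ := (mem_ZK M ey).1 hv
  rw [← commutatorElement_eq_one_iff_mul_comm, _root_.Cfsg.Agent.Omega.EH3.Kf.TwWitt.comm_ZZ M hab, hw, hw, H.zero_left, map_zero, mul_zero,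
    _root_.neg_zero, X_zero]

theorem sup_comm {Y : Type*} [Group Y] {A B C : Subgroup Y} (h1 : ∀ u ∈ A, ∀ v ∈ C, u * v = v * u)
    (h2 : ∀ u ∈ B, ∀ v ∈ C, u * v = v * u) : ∀ u ∈ A ⊔ B, ∀ v ∈ C, u * v = v * u := by
  have h3 : A ⊔ B ≤ Subgroup.centralizer (C : Set Y) :=
    sup_le (fun u hu => Subgroup.mem_centralizer_iff.2 fun v hv => (h1 u hu v hv).symm)
      (fun u hu => Subgroup.mem_centralizer_iff.2 fun v hv => (h2 u hu v hv).symm)
  exact fun u hu v hv => (Subgroup.mem_centralizer_iff.1 (h3 hu) v hv).symm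

/-! ### Rows -/

section Rows

variable {W : Type*} [Group W] {cs : CoxeterSystem (CoxeterMatrix.B n) W}
  {V : Type*} [AddCommGroup V] [Module (ZMod 2) V] {T : Subgroup K} {nn : Fin n → K}
  {ρ : K →* (V ≃ₗ[ZMod 2] V)} {b : LinearMap.BilinForm (ZMod 2) V} {a : V}
  {D : Submodule (ZMod 2) V} {X0 : Subgroup K} {w : ℕ}
  (R : Row cs (isCartan n) T nn (Nodes.WittModel.X M) ρ b a D X0 w)
  [CharP F 2] [Finite V'] (hA : AmbT Fr 2 M.I) [Finite K]

include R

omit [CharP F 2] [Finite V'] in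
theorem eq_VJ (G : Gd (Nodes.WittModel.X M)) : X0 = VJ cs (isCartan n) (Nodes.WittModel.X M) (Mv ρ nn a)ᶜ := by
  have : Finite W := finite_W cs
  exact Cov.eq_VJ R (fun u hu => ThmA.thmA R.core le_rfl u hu) fun x hx h0 hs => G.gen cs hx h0 hs

include hA

/-- (F), first node -/
theorem short_le (hX : X0 = VJ cs (isCartan n) (Nodes.WittModel.X M) (Mv ρ nn a)ᶜ) {k : Fin n} (hk : (k : ℕ) = 0)
    (hK : Mv ρ nn a = {k}) (hn : 1 < n) (htr : ∀ m, (Frame.Adm.tr m : Fr.Adm) = 1) {m : ℕ}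
    (hc : Nat.card F = 2 ^ m) : 2 * m ≤ 3 := by
  have : Fact (Nat.Prime 2) := ⟨Nat.prime_two⟩
  have : Finite W := finite_W cs
  set j : Fin n := ⟨1, hn⟩ with hj
  have hkj : k < j := by rw [Fin.lt_def]; simp [hk, hj]
  obtain ⟨x, hx, ex⟩ := exists_root cs (a := (k, true)) (b := (j, false)) (Or.inl hkj.ne) rfl hkj.le
  obtain ⟨y, hy, ey⟩ := exists_root cs (a := (k, true)) (b := (j, true)) (Or.inl hkj.ne) rfl hkj.le
  have hkM : k ∈ Mv ρ nn a := by rw [hK]; rfl
  have enx : ee (-x) = wt (j, true) + wt (k, false) := by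
    rw [ee_neg, ex, neg_add, ← wt_ng, ← wt_ng, add_comm]; rfl
  have key := Orth.sum_le_three R [x, y] (fun _ => m) ?_ ?_ ?_ ?_
  · simp only [List.map_cons, List.map_nil, List.sum_cons, List.sum_nil] at key
    omega
  · intro z hz
    rw [hK]
    simp only [List.mem_cons, List.not_mem_nil, or_false] at hz
    rcases hz with rfl | rfl
    · obtain ⟨v, hv, e⟩ := orb_sub (cs := cs) hk 0 j rfl z ex
      exact ⟨v, hv, k, rfl, e⟩
    · obtain ⟨v, hv, e⟩ := orb_add (cs := cs) hk (n - 2) j (by simp [hj]) (by simp only [hj]; omega) z ey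
      exact ⟨v, hv, k, rfl, e⟩
  · intro z hz
    simp only [List.mem_cons, List.not_mem_nil, or_false] at hz
    rw [hX]
    rcases hz with rfl | rfl
    · exact X_le_VJ hx hkM (pos_sub ex le_rfl hkj)
    · exact X_le_VJ hy hkM (pos_add ey le_rfl)
  · intro z hz
    simp only [List.mem_cons, List.not_mem_nil, or_false] at hz
    rcases hz with rfl | rfl
    · rw [card_short M hA (a := (k, true)) (b := (j, false)) hkj.ne ex, hc]
    · rw [card_short M hA (a := (k, true)) (b := (j, true)) hkj.ne ey, hc]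
  · rw [List.pairwise_pair]
    refine sup_comm ?_ ?_
    · exact comm_short M htr (a := (k, true)) (b := (j, false)) hkj.ne ex ey
    · exact comm_short M htr (a := (j, true)) (b := (k, false)) hkj.ne' enx (ee_add_comm ey)

/-- (F), last node -/
theorem long_le (hX : X0 = VJ cs (isCartan n) (Nodes.WittModel.X M) (Mv ρ nn a)ᶜ) {k : Fin n} (hk : (k : ℕ) + 1 = n)
    (hK : Mv ρ nn a = {k}) (hw : ∀ p : Fr.Adm, p.w = 0) {m : ℕ} (hc : Nat.card Fr.Adm = 2 ^ m) : n * m ≤ 3 := by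
  have : Fact (Nat.Prime 2) := ⟨Nat.prime_two⟩
  have : Finite W := finite_W cs
  have hkM : k ∈ Mv ρ nn a := by rw [hK]; rfl
  choose x hx ex using fun j : Fin n => exists_root cs (a := (j, true)) (b := (j, true)) (Or.inr rfl) rfl le_rfl
  have key := Orth.sum_le_three R (List.ofFn x) (fun _ => m) ?_ ?_ ?_ ?_
  · rw [List.map_ofFn, List.sum_ofFn] at key
    simpa only [_root_.ge_iff_le, _root_.Function.comp_apply, _root_.Finset.sum_const, _root_.Finset.card_univ, _root_.Fintype.card_fin, _root_.smul_eq_mul] using key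
  · intro z hz
    rw [List.mem_ofFn] at hz
    obtain ⟨j, rfl⟩ := hz
    obtain ⟨v, hv, e⟩ := orb_long (cs := cs) hk (n - 1 - j) j (by have := j.2; omega) (x j) (ex j)
    exact ⟨v, by rw [hK]; exact hv, k, hkM, e⟩
  · intro z hz
    rw [List.mem_ofFn] at hz
    obtain ⟨j, rfl⟩ := hz
    rw [hX]
    exact X_le_VJ (hx j) hkM (pos_add (ex j) (by rw [Fin.le_def]; have := j.2; omega))
  · intro z hz
    rw [List.mem_ofFn] at hz
    obtain ⟨j, rfl⟩ := hz
    rw [card_long M hA (ex j), hc]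
  · rw [List.pairwise_ofFn]
    intro i j hij
    refine sup_comm (comm_long M hw (a := (i, true)) (b := (j, true)) hij.ne (ex i) (ex j))
      (comm_long M hw (a := (i, false)) (b := (j, true)) hij.ne ?_ (ex j))
    rw [ee_neg, ex i, neg_add, ← wt_ng]
    rfl

/-- the unitary groups of even dimension -/
theorem even_le (hn : 1 < n) (htr : ∀ p : Fr.Adm, ∃ m, p = Frame.Adm.tr m) {p0 : Fr.Adm} (hp0 : p0.c ≠ 0)
    {m : ℕ} (hm : 0 < m) (hc' : Nat.card Fr.Adm = 2 ^ m) :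
    m = 1 ∧ n ≤ 3 ∧ ∃ k : Fin n, (k : ℕ) + 1 = n ∧ Mv ρ nn a = {k} ∧
      X0 = VJ cs (isCartan n) (Nodes.WittModel.X M) {k}ᶜ := by
  have : Fact (Nat.Prime 2) := ⟨Nat.prime_two⟩
  have : Finite W := finite_W cs
  have hw : ∀ p : Fr.Adm, p.w = 0 := by
    intro p
    obtain ⟨m, rfl⟩ := htr p
    rfl
  have hX := eq_VJ M R (gd_of_tr M htr hp0)
  obtain ⟨m', hm'⟩ := htr p0
  have hm1 : (Frame.Adm.tr m' : Fr.Adm) ≠ 1 := by
    rw [← hm']
    rintro rfl
    exact hp0 rfl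
  obtain ⟨k, hk⟩ := mv_nonempty R
  have h1 := mv_nax R hX (nax M hA hm1) hk
  have hK : Mv ρ nn a = {k} := by
    ext j
    refine ⟨fun hj => ?_, by rintro rfl; exact hk⟩
    have h2 := mv_nax R hX (nax M hA hm1) hj
    exact Fin.ext (by omega)
  have h3 := long_le M R hA hX h1 hK hw hc'
  have h4 : m = 1 := by nlinarith only [hn, hm, h3]
  subst h4
  exact ⟨rfl, by omega, k, h1, hK, by rw [← hK]; exact hX⟩

end Rows

end Cfsg.Agent.Omega.EH3.Kf.TwRow

end

section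


/-!
# EH3, Lie rows in characteristic 2: `Ω⁻` (helper94; K6)

`dead_minus` : a frame of orthogonal type (`tr = 1`, `h` onto on the anisotropic part), `n ≥ 3`: there is no `Row`.
The moved node is the first one, `q = 2` by (F), and the trilinear form vanishes.
-/

set_option autoImplicit false
set_option linter.unusedVariables false
set_option linter.unusedSectionVars false

namespace Cfsg.Agent.Omega.EH3.Kf.TwMinus

open CoxeterSystem Cfsg.Agent.ChevalleyStructure.CoxeterGeom Cfsg.Agent.Tits.Roots Cfsg.Agent.Tits.Core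
  Cfsg.Agent.Tits.RootComb Cfsg.Agent.Nodes.TypeC
open Cfsg.Agent.Nodes.Comb Cfsg.Agent.Nodes.Reps Cfsg.Agent.Nodes.WittRoot Cfsg.Agent.Nodes.BNOf
open Cfsg.Agent.Nodes.StabComb Cfsg.Agent.Nodes.Bruhat Cfsg.Agent.Nodes.LeviDec
open Cfsg.Agent.Nodes.RGDLib Cfsg.Agent.Nodes.WittAll
open Cfsg.Agent.TitsThree Cfsg.Agent.TitsThree.Siegel Cfsg.Agent.TitsThree.WittFrame
  Cfsg.Agent.TitsThree.WittWeyl Cfsg.Agent.TitsThree.FrameCN
open Cfsg.Agent.Omega.EH3.Kf.TwC Cfsg.Agent.Omega.EH3.Kf.TwWitt Cfsg.Agent.Omega.EH3.Kf.TwRow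
  Cfsg.Agent.Omega.EH3.Kf.Base Cfsg.Agent.Omega.EH3.Kf.Tri
open scoped commutatorElement

variable {F : Type*} [Field F] {V' : Type*} [AddCommGroup V'] [Module F V'] {H : HForm F V'} {n : ℕ}
  {Fr : Frame H (Fin n)} {K : Type*} [Group K] (M : Model Fr K)
  {W : Type*} [Group W] {cs : CoxeterSystem (CoxeterMatrix.B n) W}
  {V : Type*} [AddCommGroup V] [Module (ZMod 2) V] {T : Subgroup K} {nn : Fin n → K}
  {ρ : K →* (V ≃ₗ[ZMod 2] V)} {b : LinearMap.BilinForm (ZMod 2) V} {a : V}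
  {D : Submodule (ZMod 2) V} {X0 : Subgroup K} {w : ℕ}
  (R : Row cs (isCartan n) T nn (Nodes.WittModel.X M) ρ b a D X0 w) [Finite K]
  (hX : X0 = VJ cs (isCartan n) (Nodes.WittModel.X M) (Mv ρ nn a)ᶜ) {k : Fin n} (hk : (k : ℕ) = 0)
  (hK : Mv ρ nn a = {k})

include R hX hk hK

theorem lt_of_ne {β : Fin n × Bool} (hβ : β.1 ≠ k) : k < β.1 := by
  rw [Fin.lt_def]
  have : (β.1 : ℕ) ≠ k := fun h => hβ (Fin.ext h)
  omega

theorem x_mem {β : Fin n × Bool} (hβ : β.1 ≠ k) (t : F) : M.X (k, true) β t ∈ X0 := by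
  have hlt := lt_of_ne M R hX hk hK hβ
  obtain ⟨r, hr, er⟩ := exists_root cs (a := (k, true)) (b := β) (Or.inl hlt.ne) rfl hlt.le
  rw [hX]
  have hkM : k ∈ Mv ρ nn a := by rw [hK]; rfl
  have h1 := coef er k
  simp only [le_refl, if_true, if_neg (not_le.2 hlt)] at h1
  simp only [sn, if_true] at h1
  refine X_le_VJ hr hkM ?_ (X_mem M hlt.ne er t)
  split_ifs at h1 <;> omega

theorem z_mem (p : Fr.Adm) : M.Z (k, true) p ∈ X0 := by
  obtain ⟨r, hr, er⟩ := exists_root cs (a := (k, true)) (b := (k, true)) (Or.inr rfl) rfl le_rfl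
  rw [hX]
  have hkM : k ∈ Mv ρ nn a := by rw [hK]; rfl
  exact X_le_VJ hr hkM (pos_add er le_rfl) (Z_mem M er p)

/-- `Z_β` fixes `a` -/
theorem z_fix {β : Fin n × Bool} (hβ : β.1 ≠ k) (p : Fr.Adm) : ρ (M.Z β p) a = a := by
  have : Finite W := finite_W cs
  have hlt := lt_of_ne M R hX hk hK hβ
  obtain ⟨r, hr, er⟩ := rt_of_ok (cs := cs) (show Ok β β from Or.inr rfl)
  have h1 := coef er k
  simp only [if_neg (not_le.2 hlt), add_zero] at h1
  refine Opp.PJ_fix R (LJ_le_PJ (X_le_LJ (x := r) ⟨hr, fun j hj => ?_⟩ (Z_mem M er p)))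
  have hj : j = k := by
    by_contra hne
    apply hj
    rw [hK]
    exact hne
  rw [hj]
  split_ifs at h1 <;> omega

/-! ### The conjugates -/

theorem conj_x {β γ : Fin n × Bool} (hβ : β.1 ≠ k) (hγ : γ ≠ neg β) (p : Fr.Adm) (t : F) :
    M.Z β p * M.X (k, true) γ t * (M.Z β p)⁻¹ = M.X (k, true) γ t := by
  have h1 : ((k, true) : Fin n × Bool) ≠ neg β := by
    intro h; exact hβ (congrArg Prod.fst h).symm
  have h2 := (M.commute_ZX h1 hγ p t).eq
  rw [h2]; group

theorem conj_z {β : Fin n × Bool} (hβ : β.1 ≠ k) (p q : Fr.Adm) :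
    ∃ s : F, M.Z β p * M.Z (k, true) q * (M.Z β p)⁻¹ = M.X (k, true) β s * M.Z (k, true) q := by
  have h1 := _root_.Cfsg.Agent.Omega.EH3.Kf.TwWitt.comm_ZZ M (x := β) (y := (k, true)) hβ p q
  refine ⟨-(H.ε⁻¹ * Fr.η β * Fr.η (k, true) * H.σ (-(Fr.η (k, true) * H.σ (H.h p.w q.w)))), ?_⟩
  rw [← X_swap M (a := β) (b := (k, true)) hβ, ← h1, commutatorElement_def]; group

/-- the value of the parameter -/
theorem conj_z' (hs : ∀ m : F, ∃ p q : Fr.Adm, H.h p.w q.w = m) {β : Fin n × Bool} (hβ : β.1 ≠ k) (s : F) :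
    ∃ p q : Fr.Adm, M.Z β p * M.Z (k, true) q * (M.Z β p)⁻¹ = M.X (k, true) β s * M.Z (k, true) q := by
  set t : F := -(H.ε⁻¹ * Fr.η (k, true) * Fr.η β * H.σ s) with ht
  obtain ⟨p, q, hpq⟩ := hs (H.σ (-(t * (Fr.η (k, true))⁻¹)))
  have h1 := _root_.Cfsg.Agent.Omega.EH3.Kf.TwWitt.comm_ZZ M (x := β) (y := (k, true)) hβ p q
  have h2 : -(Fr.η (k, true) * H.σ (H.h p.w q.w)) = t := by
    rw [hpq, H.σσ, mul_neg, _root_.neg_neg]
    have := Fr.η_ne (k, true)
    field_simp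
  rw [h2, ht, ← X_swap M (a := (k, true)) (b := β) (Ne.symm hβ)] at h1
  exact ⟨p, q, by rw [← h1, commutatorElement_def]; group⟩

theorem conj_x_neg {β : Fin n × Bool} (hβ : β.1 ≠ k) (p : Fr.Adm) :
    ∃ s : F, M.Z β p * M.X (k, true) (neg β) 1 * (M.Z β p)⁻¹ =
      (M.Z (k, true) p * M.X (k, true) β s)⁻¹ * M.X (k, true) (neg β) 1 := by
  have h1 := _root_.Cfsg.Agent.Omega.EH3.Kf.TwWitt.comm_XZ M (x := (k, true)) (y := β) (Ne.symm hβ) 1 p
  rw [map_one, Frame.Adm.one_smul] at h1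
  exact ⟨_, by rw [← h1, commutatorElement_def]; group⟩

theorem inv_eq {x : K} (hx : x ∈ X0) : x⁻¹ = x := inv_eq_of_mul_eq_one_left (R.sq x hx)

/-! ### The trilinear form vanishes -/

section Zero

variable (hF2 : ∀ t : F, t = 0 ∨ t = 1) {c : V} (hc : b a c = 1)

/-- the third slot kills -/
theorem tr_a (hs : ∀ m : F, ∃ p q : Fr.Adm, H.h p.w q.w = m) (hc : b a c = 1) {β : Fin n × Bool} (hβ : β.1 ≠ k)
    {α γ : Fin n × Bool} (hα : α.1 ≠ k) (hγ : γ.1 ≠ k) (hαβ : α ≠ neg β) (hγβ : γ ≠ neg β) (s t u : F) :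
    tr ρ b c (M.X (k, true) α s) (M.X (k, true) γ t) (M.X (k, true) β u) = 0 := by
  obtain ⟨p, q, h1⟩ := conj_z' M R hX hk hK hs hβ u
  have hg := z_fix M R hX hk hK hβ p
  have m1 := x_mem M R hX hk hK hα s
  have m2 := x_mem M R hX hk hK hγ t
  have m3 := x_mem M R hX hk hK hβ u
  have m4 := z_mem M R hX hk hK q
  have h2 := tr_conj R hc hg m1 m2 m4
  rw [conj_x M R hX hk hK hβ hαβ, conj_x M R hX hk hK hβ hγβ, h1, tr_add3 R m1 m2 m3 m4] at h2
  exact add_eq_right.1 h2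

theorem xone {α : Fin n × Bool} {s : F} (hF2 : ∀ t : F, t = 0 ∨ t = 1) :
    M.X (k, true) α s = 1 ∨ M.X (k, true) α s = M.X (k, true) α 1 := by
  rcases hF2 s with rfl | rfl
  · exact Or.inl (X_zero M _ _)
  · exact Or.inr rfl

theorem tr_one2 (x t : K) : tr ρ b c x 1 t = 0 := by
  unfold tr
  rw [dl_one, map_zero, LinearMap.zero_apply]

theorem tr_one3 (x y : K) : tr ρ b c x y 1 = 0 := by
  unfold tr
  rw [dl_one, map_zero]

/-- (a') three root elements -/
theorem tr_xxx (hs : ∀ m : F, ∃ p q : Fr.Adm, H.h p.w q.w = m) (hF2 : ∀ t : F, t = 0 ∨ t = 1) (hc : b a c = 1)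
    {α β γ : Fin n × Bool} (hα : α.1 ≠ k) (hβ : β.1 ≠ k) (hγ : γ.1 ≠ k) :
    tr ρ b c (M.X (k, true) α 1) (M.X (k, true) β 1) (M.X (k, true) γ 1) = 0 := by
  have m1 := x_mem M R hX hk hK hα 1
  have m2 := x_mem M R hX hk hK hβ 1
  have m3 := x_mem M R hX hk hK hγ 1
  by_cases e1 : α = β
  · subst e1; exact tr_self R m1 c _
  by_cases e2 : β = γ
  · subst e2; exact tr_self' R m2 _ c
  by_cases e3 : α = γ
  · subst e3
    rw [tr_swap23 R m1 m2 m1 c]
    exact tr_self R m1 c _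
  by_cases e4 : α = neg γ
  · -- slot `β`
    rw [tr_swap23 R m1 m2 m3 c]
    refine tr_a M R hX hk hK hs hc hβ hα hγ ?_ ?_ 1 1 1
    · rintro rfl
      apply e2
      have := congrArg neg e4
      rwa [neg_neg, neg_neg] at this
    · rintro rfl
      rw [neg_neg] at e4
      exact e1 e4
  by_cases e5 : β = neg γ
  · -- slot `α`
    have h1 : tr ρ b c (M.X (k, true) α 1) (M.X (k, true) β 1) (M.X (k, true) γ 1) =
        tr ρ b c (M.X (k, true) β 1) (M.X (k, true) γ 1) (M.X (k, true) α 1) := by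
      rw [tr_swap R m1 m2, tr_swap23 R m2 m1 m3]
    rw [h1]
    refine tr_a M R hX hk hK hs hc hα hβ hγ ?_ ?_ 1 1 1
    · rintro rfl
      apply e3
      have := congrArg neg e5
      rwa [neg_neg, neg_neg] at this
    · rintro rfl
      rw [neg_neg] at e5
      exact e1 e5.symm
  · exact tr_a M R hX hk hK hs hc hγ hα hβ e4 e5 1 1 1

/-- (b) -/
theorem tr_zxx (hn : 3 ≤ n) (hs : ∀ m : F, ∃ p q : Fr.Adm, H.h p.w q.w = m) (hF2 : ∀ t : F, t = 0 ∨ t = 1)
    (hc : b a c = 1) {α β : Fin n × Bool} (hα : α.1 ≠ k) (hβ : β.1 ≠ k) (p : Fr.Adm) :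
    tr ρ b c (M.Z (k, true) p) (M.X (k, true) α 1) (M.X (k, true) β 1) = 0 := by
  obtain ⟨γ, hγ, h1, h2⟩ : ∃ γ : Fin n × Bool, γ.1 ≠ k ∧ α ≠ neg γ ∧ β ≠ neg γ := by
    have e1 : (⟨1, by omega⟩ : Fin n) ≠ k := by intro h; have := congrArg Fin.val h; simp only at this; omega
    have e2 : (⟨2, by omega⟩ : Fin n) ≠ k := by intro h; have := congrArg Fin.val h; simp only at this; omega
    have e3 : (⟨1, by omega⟩ : Fin n) ≠ ⟨2, by omega⟩ := by intro h; have := congrArg Fin.val h; simp at this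
    by_cases h1 : α.1 = ⟨1, by omega⟩
    · by_cases h2 : β.1 = ⟨1, by omega⟩
      · exact ⟨(⟨2, by omega⟩, true), e2, fun h => e3 (h1 ▸ congrArg Prod.fst h), fun h => e3 (h2 ▸ congrArg Prod.fst h)⟩
      · -- `β` may have index 2
        refine ⟨(⟨1, by omega⟩, α.2), e1, ?_, fun h => h2 (congrArg Prod.fst h)⟩
        intro h
        have h3 : α.2 = !α.2 := congrArg Prod.snd h
        cases h4 : α.2 <;> rw [h4] at h3 <;> exact absurd h3 (by decide)
    · by_cases h2 : β.1 = ⟨1, by omega⟩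
      · refine ⟨(⟨1, by omega⟩, β.2), e1, fun h => h1 (congrArg Prod.fst h), ?_⟩
        intro h
        have h3 : β.2 = !β.2 := congrArg Prod.snd h
        cases h4 : β.2 <;> rw [h4] at h3 <;> exact absurd h3 (by decide)
      · exact ⟨(⟨1, by omega⟩, true), e1, fun h => h1 (congrArg Prod.fst h), fun h => h2 (congrArg Prod.fst h)⟩
  have hnγ : (neg γ).1 ≠ k := hγ
  obtain ⟨s, h3⟩ := conj_x_neg M R hX hk hK hγ p
  have hg := z_fix M R hX hk hK hγ p
  have m1 := x_mem M R hX hk hK hα 1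
  have m2 := x_mem M R hX hk hK hβ 1
  have m3 := x_mem M R hX hk hK hnγ 1
  have m4 := z_mem M R hX hk hK p
  have m5 := x_mem M R hX hk hK hγ s
  have h4 := tr_conj R hc hg m3 m1 m2
  rw [conj_x M R hX hk hK hγ h1, conj_x M R hX hk hK hγ h2, h3, inv_eq M R hX hk hK (mul_mem m4 m5),
    tr_add1 R (mul_mem m4 m5) m3 m1 m2, tr_add1 R m4 m5 m1 m2] at h4
  have h5 : tr ρ b c (M.X (k, true) γ s) (M.X (k, true) α 1) (M.X (k, true) β 1) = 0 := by
    rcases xone M R hX hk hK (α := γ) (s := s) hF2 with h6 | h6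
    · rw [h6]; exact tr_one1 R c _ _
    · rw [h6]; exact tr_xxx M R hX hk hK hs hF2 hc hγ hα hβ
  rw [h5, add_zero] at h4
  exact add_eq_right.1 h4

/-- (c) -/
theorem tr_zzx (hn : 3 ≤ n) (hs : ∀ m : F, ∃ p q : Fr.Adm, H.h p.w q.w = m) (hF2 : ∀ t : F, t = 0 ∨ t = 1)
    (hc : b a c = 1) {α : Fin n × Bool} (hα : α.1 ≠ k) (p q : Fr.Adm) :
    tr ρ b c (M.Z (k, true) p) (M.Z (k, true) q) (M.X (k, true) α 1) = 0 := by
  have hnα : (neg α).1 ≠ k := hα
  obtain ⟨s, h3⟩ := conj_x_neg M R hX hk hK hα p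
  obtain ⟨t, h4⟩ := conj_z M R hX hk hK hα p q
  have hg := z_fix M R hX hk hK hα p
  have m1 := x_mem M R hX hk hK hα 1
  have m3 := x_mem M R hX hk hK hnα 1
  have m4 := z_mem M R hX hk hK p
  have m5 := x_mem M R hX hk hK hα s
  have m6 := z_mem M R hX hk hK q
  have m7 := x_mem M R hX hk hK hα t
  have hne : α ≠ neg α := by
    intro h
    have h3 : α.2 = !α.2 := congrArg Prod.snd h
    cases h4 : α.2 <;> rw [h4] at h3 <;> exact absurd h3 (by decide)
  have h5 := tr_conj R hc hg m3 m6 m1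
  have k1 : ∀ x ∈ X0, ∀ u : F, tr ρ b c x (M.X (k, true) α u) (M.X (k, true) α 1) = 0 := by
    intro x hx u
    rcases xone M R hX hk hK (α := α) (s := u) hF2 with h6 | h6
    · rw [h6]; exact tr_one2 M R hX hk hK _ _
    · rw [h6]; exact tr_self' R m1 x c
  have k2 : ∀ x ∈ X0, ∀ u : F, tr ρ b c (M.X (k, true) α u) x (M.X (k, true) α 1) = 0 := by
    intro x hx u
    rw [tr_swap R (x_mem M R hX hk hK hα u) hx]
    exact k1 x hx u
  rw [conj_x M R hX hk hK hα hne, h4, h3, inv_eq M R hX hk hK (mul_mem m4 m5),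
    tr_add1 R (mul_mem m4 m5) m3 (mul_mem m7 m6) m1, tr_add1 R m4 m5 (mul_mem m7 m6) m1,
    tr_add2 R m4 m7 m6 m1, k1 _ m4 t, k2 _ (mul_mem m7 m6) s, tr_add2 R m3 m7 m6 m1, k1 _ m3 t] at h5
  rw [zero_add, add_zero, zero_add] at h5
  exact add_eq_right.1 h5

/-- (d) -/
theorem tr_zzz (hd : ∀ p q r : Fr.Adm, p = 1 ∨ q = 1 ∨ p = q ∨ p = r ∨ q = r ∨ r = 1 ∨ r = p * q)
    (p q r : Fr.Adm) : tr ρ b c (M.Z (k, true) p) (M.Z (k, true) q) (M.Z (k, true) r) = 0 := by
  have m1 := z_mem M R hX hk hK p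
  have m2 := z_mem M R hX hk hK q
  have m3 := z_mem M R hX hk hK r
  rcases hd p q r with h | h | h | h | h | h | h
  · subst h; rw [Z_one]; exact tr_one1 R c _ _
  · subst h; rw [Z_one]; exact tr_one2 M R hX hk hK _ _
  · subst h; exact tr_self R m1 c _
  · subst h
    rw [tr_swap23 R m1 m2 m1 c]
    exact tr_self R m1 c _
  · subst h; exact tr_self' R m2 _ c
  · subst h; rw [Z_one]; exact tr_one3 M R hX hk hK _ _
  · subst h
    rw [Z_mul, tr_add3 R m1 m2 m1 m2, tr_swap23 R m1 m2 m1 c, tr_self R m1 c, tr_self' R m2, add_zero]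

/-- induction over `X0` -/
theorem ind {P : K → Prop} (hF2 : ∀ t : F, t = 0 ∨ t = 1) (h1 : P 1) (hmul : ∀ u ∈ X0, ∀ v ∈ X0, P u → P v → P (u * v))
    (hx : ∀ α : Fin n × Bool, α.1 ≠ k → P (M.X (k, true) α 1)) (hz : ∀ p, P (M.Z (k, true) p)) : ∀ u ∈ X0, P u := by
  have : Finite W := finite_W cs
  intro u hu
  have hu' : u ∈ RGD.Sup (Nodes.WittModel.X M) (NotJ cs (isCartan n) (Mv ρ nn a)ᶜ) := by rw [hX] at hu; exact hu
  have hle : ∀ r ∈ NotJ cs (isCartan n) (Mv ρ nn a)ᶜ, Nodes.WittModel.X M r ≤ X0 := by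
    intro r hr
    rw [hX]
    exact RGD.le_Sup hr
  have key : u ∈ X0 ∧ P u := by
    unfold RGD.Sup at hu'
    refine Subgroup.iSup_induction (C := fun u => u ∈ X0 ∧ P u) _ hu' ?_ ⟨one_mem _, h1⟩
      (fun x y hx hy => ⟨mul_mem hx.1 hy.1, hmul x hx.1 y hy.1 hx.2 hy.2⟩)
    rintro ⟨r, hr⟩ g hg
    refine ⟨hle r hr hg, ?_⟩
    obtain ⟨hr1, h0, i, hi, hri⟩ := hr
    have hik : i = k := by
      by_contra hne
      apply hi
      intro h2
      rw [hK] at h2
      exact hne h2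
    subst hik
    obtain ⟨⟨j, s⟩, β, hs1, hij, hok, e⟩ := exists_pos hr1 h0
    simp only at hs1 hij
    subst hs1
    have hj : j = i := by
      by_contra hne
      have h3 := coef e i
      have h4 : ¬ j ≤ i := by
        intro h5
        exact hne (le_antisymm h5 (by rw [Fin.le_def]; omega))
      have h5 : ¬ β.1 ≤ i := fun h6 => h4 (hij.trans h6)
      simp only [h4, h5, if_false, add_zero] at h3
      split_ifs at h3 <;> omega
    subst hj
    rcases hok with h4 | h4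
    · have hβ : β.1 ≠ j := fun h5 => h4 h5.symm
      obtain ⟨t, rfl⟩ := (mem_XK M h4 e).1 hg
      rcases hF2 t with rfl | rfl
      · rw [X_zero]; exact h1
      · exact hx β hβ
    · subst h4
      obtain ⟨p, rfl⟩ := (mem_ZK M e).1 hg
      exact hz p
  exact key.2

theorem tr_zero (hn : 3 ≤ n) (hs : ∀ m : F, ∃ p q : Fr.Adm, H.h p.w q.w = m) (hF2 : ∀ t : F, t = 0 ∨ t = 1)
    (hd : ∀ p q r : Fr.Adm, p = 1 ∨ q = 1 ∨ p = q ∨ p = r ∨ q = r ∨ r = 1 ∨ r = p * q)
    (hc : b a c = 1) : ∀ x ∈ X0, ∀ y ∈ X0, ∀ t ∈ X0, tr ρ b c x y t = 0 := by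
  have mx := fun (α : Fin n × Bool) (hα : α.1 ≠ k) => x_mem M R hX hk hK hα 1
  have mz := z_mem M R hX hk hK
  have zxz : ∀ (p q : Fr.Adm) (α : Fin n × Bool) (hα : α.1 ≠ k),
      tr ρ b c (M.Z (k, true) p) (M.X (k, true) α 1) (M.Z (k, true) q) = 0 := by
    intro p q α hα
    rw [tr_swap23 R (mz p) (mx α hα) (mz q)]
    exact tr_zzx M R hX hk hK hn hs hF2 hc hα p q
  have xzz : ∀ (p q : Fr.Adm) (α : Fin n × Bool) (hα : α.1 ≠ k),
      tr ρ b c (M.X (k, true) α 1) (M.Z (k, true) p) (M.Z (k, true) q) = 0 := by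
    intro p q α hα
    rw [tr_swap R (mx α hα) (mz p)]
    exact zxz p q α hα
  have xzx : ∀ (p : Fr.Adm) (α β : Fin n × Bool) (hα : α.1 ≠ k) (hβ : β.1 ≠ k),
      tr ρ b c (M.X (k, true) α 1) (M.Z (k, true) p) (M.X (k, true) β 1) = 0 := by
    intro p α β hα hβ
    rw [tr_swap R (mx α hα) (mz p)]
    exact tr_zxx M R hX hk hK hn hs hF2 hc hα hβ p
  have xxz : ∀ (p : Fr.Adm) (α β : Fin n × Bool) (hα : α.1 ≠ k) (hβ : β.1 ≠ k),
      tr ρ b c (M.X (k, true) α 1) (M.X (k, true) β 1) (M.Z (k, true) p) = 0 := by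
    intro p α β hα hβ
    rw [tr_swap23 R (mx α hα) (mx β hβ) (mz p)]
    exact xzx p α β hα hβ
  refine ind M R hX hk hK hF2 (fun y _ t _ => tr_one1 R c y t)
    (fun u hu v hv h1 h2 y hy t ht => by rw [tr_add1 R hu hv hy ht, h1 y hy t ht, h2 y hy t ht, add_zero]) ?_ ?_
  · intro α hα
    refine ind M R hX hk hK hF2 (fun t _ => tr_one2 M R hX hk hK _ t)
      (fun u hu v hv h1 h2 t ht => by rw [tr_add2 R (mx α hα) hu hv ht, h1 t ht, h2 t ht, add_zero]) ?_ ?_
    · intro β hβ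
      exact ind M R hX hk hK hF2 (tr_one3 M R hX hk hK _ _)
        (fun u hu v hv h1 h2 => by rw [tr_add3 R (mx α hα) (mx β hβ) hu hv, h1, h2, add_zero])
        (fun γ hγ => tr_xxx M R hX hk hK hs hF2 hc hα hβ hγ) (fun p => xxz p α β hα hβ)
    · intro p
      exact ind M R hX hk hK hF2 (tr_one3 M R hX hk hK _ _)
        (fun u hu v hv h1 h2 => by rw [tr_add3 R (mx α hα) (mz p) hu hv, h1, h2, add_zero])
        (fun γ hγ => xzx p α γ hα hγ) (fun q => xzz p q α hα)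
  · intro p
    refine ind M R hX hk hK hF2 (fun t _ => tr_one2 M R hX hk hK _ t)
      (fun u hu v hv h1 h2 t ht => by rw [tr_add2 R (mz p) hu hv ht, h1 t ht, h2 t ht, add_zero]) ?_ ?_
    · intro β hβ
      exact ind M R hX hk hK hF2 (tr_one3 M R hX hk hK _ _)
        (fun u hu v hv h1 h2 => by rw [tr_add3 R (mz p) (mx β hβ) hu hv, h1, h2, add_zero])
        (fun γ hγ => tr_zxx M R hX hk hK hn hs hF2 hc hβ hγ p) (fun q => zxz p q β hβ)
    · intro q
      exact ind M R hX hk hK hF2 (tr_one3 M R hX hk hK _ _)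
        (fun u hu v hv h1 h2 => by rw [tr_add3 R (mz p) (mz q) hu hv, h1, h2, add_zero])
        (fun γ hγ => tr_zzx M R hX hk hK hn hs hF2 hc hγ p q) (fun r => tr_zzz M R hX hk hK hd p q r)

end Zero

omit hX hk hK in
/-- **The orthogonal groups of minus type.** -/
theorem dead_minus [CharP F 2] [Finite V'] (hA : AmbT Fr 2 M.I) (hn : 3 ≤ n)
    (hs : ∀ m : F, ∃ p q : Fr.Adm, H.h p.w q.w = m) (htr : ∀ m, (Frame.Adm.tr m : Fr.Adm) = 1) {m : ℕ} (hm : 0 < m)
    (hcF : Nat.card F = 2 ^ m)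
    (hd : Nat.card F = 2 → ∀ p q r : Fr.Adm, p = 1 ∨ q = 1 ∨ p = q ∨ p = r ∨ q = r ∨ r = 1 ∨ r = p * q) : False := by
  have : Fact (Nat.Prime 2) := ⟨Nat.prime_two⟩
  have : Finite W := finite_W cs
  have hX := eq_VJ M R (gd_of_surj M hs)
  obtain ⟨k, hkM⟩ := mv_nonempty R
  have hk := mv_naz R hX (naz M hA hs) hkM
  have hK : Mv ρ nn a = {k} := by
    ext j
    refine ⟨fun hj => ?_, by rintro rfl; exact hkM⟩
    have h2 := mv_naz R hX (naz M hA hs) hj
    exact Fin.ext (by omega)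
  have h1 := short_le M R hA hX hk hK (by omega) htr hcF
  have hm1 : m = 1 := by omega
  rw [hm1, pow_one] at hcF
  have hF2 : ∀ t : F, t = 0 ∨ t = 1 := by
    intro t
    by_contra hcon
    push Not at hcon
    have : Finite F := Nat.finite_of_card_ne_zero (by rw [hcF]; norm_num)
    have := Fintype.ofFinite F
    rw [Nat.card_eq_fintype_card] at hcF
    have h2 : 2 < Fintype.card F := Fintype.two_lt_card_iff.2 ⟨t, 0, 1, hcon.1, hcon.2, zero_ne_one⟩
    omega
  obtain ⟨c, hc⟩ := exists_c R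
  have hne : X0 ≠ ⊥ := by
    intro h2
    have h3 := R.card_X
    rw [h2, Subgroup.card_bot] at h3
    have h4 : 2 ^ 1 ≤ 2 ^ (w - 1) := Nat.pow_le_pow_right (by norm_num) (by have := R.six; omega)
    omega
  obtain ⟨⟨x, hx⟩, hx1⟩ := Subgroup.ne_bot_iff_exists_ne_one.1 hne
  have hx1 : x ≠ 1 := fun h => hx1 (Subtype.ext h)
  obtain ⟨y, hy, t, ht, h2⟩ := R.tri x hx hx1 c hc
  exact h2 (tr_zero M R hX hk hK hn hs hF2 (hd hcF) hc x hx y hy t ht)

end Cfsg.Agent.Omega.EH3.Kf.TwMinus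

end

section


/-!
# EH3, Lie rows in characteristic 2: `PΩ⁻_{2n+2}(q)` (helper94; K6)
-/

set_option autoImplicit false
set_option linter.unusedVariables false
set_option linter.unusedSectionVars false

namespace Cfsg.Agent.Omega.EH3.Kf.TwOmm

open Cfsg.Agent.ChevalleyStructure.CoxeterGeom Cfsg.Agent.Tits.Roots Cfsg.Agent.Nodes.TypeC
open Cfsg.Agent.Nodes.WittAll
open Cfsg Cfsg.Agent.TitsThree Cfsg.Agent.TitsThree.Siegel Cfsg.Agent.TitsThree.SiegelGen
  Cfsg.Agent.TitsThree.WittFrame Cfsg.Agent.TitsThree.WBridge Cfsg.Agent.TitsThree.WittWeyl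
  Cfsg.Agent.TitsThree.FrameCN Cfsg.Agent.TitsThree.KSideO Cfsg.Agent.LieClassical.OrthForms

universe u

section Frame

variable (m : ℕ) (F : Type*) [Field F] (a b : F)
  (hab : ∀ z₁ z₂ : F, z₁ ^ 2 + a * z₁ * z₂ + b * z₂ ^ 2 = 0 → z₁ = 0 ∧ z₂ = 0)

theorem adm_ext {p r : (toFrame (wminus m F a b hab)).Adm} (h0 : p.w (Sum.inr 0) = r.w (Sum.inr 0))
    (h1 : p.w (Sum.inr 1) = r.w (Sum.inr 1)) : p = r := by
  have hw : p.w = r.w := by
    funext j
    rcases j with j | j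
    · rw [p.ok.1 j, r.ok.1 j]
    · fin_cases j
      · exact h0
      · exact h1
  refine Frame.Adm.ext hw ?_
  have e1 : p.c = -(minusForm m F a b) p.w := p.ok.2
  have e2 : r.c = -(minusForm m F a b) r.w := r.ok.2
  rw [e1, e2, hw]

theorem htr (t : F) : (Frame.Adm.tr t : (toFrame (wminus m F a b hab)).Adm) = 1 := adm_ext m F a b hab rfl rfl

theorem hd (hF2 : ∀ t : F, t = 0 ∨ t = 1) [CharP F 2] (p q r : (toFrame (wminus m F a b hab)).Adm) :
    p = 1 ∨ q = 1 ∨ p = q ∨ p = r ∨ q = r ∨ r = 1 ∨ r = p * q := by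
  have h2 : (1 : F) + 1 = 0 := CharTwo.add_self_eq_zero 1
  have one0 : (1 : (toFrame (wminus m F a b hab)).Adm).w (Sum.inr 0) = 0 := rfl
  have one1 : (1 : (toFrame (wminus m F a b hab)).Adm).w (Sum.inr 1) = 0 := rfl
  have mul0 : (p * q).w (Sum.inr 0) = p.w (Sum.inr 0) + q.w (Sum.inr 0) := rfl
  have mul1 : (p * q).w (Sum.inr 1) = p.w (Sum.inr 1) + q.w (Sum.inr 1) := rfl
  have key : ∀ u v : (toFrame (wminus m F a b hab)).Adm, u ≠ v →
      u.w (Sum.inr 0) ≠ v.w (Sum.inr 0) ∨ u.w (Sum.inr 1) ≠ v.w (Sum.inr 1) := by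
    intro u v huv
    by_contra hcon
    push Not at hcon
    exact huv (adm_ext m F a b hab hcon.1 hcon.2)
  by_contra hcon
  push Not at hcon
  obtain ⟨e1, e2, e3, e4, e5, e6, e7⟩ := hcon
  have k1 := key _ _ e1
  have k2 := key _ _ e2
  have k3 := key _ _ e3
  have k4 := key _ _ e4
  have k5 := key _ _ e5
  have k6 := key _ _ e6
  have k7 := key _ _ e7
  rw [one0, one1] at k1 k2 k6
  rw [mul0, mul1] at k7
  rcases hF2 (p.w (Sum.inr 0)) with h | h <;> rcases hF2 (p.w (Sum.inr 1)) with h' | h' <;>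
    rcases hF2 (q.w (Sum.inr 0)) with g | g <;> rcases hF2 (q.w (Sum.inr 1)) with g' | g' <;>
    rcases hF2 (r.w (Sum.inr 0)) with l | l <;> rcases hF2 (r.w (Sum.inr 1)) with l' | l' <;>
    simp [h, h', g, g', l, l', h2] at k1 k2 k3 k4 k5 k6 k7

end Frame

/-- the row, from the bundle of data -/
theorem kfRow_of_bd {F : Type*} [Field F] [Fintype F] [CharP F 2] (m : ℕ) (hm : 3 ≤ m) (a b : F)
    (hab : ∀ z₁ z₂ : F, z₁ ^ 2 + a * z₁ * z₂ + b * z₂ ^ 2 = 0 → z₁ = 0 ∧ z₂ = 0) {K : Type*} [Group K] [Finite K]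
    (M : Model (toFrame (wminus m F a b hab)) K) (hA : AmbT (toFrame (wminus m F a b hab)) 2 M.I)
    (hs : ∀ t : F, ∃ p q : (toFrame (wminus m F a b hab)).Adm,
      (Cfsg.Agent.TitsThree.KSideO.HO (minusForm m F a b)).h p.w q.w = t)
    {T : Subgroup K} {nn : Fin m → K}
    (B : FamRow.Bd (CoxeterMatrix.B m) (isCartan m) T nn (Nodes.WittModel.X M)) : FamRow.KfRow.{u} K := by
  refine ⟨m, CoxeterMatrix.B m, A m, isCartan m, T, nn, Nodes.WittModel.X M, B, ?_⟩
  intro V _ _ ρ b a D X0 w R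
  exfalso
  obtain ⟨j, -, hj⟩ := FiniteField.card F 2
  refine TwMinus.dead_minus M R hA hm hs (htr m F _ _ hab) (m := (j : ℕ)) j.2 (by rw [Nat.card_eq_fintype_card, hj]) ?_
  intro hc p q r
  refine hd m F _ _ hab ?_ p q r
  intro t
  by_contra hcon
  push Not at hcon
  rw [Nat.card_eq_fintype_card] at hc
  have h2 : 2 < Fintype.card F := Fintype.two_lt_card_iff.2 ⟨t, 0, 1, hcon.1, hcon.2, zero_ne_one⟩
  omega

end Cfsg.Agent.Omega.EH3.Kf.TwOmm

end

end

-- merged: Cfsg.Agent.Mrg.Omega.EH3.Kf.TwUni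
section

/-!
# EH3, Lie rows in characteristic 2: `PSU_{2m}(q)`, `m ≥ 2` (helper94; K6)

`kfRow_even`, `psuEven` (the field of `Table.Rows`): the end data are those of `U₆(2)`.
-/

set_option autoImplicit false
set_option linter.unusedVariables false
set_option linter.unusedSectionVars false

namespace Cfsg.Agent.Omega.EH3.Kf.TwUni

open CoxeterSystem Cfsg.Agent.ChevalleyStructure.CoxeterGeom Cfsg.Agent.Tits.Roots Cfsg.Agent.Tits.Core
  Cfsg.Agent.Tits.RootComb Cfsg.Agent.Nodes.TypeC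
open Cfsg.Agent.Nodes.Comb Cfsg.Agent.Nodes.Reps Cfsg.Agent.Nodes.WittRoot Cfsg.Agent.Nodes.BNOf
open Cfsg.Agent.Nodes.StabComb Cfsg.Agent.Nodes.Bruhat Cfsg.Agent.Nodes.LeviDec
open Cfsg.Agent.Nodes.RGDLib Cfsg.Agent.Nodes.WittAll
open Cfsg Cfsg.Agent.LieClassical.HermBasic
open Cfsg.Agent.TitsThree Cfsg.Agent.TitsThree.Siegel Cfsg.Agent.TitsThree.SiegelGen
  Cfsg.Agent.TitsThree.WittFrame Cfsg.Agent.TitsThree.WBridge Cfsg.Agent.TitsThree.WittWeyl
  Cfsg.Agent.TitsThree.FrameCN Cfsg.Agent.TitsThree.KSideU Cfsg.Agent.TitsThree.KSideUDesc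
open Cfsg.Agent.Omega.EH3.Kf.TwC Cfsg.Agent.Omega.EH3.Kf.TwWitt Cfsg.Agent.Omega.EH3.Kf.TwRow
  Cfsg.Agent.Omega.EH3.Kf.Base Cfsg.Agent.Omega.EH3.Kf.FamRow Cfsg.Agent.Omega.EH3.Kf.Goal
open scoped commutatorElement Pointwise

universe u

/-! ### The order of a commuting join -/

theorem card_sup_le {Y : Type*} [Group Y] [Finite Y] {A B : Subgroup Y} (h : ∀ u ∈ A, ∀ v ∈ B, u * v = v * u) :
    Nat.card (A ⊔ B : Subgroup Y) ≤ Nat.card A * Nat.card B := by
  have hn : A ≤ Subgroup.normalizer (B : Set Y) := by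
    intro g hg
    rw [Subgroup.mem_normalizer_iff]
    intro v
    refine ⟨fun hv => ?_, fun hv => ?_⟩
    · rw [h g hg v hv, mul_inv_cancel_right]; exact hv
    · have h1 := h g⁻¹ (inv_mem hg) _ hv
      have h2 : v = g⁻¹ * (g * v * g⁻¹) * g := by group
      rw [h2, h1, inv_mul_cancel_right]
      exact hv
  have e : ((A ⊔ B : Subgroup Y) : Set Y) = (A : Set Y) * (B : Set Y) :=
    Subgroup.coe_mul_of_left_le_normalizer_right _ _ hn
  have h1 : Nat.card (A ⊔ B : Subgroup Y) = Nat.card ((A : Set Y) * (B : Set Y) : Set Y) := by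
    rw [← e]; rfl
  rw [h1]
  exact Set.natCard_mul_le

/-- `|VJ| ≤ 16` for `n = 2`, `|F| = 4`, `|Adm| = 2` -/
theorem card_VJ_two {F : Type*} [Field F] {V' : Type*} [AddCommGroup V'] [Module F V'] {H : HForm F V'}
    {Fr : Frame H (Fin 2)} {K : Type*} [Group K] [Finite K] (M : Model Fr K) [CharP F 2] [Finite V']
    (hA : AmbT Fr 2 M.I) {W : Type*} [Group W] {cs : CoxeterSystem (CoxeterMatrix.B 2) W}
    (hab : ∀ u ∈ VJ cs (isCartan 2) (Nodes.WittModel.X M) ({1}ᶜ : Set (Fin 2)),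
      ∀ v ∈ VJ cs (isCartan 2) (Nodes.WittModel.X M) ({1}ᶜ : Set (Fin 2)), u * v = v * u) {c d : ℕ}
    (hc : Nat.card F = c) (hd : Nat.card Fr.Adm = d) :
    Nat.card (VJ cs (isCartan 2) (Nodes.WittModel.X M) ({1}ᶜ : Set (Fin 2))) ≤ c * d * d := by
  have : Fact (Nat.Prime 2) := ⟨Nat.prime_two⟩
  obtain ⟨x, hx, ex⟩ := exists_root cs (a := ((0 : Fin 2), true)) (b := (1, true)) (Or.inl (by decide)) rfl (by decide)
  obtain ⟨y, hy, ey⟩ := exists_root cs (a := ((0 : Fin 2), true)) (b := (0, true)) (Or.inr rfl) rfl le_rfl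
  obtain ⟨z, hz, ez⟩ := exists_root cs (a := ((1 : Fin 2), true)) (b := (1, true)) (Or.inr rfl) rfl le_rfl
  set U := VJ cs (isCartan 2) (Nodes.WittModel.X M) ({1}ᶜ : Set (Fin 2)) with hU
  have m1 : ∀ {r : Fin 2 → ℤ}, r ∈ RGD.Pos cs (isCartan 2) → 0 < r 1 → Nodes.WittModel.X M r ≤ U := by
    intro r hr h1
    exact RGD.le_Sup ⟨hr.1, hr.2, 1, fun h => h rfl, h1⟩
  have hxU := m1 hx (pos_add ex (by decide))
  have hyU := m1 hy (pos_add ey (by decide))
  have hzU := m1 hz (pos_add ez (by decide))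
  have hle : U ≤ (Nodes.WittModel.X M x ⊔ Nodes.WittModel.X M y) ⊔ Nodes.WittModel.X M z := by
    refine RGD.Sup_le ?_
    rintro r ⟨hr, h0, i, hi, hri⟩
    have hi1 : i = 1 := by
      by_contra hne
      exact hi hne
    subst hi1
    obtain ⟨⟨i, s⟩, ⟨j, t⟩, hs1, hij, hok, e⟩ := exists_pos hr h0
    simp only at hs1 hij
    subst hs1
    have h3 := coef e 1
    rcases hok with h4 | h4
    · -- short
      have hi0 : i = 0 := by
        have : i ≠ j := h4
        omega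
      have hj1 : j = 1 := by
        have : i ≠ j := h4
        omega
      subst hi0 hj1
      cases t
      · exfalso
        simp only [sn, _root_.Fin.isValue, _root_.Fin.coe_ofNat_eq_mod, _root_.Nat.mod_succ, _root_.Nat.reduceAdd, _root_.lt_self_iff_false, ↓ _root_.reduceIte, _root_.zero_le, _root_.Std.le_refl, _root_.Bool.false_eq_true, _root_.Int.reduceNeg, _root_.add_neg_cancel, _root_.mul_eq_zero, _root_.OfNat.ofNat_ne_zero, _root_.false_or] at h3
        omega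
      · have : r = x := ee_injective (e.trans ex.symm)
        subst this
        exact le_sup_left.trans le_sup_left
    · have h5 := (Prod.mk.inj h4).1
      have h6 := (Prod.mk.inj h4).2
      subst h5 h6
      rcases (show i = 0 ∨ i = 1 by omega) with h7 | h7
      · subst h7
        have : r = y := ee_injective (e.trans ey.symm)
        subst this
        exact le_sup_right.trans le_sup_left
      · subst h7
        have : r = z := ee_injective (e.trans ez.symm)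
        subst this
        exact le_sup_right
  have h1 : Nat.card U ≤ Nat.card ((Nodes.WittModel.X M x ⊔ Nodes.WittModel.X M y) ⊔ Nodes.WittModel.X M z : Subgroup K) :=
    Subgroup.card_le_of_le hle
  have h2 := card_sup_le (A := Nodes.WittModel.X M x ⊔ Nodes.WittModel.X M y) (B := Nodes.WittModel.X M z)
    fun u hu v hv => hab u (sup_le hxU hyU hu) v (hzU hv)
  have h3 := card_sup_le (A := Nodes.WittModel.X M x) (B := Nodes.WittModel.X M y)
    fun u hu v hv => hab u (hxU hu) v (hyU hv)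
  rw [card_short M hA (a := (0, true)) (b := (1, true)) (by decide) ex, card_long M hA ey, hc, hd] at h3
  rw [card_long M hA ez, hd] at h2
  exact h1.trans (h2.trans (Nat.mul_le_mul_right _ h3))

/-! ### The unitary groups of even dimension -/

section Unitary

variable {F : Type*} [Field F] [Fintype F] [CharP F 2] {q N m : ℕ} (hF : Fintype.card F = q ^ 2) (hN : 3 ≤ N)
  (W : WFrame (PU hF N) m) (hW : W.V0 = ⊥)

include hW

omit [CharP F 2] in
theorem w_zero (p : (toFrame W).Adm) : p.w = 0 := by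
  have h1 := (toFrame W).ok_mem p.ok
  have h2 : p.w ∈ W.V0 := h1
  rw [hW] at h2
  exact (Submodule.mem_bot F).1 h2

omit [CharP F 2] in
theorem c_eq (p : (toFrame W).Adm) : p.c + p.c ^ q = 0 := by
  have h2 := p.ok.2
  rw [ok_iff, w_zero hF W hW p, herm_zero_left, neg_zero] at h2
  exact h2

theorem htr (p : (toFrame W).Adm) : ∃ t, p = Frame.Adm.tr t := by
  have h1 := c_eq hF W hW p
  have h2 : p.c ^ q = p.c := by
    have h3 := eq_neg_of_add_eq_zero_right h1
    rw [h3, CharTwo.neg_eq]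
  obtain ⟨t, ht⟩ := exists_trace_eq hF h2
  refine ⟨t, Frame.Adm.ext ?_ ?_⟩
  · rw [w_zero hF W hW]; rfl
  · rw [Frame.Adm.tr_c]
    show p.c = t - (1 : F)⁻¹ * t ^ q
    rw [inv_one, one_mul, CharTwo.sub_eq_add, ht]

theorem card_adm : Nat.card (toFrame W).Adm = q := by
  classical
  -- the trace
  let f : F →+ F :=
    { toFun := fun t => t + t ^ q
      map_zero' := by rw [zero_pow_q hF, add_zero]
      map_add' := fun s t => by rw [add_pow_q hF]; ring }
  have hf : ∀ t, f t = t + t ^ q := fun _ => rfl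
  have e1 : Nat.card (toFrame W).Adm = Nat.card f.ker := by
    refine Nat.card_congr
      { toFun := fun p => ⟨p.c, (AddMonoidHom.mem_ker).2 (by rw [hf]; exact c_eq hF W hW p)⟩
        invFun := fun c => ⟨0, c.1, ⟨W.V0.zero_mem, by
          rw [ok_iff, herm_zero_left, neg_zero]
          exact AddMonoidHom.mem_ker.1 c.2⟩⟩
        left_inv := fun p => Frame.Adm.ext (w_zero hF W hW p).symm rfl
        right_inv := fun c => rfl }
  have e2 : f.range = f.ker := by
    ext c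
    rw [AddMonoidHom.mem_ker, AddMonoidHom.mem_range, hf]
    constructor
    · rintro ⟨t, rfl⟩
      rw [hf, add_pow_q hF, pow_q_pow_q hF, add_comm (t ^ q) t, CharTwo.add_self_eq_zero]
    · intro hc
      have h3 : c ^ q = c := by
        have h3 := eq_neg_of_add_eq_zero_right hc
        rw [h3, CharTwo.neg_eq]
      obtain ⟨t, ht⟩ := exists_trace_eq hF h3
      exact ⟨t, ht⟩
  have e3 : Nat.card F = Nat.card f.ker * Nat.card f.range := by
    have h1 := AddSubgroup.card_eq_card_quotient_mul_card_addSubgroup f.ker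
    rw [Nat.card_congr (QuotientAddGroup.quotientKerEquivRange f).toEquiv] at h1
    rw [h1, mul_comm]
  rw [e2, Nat.card_eq_fintype_card, hF, ← e1] at e3
  have : q * q = Nat.card (toFrame W).Adm * Nat.card (toFrame W).Adm := by rw [← sq]; exact e3
  exact (Nat.mul_self_inj.1 this).symm

end Unitary

/-- **`KfRow` for the unitary groups of even dimension `≥ 4`.** -/
theorem kfRow_even {F : Type*} [Field F] [Fintype F] [CharP F 2] {m q : ℕ} (hF : Fintype.card F = q ^ 2)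
    (hm : 2 ≤ m) : KfRow.{u} (PSU (2 * m) F q) := by
  have hN : 3 ≤ 2 * m := by omega
  have : Fact (Nat.Prime 2) := ⟨Nat.prime_two⟩
  have : Finite (PSU (2 * m) F q) := Quotient.finite _
  obtain ⟨W, hW⟩ := exists_wframe_even (N := 2 * m) hF rfl
  obtain ⟨p0, hp0, -⟩ := Nodes.WittU.exists_adm hF W
  set M := KInstU.model hF hN W with hM
  have hA1 : Amb (toFrame W) M.I := Nodes.WittU.amb_U hF W
  have hA : AmbT (toFrame W) 2 M.I := AmbT.of_amb hA1 2
  obtain ⟨k, hk⟩ : ∃ k, q = 2 ^ k := by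
    obtain ⟨j, -, hj⟩ := FiniteField.card F 2
    rw [hF] at hj
    have h1 : q ∣ 2 ^ (j : ℕ) := by rw [← hj]; exact dvd_pow_self q two_ne_zero
    obtain ⟨k, -, hk⟩ := (Nat.dvd_prime_pow Nat.prime_two).1 h1
    exact ⟨k, hk⟩
  have hk0 : 0 < k := by
    rcases Nat.eq_zero_or_pos k with h | h
    · exfalso
      have h1 := Fintype.one_lt_card (α := F)
      rw [hF, hk, h] at h1
      norm_num at h1
    · exact h
  have hcard := card_adm hF W hW
  refine ⟨m, CoxeterMatrix.B m, A m, isCartan m, Nodes.WittModel.T M, fun i => M.φ ⟨Nodes.WittRGD.nn (toFrame W) p0 i,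
    nn_mem hA p0 i⟩, Nodes.WittModel.X M, ⟨finite_W (CoxeterMatrix.B m).toCoxeterSystem,
    rgdC_model M hA hp0 _, Nodes.WittModel.G1_eq_top _ (by omega) _, ?_, ?_⟩, ?_⟩
  · -- `T` is abelian
    exact UOdd.T_comm M hA1 (d := 0) (Submodule.zero_mem _) fun w hw => ⟨0, by
      have h2 : w ∈ W.V0 := hw
      rw [hW] at h2
      rw [(Submodule.mem_bot F).1 h2, smul_zero]⟩
  · intro i u hu
    by_cases hi : (i : ℕ) + 1 < m
    · exact UOdd.sq_of_lt M hi hu
    · obtain ⟨p, rfl⟩ := (UOdd.mem_X_last M hi).1 hu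
      rw [← Z_mul, (UOdd.sq_eq_one hA1).2 (w_zero hF W hW p), Z_one]
  · intro V _ _ ρ b a D X0 w R
    obtain ⟨h1, h3, i, hi, hK, hX⟩ := even_le M R hA (by omega) (htr hF W hW) hp0 hk0 (by rw [hcard, hk])
    subst h1
    rw [pow_one] at hk
    subst hk
    have hm3 : m = 3 := by
      by_contra hne
      have hm2 : m = 2 := by omega
      subst hm2
      have hi1 : i = 1 := Fin.ext (by simp; omega)
      subst hi1
      have h4 := card_VJ_two M hA (cs := (CoxeterMatrix.B 2).toCoxeterSystem) (by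
        rw [← hX]
        exact fun u hu v hv => Cov.comm_X0 R hu hv) (c := 4) (d := 2)
        (by rw [Nat.card_eq_fintype_card, hF]; norm_num) hcard
      rw [← hX, R.card_X] at h4
      have h5 : 2 ^ 5 ≤ 2 ^ (w - 1) := Nat.pow_le_pow_right (by norm_num) (by have := R.six; omega)
      omega
    subst hm3
    have hi2 : i = 2 := Fin.ext (by simp; omega)
    subst hi2
    refine ⟨![4, 4, 2], 2, Good.C3, hX, ?_, ?_⟩
    · intro j hj
      by_contra hne
      have : j ∈ Mv ρ (fun i => M.φ ⟨Nodes.WittRGD.nn (toFrame W) p0 i, nn_mem hA p0 i⟩) a := hne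
      rw [hK] at this
      exact hj this
    · have hF4 : Nat.card F = 4 := by rw [Nat.card_eq_fintype_card, hF]; norm_num
      have key : ∀ j : Fin 3, (j : ℕ) + 1 < 3 → Nat.card (Nodes.WittModel.X M (sr j)) = 4 := by
        intro j hj
        rw [← hF4]
        refine card_short M hA (a := (j, true)) (b := (⟨j + 1, hj⟩, false)) (by simp [Fin.ext_iff]) ?_
        rw [ee_sr, bt, nx, dif_pos hj]
      intro j
      match j with
      | 0 => exact key 0 (by decide)
      | 1 => exact key 1 (by decide)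
      | 2 =>
        rw [card_long M hA (a := ((2 : Fin 3), true)) (by rw [ee_sr, bt, nx, dif_neg (by decide)]), hcard]
        rfl

/-- **The field `psuEven` of `Table.Rows`.** -/
theorem psuEven (F : Type) [Field F] [Fintype F] [CharP F 2] (m q : ℕ) (hF : Fintype.card F = q ^ 2) (hm : 2 ≤ m) :
    Main.Fam.{u} (PSU (2 * m) F q) := Or.inr (KfRow.toU (kfRow_even hF hm))

end Cfsg.Agent.Omega.EH3.Kf.TwUni

end
end

-- part: Mrg/Omega/EH3/Kf/FamD4
section
set_option linter.all false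
open scoped Cfsg.Agent.FastGrp


/-!
# EH3, Lie rows in characteristic 2: `³D₄(q)`, `q` even, has no row (helper737)

* `hexGen` : from the positive relations of the hexagon (`SplitTwo.HexRel`) in characteristic 2 with `σ ≠ 1`: the root
  groups of the roots that are not fundamental lie in `[U, U]`
  (`c = crs c 1 + crs (τ s) 1 + crs (τ A) B`, `τ` the trace of `c`, `s = crs A B` of trace 1);
* `hex_ne` : `[X 3, X 5] ≠ 1`;
* `bd`, `kfRow : KfRow ↥(twistedD4 K q)`.
-/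

set_option autoImplicit false
set_option linter.unusedSectionVars false

namespace Cfsg.Agent.Omega.EH3.Kf.FamD4

open Cfsg.Agent.SplitTwo
open scoped commutatorElement

universe u v w

section Hex

variable {E : Type*} [Field E] [CharP E 2] {σ : E ≃+* E} {G : Type*} [Group G] {x1 x2 x3 x4 x5 x6 : E → G}

theorem kk_eq {G : Type*} [Group G] (a b : G) : kk a b = ⁅a⁻¹, b⁻¹⁆ := by
  rw [kk, commutatorElement_def]; group

theorem kk_mem {G : Type*} [Group G] {U : Subgroup G} {a b : G} (ha : a ∈ U) (hb : b ∈ U) : kk a b ∈ ⁅U, U⁆ := by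
  rw [kk_eq]
  exact Subgroup.commutator_mem_commutator (inv_mem ha) (inv_mem hb)

theorem two_eq (E : Type*) [Field E] [CharP E 2] : (2 : E) = 0 := by exact_mod_cast CharP.cast_eq_zero E 2

theorem trc_fix {t : E} (ht : σ t = t) : trc σ t 1 = t := by
  rw [trc, mul_one, ht, ht]
  linear_combination t * two_eq E

theorem map_trc (hc : ∀ a, σ (σ (σ a)) = a) (a b : E) : σ (trc σ a b) = trc σ a b := by
  simp only [trc, map_add, hc]; ring

/-- every element is a sum of cross products -/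
theorem crs_sum (hc : ∀ a, σ (σ (σ a)) = a) {B : E} (hB : σ B ≠ B) (c : E) :
    ∃ v a : E, c = crs σ c 1 + crs σ v 1 + crs σ a B := by
  have h2 := two_eq E
  have hd : σ B + σ (σ B) ≠ 0 := by
    intro h
    apply hB
    apply σ.injective
    exact (CharTwo.add_eq_zero.1 h).symm
  obtain ⟨A, hA⟩ : ∃ A, A * (σ B + σ (σ B)) = 1 := ⟨(σ B + σ (σ B))⁻¹, inv_mul_cancel₀ hd⟩
  have e2 : σ A * (σ (σ B) + B) = 1 := by
    have := congrArg σ hA
    rwa [map_mul, map_add, map_one, hc] at this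
  have e3 : σ (σ A) * (B + σ B) = 1 := by
    have := congrArg σ e2
    rwa [map_mul, map_add, map_one, hc] at this
  obtain ⟨τ, hτ⟩ : ∃ τ, τ = c + σ c + σ (σ c) := ⟨_, rfl⟩
  have ht : σ τ = τ := by rw [hτ, map_add, map_add, hc]; ring
  refine ⟨τ * crs σ A B, τ * A, ?_⟩
  have h1 : crs σ c 1 = σ c + σ (σ c) := by simp only [crs, map_one, mul_one]
  have h4 : crs σ (τ * crs σ A B) 1 = τ * (σ (crs σ A B) + σ (σ (crs σ A B))) := by
    generalize crs σ A B = s
    simp only [crs, map_one, mul_one, map_mul, ht]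
    ring
  have h5 : crs σ (τ * A) B = τ * crs σ A B := by
    simp only [crs, map_mul, ht]
    ring
  have h6 : crs σ A B + σ (crs σ A B) + σ (σ (crs σ A B)) = 1 := by
    simp only [crs, map_add, map_mul, hc]
    linear_combination hA + e2 + e3 + h2
  rw [h1, h4, h5]
  linear_combination (-(σ c) - σ (σ c)) * h2 - hτ - τ * h6

/-- **Generation in a hexagon, characteristic 2, `σ ≠ 1`.** -/
theorem hexGen (R : HexRel σ x1 x2 x3 x4 x5 x6) {U : Subgroup G} (h1 : ∀ a, x1 a ∈ U) (h3 : ∀ a, x3 a ∈ U)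
    (h5 : ∀ a, x5 a ∈ U) (h6 : ∀ t, σ t = t → x6 t ∈ U) (hB : ∃ B, σ B ≠ B) :
    (∀ t, σ t = t → x2 t ∈ ⁅U, U⁆) ∧ (∀ a, x3 a ∈ ⁅U, U⁆) ∧ (∀ t, σ t = t → x4 t ∈ ⁅U, U⁆) ∧
      (∀ a, x5 a ∈ ⁅U, U⁆) := by
  have k2 : ∀ t, σ t = t → x2 t ∈ ⁅U, U⁆ := by
    intro t ht
    have := kk_mem (h1 t) (h3 1)
    rwa [R.c13, trc_fix ht] at this
  have k4 : ∀ t, σ t = t → x4 t ∈ ⁅U, U⁆ := by
    intro t ht
    have := kk_mem (h3 t) (h5 1)
    rwa [R.c35, trc_fix ht] at this
  have k3' : ∀ a b, x3 (crs σ a b) ∈ ⁅U, U⁆ := by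
    intro a b
    have := kk_mem (h1 a) (h5 b)
    rw [R.c15] at this
    have e2 := k2 (-(trc σ (shp σ a) b)) (by rw [map_neg, map_trc R.cube])
    have e4 := k4 (trc σ a (shp σ b)) (map_trc R.cube _ _)
    exact (Subgroup.mul_mem_cancel_left _ e2).1 ((Subgroup.mul_mem_cancel_right _ e4).1 this)
  have k3 : ∀ a, x3 a ∈ ⁅U, U⁆ := by
    intro a
    obtain ⟨B, hB⟩ := hB
    obtain ⟨v, y, h⟩ := crs_sum R.cube hB a
    rw [h, R.add3, R.add3]
    exact mul_mem (mul_mem (k3' _ _) (k3' _ _)) (k3' _ _)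
  refine ⟨k2, k3, k4, fun a => ?_⟩
  have := kk_mem (h1 (-a)) (h6 1 (map_one σ))
  rw [R.c16 _ _ (map_one σ)] at this
  have fn : ∀ a : E, σ (nrm σ a) = nrm σ a := fun a => by
    simp only [nrm, map_mul, R.cube]; ring
  have e2 := k2 (-(1 * nrm σ (-a))) (by rw [map_neg, map_mul, map_one, fn])
  have e3 := k3 (1 * shp σ (-a))
  have e4 := k4 (1 ^ 2 * nrm σ (-a)) (by rw [map_mul, map_pow, map_one, fn])
  have e5 := (Subgroup.mul_mem_cancel_left _ (mul_mem (mul_mem e2 e3) e4)).1 this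
  rwa [one_mul, neg_neg] at e5

theorem hex_ne {X : ZMod (2 * 6) → Subgroup G} (P : HexPar σ X x1 x2 x3 x4 x5 x6) : ⁅X 3, X 5⁆ ≠ ⊥ := by
  intro h
  have h1 : ⁅(x3 1)⁻¹, (x5 1)⁻¹⁆ ∈ ⁅X 3, X 5⁆ :=
    Subgroup.commutator_mem_commutator (inv_mem ((P.mem3 _).2 ⟨1, rfl⟩)) (inv_mem ((P.mem5 _).2 ⟨1, rfl⟩))
  rw [h, Subgroup.mem_bot, ← kk_eq, P.rel.c35, trc_fix (map_one σ)] at h1
  have h0 : x4 0 = 1 := by
    have := P.rel.add4 0 0 (map_zero σ) (map_zero σ)
    rw [add_zero] at this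
    exact left_eq_mul.1 this
  exact one_ne_zero (P.inj4 1 0 (map_one σ) (map_zero σ) (by rw [h1, h0]))

end Hex

open CoxeterSystem Cfsg.Agent.ChevalleyStructure.CoxeterGeom Cfsg.Agent.Tits.Roots Cfsg.Agent.Tits.Core
  Cfsg.Agent.Nodes.BNOf Cfsg.Agent.Nodes.RGDTwGen Cfsg.Agent.Nodes.RGDChev Cfsg.Agent.Nodes.RGDFold
open Cfsg.Lie Cfsg.Agent.ChevalleyStructure
  Cfsg.Agent.ChevalleyStructure.TwistedU Cfsg.Agent.ChevalleyStructure.TwistedFix
open Cfsg.Agent.ChevalleyStructure.D4Fixed (sig)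
open Cfsg.Agent.ChevalleyStructure.D4U
open Cfsg.Agent.Nodes Cfsg.Agent.Nodes.RGDTwD4 Cfsg.Agent.Hexagon
open Cfsg.Agent.Omega.EH3.Kf.FamRow Cfsg.Agent.Omega.EH3.Kf.NoRow

/-! ### tables -/

theorem cls5 : ∀ k < chevD4.nroots, (V chevD4 J k = V chevD4 J 19 ↔ k ∈ [19, 16, 15]) := by decide +kernel
theorem cls3 : ∀ k < chevD4.nroots, (V chevD4 J k = V chevD4 J 20 ↔ k ∈ [20, 21, 17]) := by decide +kernel
theorem cls2 : ∀ k < chevD4.nroots, (V chevD4 J k = V chevD4 J 22 ↔ k ∈ [22]) := by decide +kernel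
theorem cls4 : ∀ k < chevD4.nroots, (V chevD4 J k = V chevD4 J 23 ↔ k ∈ [23]) := by decide +kernel

theorem L_1 : TwD4RGD.L 1 = [18, 13, 12] := by decide +kernel
theorem L_2 : TwD4RGD.L 2 = [22] := by decide +kernel
theorem L_3 : TwD4RGD.L 3 = [20, 21, 17] := by decide +kernel
theorem L_4 : TwD4RGD.L 4 = [23] := by decide +kernel
theorem L_5 : TwD4RGD.L 5 = [19, 16, 15] := by decide +kernel
theorem L_6 : TwD4RGD.L 6 = [14] := by decide +kernel

theorem six_tab : ∀ r ∈ L.flatten, V chevD4 J r = sr 0 ∨ V chevD4 J r = sr 1 ∨ V chevD4 J r = V chevD4 J 19 ∨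
    V chevD4 J r = V chevD4 J 20 ∨ V chevD4 J r = V chevD4 J 22 ∨ V chevD4 J r = V chevD4 J 23 := by
  decide +kernel

theorem pos_tab : ∀ k, 0 < V chevD4 J 19 k ∧ 0 < V chevD4 J 20 k ∧ 0 < V chevD4 J 22 k ∧ 0 < V chevD4 J 23 k := by
  decide +kernel

variable {K : Type v} [Field K] {q : ℕ} {φ : K →+* K}

/-- the two forms of the root groups -/
theorem X_eq (hle : twistedD4 K q ≤ D4Fixed.fix φ) {z : Fin 2 → ℤ} {o : List ℕ} {k : ZMod (2 * 6)}
    (ho : ∀ k < chevD4.nroots, (V chevD4 J k = z ↔ k ∈ o)) (ho' : ∀ k ∈ o, k < chevD4.nroots)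
    (hL : TwD4RGD.L k = o) : RGDTwD4.X φ q z = TwD4RGD.X K q k := by
  ext g
  show (g : GL chevD4.Idx K) ∈ R chevD4 RGDTwD4.hp K J (sig φ) z ↔ (g : GL chevD4.Idx K) ∈ RS K (TwD4RGD.L k)
  rw [R_eq ho ho', xG_eq, hL]
  exact and_iff_left (hle g.2)

section

variable (hle : twistedD4 K q ≤ D4Fixed.fix φ)

include hle

theorem X_sr0 : RGDTwD4.X φ q (sr 0) = TwD4RGD.X K q 6 := X_eq hle cls0 (by decide +kernel) L_6
theorem X_sr1 : RGDTwD4.X φ q (sr 1) = TwD4RGD.X K q 1 := X_eq hle cls1 (by decide +kernel) L_1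
theorem X_19 : RGDTwD4.X φ q (V chevD4 J 19) = TwD4RGD.X K q 5 := X_eq hle cls5 (by decide +kernel) L_5
theorem X_20 : RGDTwD4.X φ q (V chevD4 J 20) = TwD4RGD.X K q 3 := X_eq hle cls3 (by decide +kernel) L_3
theorem X_22 : RGDTwD4.X φ q (V chevD4 J 22) = TwD4RGD.X K q 2 := X_eq hle cls2 (by decide +kernel) L_2
theorem X_23 : RGDTwD4.X φ q (V chevD4 J 23) = TwD4RGD.X K q 4 := X_eq hle cls4 (by decide +kernel) L_4

end

/-- the roots -/
theorem isRoot_V {W : Type*} [Group W] (cs : CoxeterSystem CoxeterMatrix.G₂ W) {r : ℕ} (hr : r < chevD4.nroots) :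
    IsRoot cs RGDTwD4.isCartan (V chevD4 J r) :=
  (foldData.isRoot_iff (cs := cs) (h := RGDTwD4.isCartan) RGDTwD4.hp.checked
    (fun i _ hr => wp_lt RGDTwD4.hp (J i) hr) _).2 ⟨r, hr, rfl⟩

theorem pos_cases {W : Type*} [Group W] (cs : CoxeterSystem CoxeterMatrix.G₂ W) {z : Fin 2 → ℤ}
    (hz : IsRoot cs RGDTwD4.isCartan z) (h0 : 0 ≤ z) (hs : ∀ i, z ≠ sr i) :
    z = V chevD4 J 19 ∨ z = V chevD4 J 20 ∨ z = V chevD4 J 22 ∨ z = V chevD4 J 23 := by
  obtain ⟨r, hr, rfl⟩ := (foldData.isRoot_iff (cs := cs) (h := RGDTwD4.isCartan) RGDTwD4.hp.checked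
    (fun i _ hr => wp_lt RGDTwD4.hp (J i) hr) _).1 hz
  have h1 := (foldData.posL r hr).2 fun i => h0 i
  rcases six_tab r h1 with h | h | h | h | h | h
  · exact absurd h (hs 0)
  · exact absurd h (hs 1)
  · exact Or.inl h
  · exact Or.inr (Or.inl h)
  · exact Or.inr (Or.inr (Or.inl h))
  · exact Or.inr (Or.inr (Or.inr h))

theorem tor_comm {s t : ↥(twistedD4 K q)} (hs : s ∈ RGDTwD4.T K q) (ht : t ∈ RGDTwD4.T K q) : s * t = t * s := by
  obtain ⟨χ, hχ⟩ := HMatDiagAll.mem_torus.1 (HMatDiagAll.diagonalSubgroup_le_torus RGDTwD4.hp.inList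
    (Subgroup.mem_subgroupOf.1 hs).1)
  obtain ⟨ψ, hψ⟩ := HMatDiagAll.mem_torus.1 (HMatDiagAll.diagonalSubgroup_le_torus RGDTwD4.hp.inList
    (Subgroup.mem_subgroupOf.1 ht).1)
  apply Subtype.ext
  apply Units.ext
  show ((s : GL chevD4.Idx K) : Matrix chevD4.Idx chevD4.Idx K) * ((t : GL chevD4.Idx K) : Matrix chevD4.Idx chevD4.Idx K) =
    ((t : GL chevD4.Idx K) : Matrix chevD4.Idx chevD4.Idx K) * ((s : GL chevD4.Idx K) : Matrix chevD4.Idx chevD4.Idx K)
  rw [hχ, hψ, Matrix.diagonal_mul_diagonal, Matrix.diagonal_mul_diagonal]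
  congr 1
  funext i
  exact mul_comm _ _

/-- the field has elements which are not fixed -/
theorem exists_moved [Fintype K] (hK : Fintype.card K = q ^ 3) (hφ : ∀ x, φ x = x ^ q) : ∃ B, φ B ≠ B := by
  by_contra hcon
  push Not at hcon
  have hq1 : 1 < q := by
    by_contra hq
    have h1 : 1 < Fintype.card K := Fintype.one_lt_card
    rw [hK] at h1
    have h2 : q ^ 3 ≤ 1 := Nat.pow_le_one_iff (by norm_num) |>.2 (by omega)
    omega
  -- all units satisfy `x ^ (q - 1) = 1`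
  have h1 : Monoid.exponent Kˣ ∣ q - 1 := by
    apply Monoid.exponent_dvd_of_forall_pow_eq_one
    intro x
    apply Units.ext
    have h2 := hcon (x : K)
    rw [hφ] at h2
    have h3 : (x : K) * (x : K) ^ (q - 1) = x * 1 := by
      rw [← pow_succ', Nat.sub_add_cancel hq1.le, h2, mul_one]
    rw [Units.val_pow_eq_pow_val, Units.val_one]
    exact mul_left_cancel₀ x.ne_zero h3
  rw [IsCyclic.exponent_eq_card, Nat.card_units, Nat.card_eq_fintype_card, hK] at h1
  have h2 := Nat.le_of_dvd (by omega) h1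
  have h3 : q < q ^ 3 := by
    calc q = q ^ 1 := (pow_one q).symm
      _ < q ^ 3 := Nat.pow_lt_pow_right hq1 (by norm_num)
  omega

/-- **The bundle of data of `³D₄(q)`, `q` even.** -/
theorem bd [Fintype K] [CharP K 2] (hK : Fintype.card K = q ^ 3) (hφ : ∀ x, φ x = x ^ q) {σ : K ≃+* K}
    (hσ : ∀ x, σ x = φ x) (h3 : ∀ a, σ (σ (σ a)) = a) :
    Bd CoxeterMatrix.G₂ RGDTwD4.isCartan (RGDTwD4.T K q) (RGDTwD4.n hφ) (RGDTwD4.X φ q) where
  fin := finite_W (hp := RGDTwD4.hp) CoxeterMatrix.G₂.toCoxeterSystem RGDTwD4.isCartan foldData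
  rgd := by
    have : Fact (Nat.Prime 2) := ⟨Nat.prime_two⟩
    exact RGDTwD4.rgd CoxeterMatrix.G₂.toCoxeterSystem hK hφ 2
  gen := RGDTwD4.G1_eq_top CoxeterMatrix.G₂.toCoxeterSystem hK hφ
  ab s hs t ht := tor_comm hs ht
  el i u hu := by
    have hle := D4Fixed.twisted_le_fix hK hφ
    have P := TwD4Par.hexPar hφ hle hσ h3
    fin_cases i
    · change u ∈ RGDTwD4.X φ q (sr 0) at hu
      rw [X_sr0 hle, P.mem6] at hu
      obtain ⟨t, ht, rfl⟩ := hu
      rw [← P.rel.add6 t t ht ht, CharTwo.add_self_eq_zero]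
      have := P.rel.add6 0 0 (map_zero σ) (map_zero σ)
      rw [add_zero] at this
      exact left_eq_mul.1 this
    · change u ∈ RGDTwD4.X φ q (sr 1) at hu
      rw [X_sr1 hle, P.mem1] at hu
      obtain ⟨t, rfl⟩ := hu
      rw [← P.rel.add1 t t, CharTwo.add_self_eq_zero]
      have := P.rel.add1 0 0
      rw [add_zero] at this
      exact left_eq_mul.1 this

/-- **`³D₄(q)`, `q` even.** -/
theorem kfRow [Fintype K] [CharP K 2] (hq : IsPrimePow q) (hK : Fintype.card K = q ^ 3) :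
    KfRow.{u} ↥(twistedD4 K q) := by
  obtain ⟨φ, hφ⟩ := D4Fixed.exists_frob hq hK
  let σ : K ≃+* K := RingEquiv.ofBijective φ ((Finite.injective_iff_bijective).1 φ.injective)
  have hσ : ∀ x, σ x = φ x := fun x => rfl
  have h3 : ∀ a, σ (σ (σ a)) = a := by
    intro t
    rw [hσ, hσ, hσ, hφ, hφ, hφ, ← pow_mul, ← pow_mul]
    have : q * (q * q) = q ^ 3 := by ring
    rw [this, ← hK]
    exact FiniteField.pow_card t
  have hle := D4Fixed.twisted_le_fix hK hφ
  have P := TwD4Par.hexPar hφ hle hσ h3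
  let cs := CoxeterMatrix.G₂.toCoxeterSystem
  have hfin : Finite ↥(twistedD4 K q) := inferInstance
  have hlt : ∀ r : ℕ, r < 24 → r < chevD4.nroots := fun r hr => hr
  have hle' : ∀ {z : Fin 2 → ℤ}, z ∈ RGD.Pos cs RGDTwD4.isCartan →
      RGDTwD4.X φ q z ≤ RGD.Sup (RGDTwD4.X φ q) (RGD.Pos cs RGDTwD4.isCartan) := fun hz => RGD.le_Sup hz
  have p0 : (sr 0 : Fin 2 → ℤ) ∈ RGD.Pos cs RGDTwD4.isCartan := ⟨isRoot_sr cs _ 0, sr_nonneg 0⟩
  have p1 : (sr 1 : Fin 2 → ℤ) ∈ RGD.Pos cs RGDTwD4.isCartan := ⟨isRoot_sr cs _ 1, sr_nonneg 1⟩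
  have p5 : V chevD4 J 19 ∈ RGD.Pos cs RGDTwD4.isCartan :=
    ⟨isRoot_V cs (hlt 19 (by norm_num)), fun k => (pos_tab k).1.le⟩
  have p3 : V chevD4 J 20 ∈ RGD.Pos cs RGDTwD4.isCartan :=
    ⟨isRoot_V cs (hlt 20 (by norm_num)), fun k => (pos_tab k).2.1.le⟩
  obtain ⟨B, hB⟩ := exists_moved hK hφ
  obtain ⟨g2, g3, g4, g5⟩ := hexGen P.rel (U := RGD.Sup (RGDTwD4.X φ q) (RGD.Pos cs RGDTwD4.isCartan))
    (fun a => hle' p1 (by rw [X_sr1 hle, P.mem1]; exact ⟨a, rfl⟩))
    (fun a => hle' p3 (by rw [X_20 hle, P.mem3]; exact ⟨a, rfl⟩))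
    (fun a => hle' p5 (by rw [X_19 hle, P.mem5]; exact ⟨a, rfl⟩))
    (fun t ht => hle' p0 (by rw [X_sr0 hle, P.mem6]; exact ⟨t, ht, rfl⟩)) ⟨B, hB⟩
  refine kfRow_of_pair (bd hK hφ hσ h3) (x := V chevD4 J 20) (y := V chevD4 J 19) ?_
    (isRoot_V _ (hlt 20 (by norm_num))) (isRoot_V _ (hlt 19 (by norm_num))) (fun k => (pos_tab k).2.1)
    (fun k => (pos_tab k).1) ?_
  · intro z hz h0 hs
    rcases pos_cases cs hz h0 hs with rfl | rfl | rfl | rfl
    · rw [X_19 hle]
      intro g hg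
      obtain ⟨a, rfl⟩ := (P.mem5 g).1 hg
      exact g5 a
    · rw [X_20 hle]
      intro g hg
      obtain ⟨a, rfl⟩ := (P.mem3 g).1 hg
      exact g3 a
    · rw [X_22 hle]
      intro g hg
      obtain ⟨t, ht, rfl⟩ := (P.mem2 g).1 hg
      exact g2 t ht
    · rw [X_23 hle]
      intro g hg
      obtain ⟨t, ht, rfl⟩ := (P.mem4 g).1 hg
      exact g4 t ht
  · rw [X_20 hle, X_19 hle]
    exact hex_ne P

end Cfsg.Agent.Omega.EH3.Kf.FamD4
end

-- part: Mrg/Omega/EH3/Kf/TableAll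
section
prune_inst 0x100005405462120010000010100000042c00000200000000000003000348c2408402000008000010080200000000002002080010400000000a000000000001000000100080480100000088000080000000000000000000000000000000000000000000000
set_option linter.all false
open scoped Cfsg.Agent.FastGrp

-- part: Mrg/Omega/EH3/Kf/TablePlug
section
-- merged: Cfsg.Agent.Mrg.Omega.EH3.Kf.Obt
section

section


/-!
# EH3, Lie rows in characteristic 2: leading roots of `X0` (helper134)

`Obt cs h X` : no label `6`, commutators of positive root groups involve only sums, two positive roots at an obtuse angle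
have a nonzero structure constant.

* `Obt.of_dat` : root groups of order `2`; `Obt.of_sys` : every `ChevTwo.Sys`;
* `wt k` : the weight with value `1` at `α_k` and `2` at the other simple roots;
* `idl_sr` : the node `k` moves `a` ==> `α_k` is the leading root of an element of `X0` (Theorem A);
* `idl_add` : `r` leading root of `X0`, `s > 0`, `⟨s, r^∨⟩ < 0` ==> `r + s` leading root of `X0`;
* `idl_false` : two leading roots of `X0` are never at an obtuse angle.
-/

set_option autoImplicit false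
set_option linter.unusedSectionVars false
set_option linter.dupNamespace false

namespace Cfsg.Agent.Omega.EH3.Kf.Obt

open CoxeterSystem Cfsg.Agent.ChevalleyStructure.CoxeterGeom Cfsg.Agent.Tits.Roots Cfsg.Agent.Tits.Core
  Cfsg.Agent.Tits.RootComb Cfsg.Agent.Nodes.Comb Cfsg.Agent.Nodes.Reps Cfsg.Agent.Nodes.BNOf
  Cfsg.Agent.Nodes.StabComb Cfsg.Agent.Nodes.LeviDec Cfsg.Agent.Nodes.Coroot
  Cfsg.Agent.Omega.EH3.Kf.Lead Cfsg.Agent.Omega.EH3.Kf.Base Cfsg.Agent.Omega.EH3.Kf.Two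
  Cfsg.Agent.Omega.EH3.Kf.ThmA
open scoped commutatorElement

section General

variable {I W Y : Type*} [Fintype I] [DecidableEq I] [Group W] [Group Y] {M : CoxeterMatrix I}
  {cs : CoxeterSystem M W} {A : I → I → ℤ} {h : IsCartan M A} {T : Subgroup Y} {n : I → Y}
  {X : (I → ℤ) → Subgroup Y}

theorem ne_neg_of_pos {x y : I → ℤ} (hx : x ∈ RGD.Pos cs h) (hy : y ∈ RGD.Pos cs h) : x ≠ -y := by
  intro e
  have h1 : x ≤ 0 := by rw [e]; exact neg_nonpos.2 hy.2
  exact hx.1.ne_zero (le_antisymm h1 hx.2)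

/-- The leading root calculus applies. -/
structure Obt (cs : CoxeterSystem M W) (h : IsCartan M A) (X : (I → ℤ) → Subgroup Y) : Prop where
  six : ∀ i j, M i j ≠ 6
  strict : Strict cs h X
  cst : ∀ x ∈ RGD.Pos cs h, ∀ y ∈ RGD.Pos cs h, cpr cs h y x < 0 → Cst cs h X x y

/-- root groups of order `2` -/
theorem Obt.of_dat [Finite W] (D : Dat cs h T n X) : Obt cs h X where
  six := D.six
  strict := by
    refine ⟨fun r hr a ha b hb => ?_, fun s hs t ht _ a ha b hb => ?_⟩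
    · rcases (D.mem_iff hr.1).1 ha with rfl | rfl
      · rw [one_mul, mul_one]
      rcases (D.mem_iff hr.1).1 hb with rfl | rfl
      · rw [one_mul, mul_one]
      rfl
    · refine RGD.Sup_mono (fun z hz => ?_) (D.comm_mem hs.1 ht.1 (ne_neg_of_pos hs ht) ha hb)
      obtain ⟨hz, -, rfl | rfl | rfl⟩ := hz
      · exact ⟨hz, 1, 1, by norm_num, by norm_num, by rw [one_smul, one_smul]⟩
      · exact ⟨hz, 2, 1, by norm_num, by norm_num, by rw [one_smul]⟩
      · exact ⟨hz, 1, 2, by norm_num, by norm_num, by rw [one_smul]⟩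
  cst x hx y hy hp := by
    obtain ⟨h1, z, hz, h2⟩ := D.comm_lead hx.1 hy.1 (ne_neg_of_pos hx hy) hp
    refine ⟨h1, fun a ha ha1 b hb hb1 => ⟨u X (x + y), D.u_mem h1, D.u_ne h1, ?_⟩⟩
    rw [D.eq_u hx.1 ha ha1, D.eq_u hy.1 hb hb1]
    rcases h2 with h2 | ⟨h3, h2⟩
    · exact ⟨1, one_mem _, by rw [h2, mul_one]⟩
    · refine ⟨u X z, RGD.le_Sup (S := SumR' cs h x y) ?_ (D.u_mem h3), h2⟩
      rcases hz with rfl | rfl
      · exact ⟨h3, 2, 1, by norm_num, by norm_num, by norm_num, by rw [one_smul]⟩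
      · exact ⟨h3, 1, 2, by norm_num, by norm_num, by norm_num, by rw [one_smul]⟩

section Sys

variable {K : Type*} [Field K] {e : (I → ℤ) → K → Y} {p : ℕ} {R : RGD cs h p T n X}

open Cfsg.Agent.KFacts.ChevTwo

/-- the commutator of two root elements at an obtuse angle -/
theorem lead_sys [Finite W] (h6 : ∀ i j, M i j ≠ 6) (D : Data cs h e) {x y : I → ℤ} (hx : IsRoot cs h x)
    (hy : IsRoot cs h y) (hne' : x ≠ -y) (hp : cpr cs h y x < 0) (t s : K) : IsRoot cs h (x + y) ∧ ∃ z u,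
      (z = (2 : ℤ) • x + y ∨ z = x + (2 : ℤ) • y) ∧
      (⁅e x t, e y s⁆ = e (x + y) (t * s) ∨ (IsRoot cs h z ∧ ⁅e x t, e y s⁆ = e (x + y) (t * s) * e z u)) := by
  rcases neg_cases h6 hx hy hne' hp with ⟨h1, h2⟩ | ⟨h1, h2⟩ | ⟨h1, h2⟩
  · exact ⟨isRoot_add hx hy h2, _, 0, Or.inl rfl, Or.inl (D.comm1 x y hx hy h2 h1 t s)⟩
  · refine ⟨?_, _, t * s ^ 2, Or.inr rfl, Or.inr ⟨isRoot_add_smul hx hy h2, D.comm2 x y hx hy h2 h1 t s⟩⟩
    have := isRoot_add hy hx h1
    rwa [add_comm] at this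
  · have r1 : IsRoot cs h (x + y) := isRoot_add hx hy h2
    have r2 : IsRoot cs h ((2 : ℤ) • x + y) := by
      have := isRoot_add_smul hy hx h1
      rwa [add_comm] at this
    refine ⟨r1, _, s * t ^ 2, Or.inl rfl, Or.inr ⟨r2, ?_⟩⟩
    have h3 := D.comm2 y x hy hx h1 h2 s t
    rw [← commutatorElement_inv, h3, mul_inv_rev, add_comm y x, add_comm y, D.inv r1, D.inv r2, mul_comm s t]
    -- the two factors commute
    have := Fintype.ofFinite W
    refine D.comm_of_nonneg r2 r1 ?_ _ _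
    have f1 := two_form_cpr cs h y hx
    have f2 := two_form_cpr cs h x hy
    have f0 := form_pos cs h hx.ne_zero
    rw [form_comm cs h y x] at f1
    rw [h1] at f1
    rw [h2] at f2
    refine le_of_lt ((cpr_pos_iff cs h _ r1).2 ?_)
    rw [form_add_left, form_add_right, form_add_right, form_smul_left, form_smul_left, form_comm cs h y x]
    linarith

/-- Chevalley groups in characteristic two. -/
theorem Obt.of_sys [Finite W] (h6 : ∀ i j, M i j ≠ 6) (S : Sys R e) : Obt cs h X where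
  six := h6
  strict := by
    have D := S.data
    refine ⟨fun r hr a ha b hb => ?_, fun s hs t ht hst a ha b hb => ?_⟩
    · obtain ⟨a, rfl⟩ := (S.mem_X r hr.1 a).1 ha
      obtain ⟨b, rfl⟩ := (S.mem_X r hr.1 b).1 hb
      exact D.comm_same hr.1 a b
    · obtain ⟨a, rfl⟩ := (S.mem_X s hs.1 a).1 ha
      obtain ⟨b, rfl⟩ := (S.mem_X t ht.1 b).1 hb
      by_cases hp : 0 ≤ cpr cs h t s
      · have h1 := D.comm_of_nonneg ht.1 hs.1 hp b a
        rw [commutatorElement_eq_one_iff_mul_comm.2 h1.symm]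
        exact one_mem _
      · obtain ⟨h1, z, v, hz, h2⟩ := lead_sys h6 D hs.1 ht.1 (ne_neg_of_pos hs ht) (not_le.1 hp) a b
        have h3 : e (s + t) (a * b) ∈ RGD.Sup X (SumR cs h s t) :=
          RGD.le_Sup (S := SumR cs h s t) ⟨h1, 1, 1, by norm_num, by norm_num, by rw [one_smul, one_smul]⟩
            (S.mem h1 _)
        rcases h2 with h2 | ⟨hzr, h2⟩
        · rw [h2]; exact h3
        · rw [h2]
          refine mul_mem h3 (RGD.le_Sup (S := SumR cs h s t) ?_ (S.mem hzr _))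
          rcases hz with rfl | rfl
          · exact ⟨hzr, 2, 1, by norm_num, by norm_num, by rw [one_smul]⟩
          · exact ⟨hzr, 1, 2, by norm_num, by norm_num, by rw [one_smul]⟩
  cst x hx y hy hp := by
    have D := S.data
    refine ⟨(lead_sys h6 D hx.1 hy.1 (ne_neg_of_pos hx hy) hp 0 0).1, fun a ha ha1 b hb hb1 => ?_⟩
    obtain ⟨t, ht, rfl⟩ := S.exists_e hx.1 ha ha1
    obtain ⟨s, hs, rfl⟩ := S.exists_e hy.1 hb hb1
    obtain ⟨h1, z, v, hz, h2⟩ := lead_sys h6 D hx.1 hy.1 (ne_neg_of_pos hx hy) hp t s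
    refine ⟨e (x + y) (t * s), S.mem h1 _, D.ne_one h1 (mul_ne_zero ht hs), ?_⟩
    rcases h2 with h2 | ⟨hzr, h2⟩
    · exact ⟨1, one_mem _, by rw [h2, mul_one]⟩
    · refine ⟨e z v, RGD.le_Sup (S := SumR' cs h x y) ?_ (S.mem hzr _), h2⟩
      rcases hz with rfl | rfl
      · exact ⟨hzr, 2, 1, by norm_num, by norm_num, by norm_num, by rw [one_smul]⟩
      · exact ⟨hzr, 1, 2, by norm_num, by norm_num, by norm_num, by rw [one_smul]⟩

end Sys

/-- unique factorisation modulo the filtration -/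
theorem Obt.inf_bot [Finite W] {p : ℕ} (O : Obt cs h X) (R : RGD cs h p T n X) {f : (I → ℤ) →+ ℤ}
    (hf : ∀ i, 0 < f (sr i)) : ∀ r ∈ RGD.Pos cs h, X r ⊓ F cs h X f (f r + 1) = ⊥ := by
  intro r hr
  have h1 : X r = RGD.Sup X {r} := by
    apply le_antisymm
    · exact RGD.le_Sup (S := {r}) rfl
    · exact RGD.Sup_le fun z hz => by rw [Set.mem_singleton_iff.1 hz]
  have h2 : RGD.Sup X (∅ : Set (I → ℤ)) = ⊥ := le_bot_iff.1 (RGD.Sup_le fun z hz => absurd hz (Set.notMem_empty z))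
  unfold F
  rw [h1, Nodes.Unique.inf_eq R (Set.singleton_subset_iff.2 hr) (fun z hz => hz.1) ?_ ?_]
  · have h3 : ({r} : Set (I → ℤ)) ∩ {z | z ∈ RGD.Pos cs h ∧ f r + 1 ≤ f z} = ∅ := by
      rw [Set.eq_empty_iff_forall_notMem]
      rintro z ⟨hz, -, hz2⟩
      rw [Set.mem_singleton_iff.1 hz] at hz2
      omega
    rw [h3, h2]
  · intro x hx y hy z hz
    rw [Set.mem_singleton_iff] at hx hy
    subst hx hy
    exact Nodes.Unique.btwn_self hr.1 hz
  · rintro x ⟨hx, hx2⟩ y ⟨hy, hy2⟩ z hz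
    by_cases hxy : x = y
    · subst hxy
      rw [Nodes.Unique.btwn_self hx.1 hz]
      exact ⟨hx, hx2⟩
    · have hz0 : z ∈ RGD.Pos cs h := ⟨hz.1, RGD.nonneg_of_btwn hx.2 hy.2 hz⟩
      refine ⟨hz0, ?_⟩
      have h4 := f_pos hf hr
      rcases btwn_cases O.six hx.1 hy.1 hxy (ne_neg_of_pos hx hy) hz with ⟨-, e | e⟩ | ⟨-, -, e⟩ | ⟨-, -, e | e⟩ |
        ⟨-, -, e | e⟩
      all_goals
        have e' := congrArg f e
        simp only [map_add, map_zsmul, smul_eq_mul] at e'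
        omega

end General

section Row

variable {I W Y V : Type*} [Fintype I] [DecidableEq I] [Group W] [Group Y] [AddCommGroup V]
    [Module (ZMod 2) V] {M : CoxeterMatrix I} {cs : CoxeterSystem M W} {A : I → I → ℤ} {h : IsCartan M A}
    {T : Subgroup Y} {n : I → Y} {X : (I → ℤ) → Subgroup Y} {ρ : Y →* (V ≃ₗ[ZMod 2] V)}
    {b : LinearMap.BilinForm (ZMod 2) V} {a : V} {D : Submodule (ZMod 2) V} {X0 : Subgroup Y} {w : ℕ}

/-- the weight with value `1` at `α_k` and `2` at the other simple roots -/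
def wt (k : I) : (I → ℤ) →+ ℤ where
  toFun x := ∑ j, x j * (if j = k then 1 else 2)
  map_zero' := by simp
  map_add' x y := by
    rw [← Finset.sum_add_distrib]
    exact Finset.sum_congr rfl fun j _ => by rw [Pi.add_apply, add_mul]

theorem wt_apply (k : I) (x : I → ℤ) : wt k x = ∑ j, x j * (if j = k then 1 else 2) := rfl

theorem wt_sr (k i : I) : wt k (sr i) = if i = k then 1 else 2 := by
  rw [wt_apply, Finset.sum_eq_single i]
  · rw [sr_self, one_mul]
  · intro j _ hj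
    rw [sr_ne hj, zero_mul]
  · intro hi; exact absurd (Finset.mem_univ i) hi

theorem wt_pos (k i : I) : 0 < wt k (sr i) := by
  rw [wt_sr]; split_ifs <;> norm_num

theorem two_le_wt {k j : I} (hj : j ≠ k) {x : I → ℤ} (hx : 0 ≤ x) (hxj : 0 < x j) : 2 ≤ wt k x := by
  rw [wt_apply]
  have h1 : x j * (if j = k then 1 else 2) ≤ ∑ j, x j * (if j = k then 1 else 2) :=
    Finset.single_le_sum (f := fun j => x j * (if j = k then 1 else 2)) (fun i _ => by
      have := hx i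
      simp only [Pi.zero_apply] at this
      split_ifs <;> omega) (Finset.mem_univ j)
  rw [if_neg hj] at h1
  omega

/-- **the simple root of a node moving `a` is a leading root of `X0`** (no hypothesis on the type) -/
theorem idl_sr [Finite W] [Finite Y] (R : Row cs h T n X ρ b a D X0 w) {k : I} (hk : k ∈ Mv ρ n a) :
    Idl cs h X (wt k) X0 (sr k) := by
  have hP : (sr k : I → ℤ) ∈ RGD.Pos cs h := ⟨isRoot_sr cs h k, sr_nonneg k⟩
  obtain ⟨v, hv, hv1⟩ := Cfsg.Agent.KFacts.RgdPerf.exists_ne R.rgd hP.1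
  obtain ⟨x, hx, ho⟩ := thmA R.core (K := {k}) (Set.singleton_subset_iff.2 hk) v (RGD.le_Sup hP hv)
  refine ⟨x, hx, hP, v, hv, hv1, v⁻¹ * x, ?_, by group⟩
  refine RGD.Sup_mono (fun z hz => ?_) ho
  obtain ⟨hz, hz0, j, hj, hzj⟩ := hz
  refine ⟨⟨hz, hz0⟩, ?_⟩
  have h1 : j ≠ k := fun e => hj (by rw [e]; exact Set.mem_singleton k)
  rw [wt_sr, if_pos rfl]
  exact two_le_wt h1 hz0 hzj

/-- the leading roots of `X0` are closed under obtuse sums with positive roots -/
theorem idl_add [Finite W] [Finite Y] (R : Row cs h T n X ρ b a D X0 w) (O : Obt cs h X) {f : (I → ℤ) →+ ℤ}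
    (hf : ∀ i, 0 < f (sr i)) {r s : I → ℤ} (hr : Idl cs h X f X0 r) (hs : s ∈ RGD.Pos cs h)
    (hp : cpr cs h s r < 0) : Idl cs h X f X0 (r + s) := by
  have hr0 : r ∈ RGD.Pos cs h := by
    obtain ⟨x, -, hx⟩ := hr
    exact hx.1
  exact Idl.add O.strict hf R.rgd (fun g hg x hx => R.norm g (R.fixB g (RGD.U_le_B hg)) x hx) hr hs
    (O.cst r hr0 s hs hp)

/-- the leading roots of `X0` are not at an obtuse angle -/
theorem idl_false [Finite W] [Finite Y] (R : Row cs h T n X ρ b a D X0 w) (O : Obt cs h X) {f : (I → ℤ) →+ ℤ}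
    (hf : ∀ i, 0 < f (sr i)) {r s : I → ℤ} (hr : Idl cs h X f X0 r) (hs : Idl cs h X f X0 s)
    (hp : cpr cs h s r < 0) : False := by
  have hr0 : r ∈ RGD.Pos cs h := by
    obtain ⟨x, -, hx⟩ := hr
    exact hx.1
  have hs0 : s ∈ RGD.Pos cs h := by
    obtain ⟨x, -, hx⟩ := hs
    exact hx.1
  exact Idl.false O.strict hf (O.inf_bot R.rgd hf) (fun _ hx _ hy => Cov.comm_X0 R hx hy) hr hs
    (O.cst r hr0 s hs0 hp)

end Row

end Cfsg.Agent.Omega.EH3.Kf.Obt

end

section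


/-!
# EH3, Lie rows in characteristic 2: `F_4(q)` has no row (helper134)

* `false_of_obt` : no `Row` of type `F_4` (leading roots);
* `FFour.false` : root groups of order `2`;
* `kfRow` : `F_4(q)`, all even `q`.
-/

set_option autoImplicit false
set_option linter.unusedSectionVars false

namespace Cfsg.Agent.Omega.EH3.Kf.FFour

open CoxeterSystem Cfsg.Agent.ChevalleyStructure.CoxeterGeom Cfsg.Agent.Tits.Roots Cfsg.Agent.Tits.Core
  Cfsg.Agent.Tits.RootComb Cfsg.Agent.Nodes.Comb Cfsg.Agent.Nodes.Reps Cfsg.Agent.Nodes.BNOf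
  Cfsg.Agent.Nodes.StabComb Cfsg.Agent.Nodes.LeviDec Cfsg.Agent.Nodes.Coroot
  Cfsg.Agent.Omega.EH3.Kf.Lead Cfsg.Agent.Omega.EH3.Kf.Base Cfsg.Agent.Omega.EH3.Kf.Two
  Cfsg.Agent.Omega.EH3.Kf.ThmA Cfsg.Agent.Omega.EH3.Kf.Obt Cfsg.Agent.Omega.EH3.Kf.FamRow
open Cfsg.Lie Cfsg.Agent.ChevalleyStructure Cfsg.Agent.ChevalleyStructure.CoxeterGeomTypes Cfsg.Agent.Nodes.RGDChev
  Cfsg.Agent.Nodes.KindChev
open scoped commutatorElement

/-! ### The root system of type `F_4` (nodes `0`, `1` short) -/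

/-- positive roots -/
def Rt (x : Fin 4 → ℤ) : Prop := (∃ r ∈ Finset.range 48, ∀ i, vec chevF4 4 r i = x i) ∧ ∀ i, 0 ≤ x i

instance (x : Fin 4 → ℤ) : Decidable (Rt x) := by unfold Rt; infer_instance

/-- `x`, `y` are positive roots with an obtuse angle and sum `z` -/
def Lk (x y z : Fin 4 → ℤ) : Prop := Rt x ∧ Rt y ∧ (∀ i, x i + y i = z i) ∧
  0 < qf (cartanOf chevF4 4) Nodes.KindF.d x x ∧ qf (cartanOf chevF4 4) Nodes.KindF.d y x < 0

instance (x y z : Fin 4 → ℤ) : Decidable (Lk x y z) := by unfold Lk qf pairing; infer_instance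

set_option backward.isDefEq.respectTransparency false in
theorem table :
    (Lk ![0, 0, 0, 1] ![0, 0, 1, 0] ![0, 0, 1, 1] ∧ Lk ![0, 0, 1, 1] ![0, 2, 1, 0] ![0, 2, 2, 1] ∧
      Lk ![0, 2, 2, 1] ![2, 2, 1, 0] ![2, 4, 3, 1] ∧ Lk ![0, 0, 0, 1] ![2, 4, 3, 1] ![2, 4, 3, 2]) ∧
    (Lk ![1, 0, 0, 0] ![0, 1, 0, 0] ![1, 1, 0, 0] ∧ Lk ![1, 1, 0, 0] ![0, 1, 1, 0] ![1, 2, 1, 0] ∧
      Lk ![1, 2, 1, 0] ![0, 1, 1, 1] ![1, 3, 2, 1] ∧ Lk ![1, 0, 0, 0] ![1, 3, 2, 1] ![2, 3, 2, 1]) ∧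
    (Lk ![0, 1, 0, 0] ![1, 0, 0, 0] ![1, 1, 0, 0] ∧ Lk ![0, 1, 0, 0] ![0, 0, 1, 0] ![0, 1, 1, 0] ∧
      Lk ![1, 1, 0, 0] ![0, 1, 1, 0] ![1, 2, 1, 0]) ∧
    (Lk ![0, 0, 1, 0] ![0, 1, 0, 0] ![0, 1, 1, 0] ∧ Lk ![0, 0, 1, 0] ![0, 0, 0, 1] ![0, 0, 1, 1] ∧
      Lk ![0, 0, 1, 1] ![0, 1, 0, 0] ![0, 1, 1, 1] ∧ Lk ![0, 1, 1, 0] ![1, 0, 0, 0] ![1, 1, 1, 0] ∧
      Lk ![1, 1, 1, 0] ![0, 1, 1, 1] ![1, 2, 2, 1]) := by
  decide +kernel

set_option backward.isDefEq.respectTransparency false in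
theorem hd : ∀ i j, Nodes.KindF.d i * cartanOf chevF4 4 i j = Nodes.KindF.d j * cartanOf chevF4 4 j i := by
  decide +kernel

theorem six : ∀ i j, CoxeterMatrix.F₄ i j ≠ 6 := fun i j => by fin_cases i <;> fin_cases j <;> decide

variable {W Y V : Type*} [Group W] [Group Y] [AddCommGroup V] [Module (ZMod 2) V]
    {cs : CoxeterSystem CoxeterMatrix.F₄ W} {h : IsCartan CoxeterMatrix.F₄ (cartanOf chevF4 4)}
    {T : Subgroup Y} {n : Fin 4 → Y} {X : (Fin 4 → ℤ) → Subgroup Y} {ρ : Y →* (V ≃ₗ[ZMod 2] V)}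
    {b : LinearMap.BilinForm (ZMod 2) V} {a : V} {D : Submodule (ZMod 2) V} {X0 : Subgroup Y} {w : ℕ}

theorem Rt.pos {x : Fin 4 → ℤ} (hx : Rt x) : x ∈ RGD.Pos cs h := by
  obtain ⟨⟨r, hr, e⟩, h0⟩ := hx
  exact ⟨(isRoot_iff Nodes.KindF.isType cs x).2 ⟨r, Finset.mem_range.1 hr, funext e⟩, h0⟩

theorem Lk.cpr_neg [Finite W] {x y z : Fin 4 → ℤ} (H : Lk x y z) : cpr cs h y x < 0 := by
  obtain ⟨hx, hy, -, h1, h2⟩ := H
  have h3 := cpr_mul_qf cs h hd y (Rt.pos (cs := cs) (h := h) hx).1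
  by_contra hcon
  push Not at hcon
  have h4 := mul_nonneg hcon h1.le
  rw [h3] at h4
  omega

variable [Finite W] [Finite Y]

theorem Lk.idl (R : Row cs h T n X ρ b a D X0 w) (O : Obt cs h X) {k : Fin 4} {x y z : Fin 4 → ℤ}
    (H : Lk x y z) (hx : Idl cs h X (wt k) X0 x) : Idl cs h X (wt k) X0 z := by
  have h1 : z = x + y := funext fun i => (H.2.2.1 i).symm
  rw [h1]
  exact idl_add R O (wt_pos k) hx H.2.1.pos H.cpr_neg

theorem Lk.false (R : Row cs h T n X ρ b a D X0 w) (O : Obt cs h X) {k : Fin 4} {x y z : Fin 4 → ℤ}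
    (H : Lk x y z) (hx : Idl cs h X (wt k) X0 x) (hy : Idl cs h X (wt k) X0 y) : False :=
  idl_false R O (wt_pos k) hx hy H.cpr_neg

/-- **No `Row` of type `F_4`.** -/
theorem false_of_obt (R : Row cs h T n X ρ b a D X0 w) (O : Obt cs h X) : False := by
  obtain ⟨⟨a1, a2, a3, a4⟩, ⟨b1, b2, b3, b4⟩, ⟨c1, c2, c3⟩, ⟨d1, d2, d3, d4, d5⟩⟩ := table
  obtain ⟨k, hk⟩ := Lev.exists_mv R
  have h0 := idl_sr R hk
  have e0 : (sr 0 : Fin 4 → ℤ) = ![1, 0, 0, 0] := by decide
  have e1 : (sr 1 : Fin 4 → ℤ) = ![0, 1, 0, 0] := by decide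
  have e2 : (sr 2 : Fin 4 → ℤ) = ![0, 0, 1, 0] := by decide
  have e3 : (sr 3 : Fin 4 → ℤ) = ![0, 0, 0, 1] := by decide
  fin_cases k
  · have h0 : Idl cs h X (wt 0) X0 ![1, 0, 0, 0] := e0 ▸ h0
    exact b4.false R O h0 (b3.idl R O (b2.idl R O (b1.idl R O h0)))
  · have h0 : Idl cs h X (wt 1) X0 ![0, 1, 0, 0] := e1 ▸ h0
    exact c3.false R O (c1.idl R O h0) (c2.idl R O h0)
  · have h0 : Idl cs h X (wt 2) X0 ![0, 0, 1, 0] := e2 ▸ h0
    exact d5.false R O (d4.idl R O (d1.idl R O h0)) (d3.idl R O (d2.idl R O h0))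
  · have h0 : Idl cs h X (wt 3) X0 ![0, 0, 0, 1] := e3 ▸ h0
    exact a4.false R O h0 (a3.idl R O (a2.idl R O (a1.idl R O h0)))

section Family

universe u v

variable (K : Type v) [Field K] [Finite K] [CharP K 2]

instance finite_FF : Finite CoxeterMatrix.F₄.Group := finite_W Nodes.KindF.isType CoxeterMatrix.F₄.toCoxeterSystem

/-- **`F_4(q)`, `q` even, has no row.** -/
theorem rowEnd : RowEnd.{u} CoxeterMatrix.F₄ Nodes.KindF.isType.isCartan
    ((chevF4.diagonalSubgroup K).subgroupOf (chevF4.group K))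
    (fun i => (⟨nn Nodes.KindF.isType K i, nn_mem_group Nodes.KindF.isType i⟩ : ↥(chevF4.group K)))
    (fun x => (XV chevF4 4 K x).subgroupOf (chevF4.group K)) := by
  intro V _ _ ρ b a D X0 w R
  exact (false_of_obt R (Obt.of_sys six
    (KFacts.ChevTwoInst.sys (K := K) Nodes.KindF.isType KFacts.ChevTwoInst.twoOK_F4
      CoxeterMatrix.F₄.toCoxeterSystem))).elim

theorem kfRow : KfRow.{u} ↥(chevF4.group K) :=
  ⟨4, CoxeterMatrix.F₄, _, Nodes.KindF.isType.isCartan, _, _, _, FamChev.bd Nodes.KindF.isType, rowEnd K⟩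

end Family

end Cfsg.Agent.Omega.EH3.Kf.FFour

end

end

-- merged: Cfsg.Agent.Mrg.Omega.EH3.Kf.TablePlug
section

section


/-!
# EH3, Lie rows: the table, plugged (helper227)

`Open` : the fields of `Table.Rows` which are missing; `rows : Open → Table.Rows`.
-/

set_option autoImplicit false

namespace Cfsg.Agent.Omega.EH3.Kf.TablePlug

open Cfsg Cfsg.Agent.Omega.EH3.Kf.Main

universe u

/-- the missing rows -/
structure Open : Prop where
  psp : ∀ (F : Type) [Field F] [Fintype F] [CharP F 2] (m : ℕ), 2 ≤ m → (m = 2 → 3 ≤ Fintype.card F) →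
    Fam.{u} (PSp m F)
  omm : ∀ (F : Type) [Field F] [Fintype F] [CharP F 2] (m : ℕ) (a b : F), 4 ≤ m →
    (∀ z₁ z₂ : F, z₁ ^ 2 + a * z₁ * z₂ + b * z₂ ^ 2 = 0 → z₁ = 0 ∧ z₂ = 0) →
    Fam.{u} (POmega F (quadFormMinus (m - 1) F a b))
  twE6 : ∀ (F : Type) [Field F] [Fintype F] [CharP F 2] (q : ℕ), IsPrimePow q → Fintype.card F = q ^ 2 →
    Fam.{u} (Lie.twistedE6 F q)

theorem rows (O : Open.{u}) : Table.Rows.{u} where
  psl := TableSL.psl
  psl2 F _ _ _ _ := Fam.of_kfRow (SLFam.kfRow_PSL (n := 1) F)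
  psp := O.psp
  psuEven := TwUni.psuEven
  psuOdd _ _ _ _ _ _ hF hm := Or.inr (UOdd.kfRowU hF hm)
  psu3 _ _ _ _ _ hF hq := Fam.of_row (Rank1.UThree.row_u3' hF hq (MulEquiv.refl _))
  omp := TableSL.omp
  omm := O.omm
  g2 _ _ _ _ h := Fam.of_kfRow (FamG2.kfRow_of_equiv h (MulEquiv.refl _))
  f4 F _ _ _ := Fam.of_kfRow (FFour.kfRow F)
  e6 := TableSL.e6
  e7 := TableSL.e7
  e8 := TableSL.e8
  twE6 := O.twE6
  twD4 _ _ _ _ _ hq hF := Fam.of_kfRow (FamD4.kfRow hq hF)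
  sz _ _ h := Fam.of_row (Rank1.row_sz h)
  ree _ _ h := Fam.of_row (TwF4Row.row_twF4 h)

end Cfsg.Agent.Omega.EH3.Kf.TablePlug

end

section


/-!
# EH3, Lie rows in characteristic 2: `KfRow (PSp_{2n}(q))` (helper924)

* `bd_PSp` : the family data of `PSp n F`, `F` finite of characteristic 2, `n ≥ 1`;
* `card_X` : the root groups have order `q`;
* `kfRow_big` : `KfRow (PSp n F)` for `n ≥ 2`, `q ≥ 4`;
* `kfRow_of` : all `q`, given the row for `q = 2`.
-/

set_option autoImplicit false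
set_option linter.unusedSectionVars false

namespace Cfsg.Agent.Omega.EH3.Kf.SpRow

open Cfsg
open CoxeterSystem Cfsg.Agent.ChevalleyStructure.CoxeterGeom Cfsg.Agent.Tits.Roots Cfsg.Agent.Tits.Core
  Cfsg.Agent.Tits.RootComb Cfsg.Agent.Nodes.Comb Cfsg.Agent.Nodes.Reps Cfsg.Agent.Nodes.BNOf
  Cfsg.Agent.Nodes.TypeC Cfsg.Agent.Nodes.KindBC Cfsg.Agent.Nodes.Coroot Cfsg.Agent.KFacts.ChevTwo
  Cfsg.Agent.KFacts Cfsg.Agent.KFacts.SysSp
  Cfsg.Agent.Omega.EH3.Kf.Base Cfsg.Agent.Omega.EH3.Kf.Goal Cfsg.Agent.Omega.EH3.Kf.FamRow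
  Cfsg.Agent.Nodes Cfsg.Agent.Nodes.WittAll Cfsg.Agent.TitsThree
open scoped commutatorElement

universe u v

/-- `Bd` from `Sys` and trivial centre. -/
theorem bd_of {Y K : Type*} [Group Y] [Field K] {l : ℕ} {M : CoxeterMatrix (Fin l)} [Finite M.Group]
    {A : Fin l → Fin l → ℤ} {h : IsCartan M A} {T : Subgroup Y} {n : Fin l → Y} {X : (Fin l → ℤ) → Subgroup Y}
    {e : (Fin l → ℤ) → K → Y} (R : RGD M.toCoxeterSystem h 2 T n X) (S : Sys R e)
    (hG : RGD.Sup X {x | IsRoot M.toCoxeterSystem h x} = ⊤)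
    (hN : RgdCent.NoCent M.toCoxeterSystem h T X) : Bd M h T n X where
  fin := inferInstance
  rgd := R
  gen := hG
  ab := by
    intro s hs t ht
    have h1 : s * t * s⁻¹ * t⁻¹ = 1 := by
      refine hN _ (mul_mem (mul_mem (mul_mem hs ht) (inv_mem hs)) (inv_mem ht)) fun b hb v hv => ?_
      obtain ⟨x, rfl⟩ := (S.mem_X b hb v).1 hv
      obtain ⟨c, hc⟩ : ∃ c : Kˣ, ∀ u, s * e b u * s⁻¹ = e b (c * u) := by
        obtain ⟨χ, hχ⟩ := S.chi s hs
        exact ⟨_, hχ b hb⟩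
      obtain ⟨d, hd⟩ : ∃ d : Kˣ, ∀ u, t * e b u * t⁻¹ = e b (d * u) := by
        obtain ⟨χ, hχ⟩ := S.chi t ht
        exact ⟨_, hχ b hb⟩
      have hs' : ∀ x, s⁻¹ * e b x * s = e b ((c⁻¹ : Kˣ) * x) := fun x => by
        have h2 := hc ((c⁻¹ : Kˣ) * x)
        rw [← mul_assoc, Units.mul_inv, one_mul] at h2
        rw [← h2]; group
      have ht' : ∀ x, t⁻¹ * e b x * t = e b ((d⁻¹ : Kˣ) * x) := fun x => by
        have h2 := hd ((d⁻¹ : Kˣ) * x)
        rw [← mul_assoc, Units.mul_inv, one_mul] at h2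
        rw [← h2]; group
      have h3 : s * t * s⁻¹ * t⁻¹ * e b x * (s * t * s⁻¹ * t⁻¹)⁻¹ = e b x := by
        have h4 : s * t * s⁻¹ * t⁻¹ * e b x * (s * t * s⁻¹ * t⁻¹)⁻¹ =
            s * (t * (s⁻¹ * (t⁻¹ * e b x * t) * s) * t⁻¹) * s⁻¹ := by group
        rw [h4, ht', hs', hd, hc]
        congr 1
        have h5 : (c : K) * (d * ((c⁻¹ : Kˣ) * ((d⁻¹ : Kˣ) * x))) =
            ((c : K) * (c⁻¹ : Kˣ)) * (((d : K) * (d⁻¹ : Kˣ)) * x) := by ring
        rw [h5, Units.mul_inv, Units.mul_inv, one_mul, one_mul]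
      exact mul_inv_eq_iff_eq_mul.1 h3
    have h5 : s * t * s⁻¹ * t⁻¹ * t * s = t * s := by rw [h1, one_mul]
    simpa [mul_assoc] using h5
  el i u hu := by
    obtain ⟨t, rfl⟩ := (S.mem_X _ (isRoot_sr _ h i) u).1 hu
    exact S.data.sq (isRoot_sr _ h i) t

theorem card_X {Y K : Type*} [Group Y] [Field K] {l : ℕ} {M : CoxeterMatrix (Fin l)} {W : Type*} [Group W] [Finite W]
    {cs : CoxeterSystem M W} {A : Fin l → Fin l → ℤ} {h : IsCartan M A} {T : Subgroup Y} {n : Fin l → Y}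
    {X : (Fin l → ℤ) → Subgroup Y} {e : (Fin l → ℤ) → K → Y} {R : RGD cs h 2 T n X} (S : Sys R e)
    {x : Fin l → ℤ} (hx : IsRoot cs h x) : Nat.card (X x) = Nat.card K := by
  refine (Nat.card_congr (Equiv.ofBijective (fun t : K => (⟨e x t, S.mem hx t⟩ : X x)) ⟨?_, ?_⟩)).symm
  · intro t u htu
    exact S.data.injective hx (congrArg Subtype.val htu)
  · rintro ⟨g, hg⟩
    obtain ⟨t, rfl⟩ := (S.mem_X x hx g).1 hg
    exact ⟨t, rfl⟩

/-- the order of a finite field of characteristic two -/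
theorem exists_card (F : Type*) [Field F] [Finite F] [CharP F 2] : ∃ m, 1 ≤ m ∧ Nat.card F = 2 ^ m := by
  have := Fintype.ofFinite F
  obtain ⟨m, -, hm⟩ := FiniteField.card F 2
  exact ⟨m, m.2, by rw [Nat.card_eq_fintype_card]; exact hm⟩

section

variable (n : ℕ) (F : Type v) [Field F] [Finite F] [CharP F 2]

theorem finite_Y : Finite (PSp n F) := Quotient.finite _

/-- The data of `PSp n F`. -/
theorem bd_PSp (hn : 0 < n) : Bd (CoxeterMatrix.B n) (isCartan n) (WittModel.T (KInstSp.model n F))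
    (fun i => (KInstSp.model n F).φ ⟨WittRGD.nn (SpIdent.frame n F) (SpIdent.adm 1) i,
      WittAll.nn_mem (AmbT.of_amb WittU.amb_Sp 2) (SpIdent.adm 1) i⟩) (WittModel.X (KInstSp.model n F)) := by
  have : Fact (Nat.Prime 2) := ⟨Nat.prime_two⟩
  have : Finite (CoxeterMatrix.B n).Group := finite_W (CoxeterMatrix.B n).toCoxeterSystem
  exact bd_of _ (sys_PSp n F (CoxeterMatrix.B n).toCoxeterSystem) (sup_eq_top_PSp hn F _) (noCent_PSp n F _)

/-- The row for `q ≥ 4`. -/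
theorem rowEnd_big (hn : 2 ≤ n) (hF : 2 < Nat.card F) : RowEnd.{u} (CoxeterMatrix.B n) (isCartan n)
    (WittModel.T (KInstSp.model n F))
    (fun i => (KInstSp.model n F).φ ⟨WittRGD.nn (SpIdent.frame n F) (SpIdent.adm 1) i,
      WittAll.nn_mem (AmbT.of_amb WittU.amb_Sp 2) (SpIdent.adm 1) i⟩) (WittModel.X (KInstSp.model n F)) := by
  intro V _ _ ρ b a D X0 w R
  exfalso
  have : Fact (Nat.Prime 2) := ⟨Nat.prime_two⟩
  have : Finite (PSp n F) := finite_Y n F
  have : Finite (CoxeterMatrix.B n).Group := finite_W (CoxeterMatrix.B n).toCoxeterSystem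
  obtain ⟨m, hm, hc⟩ := exists_card F
  have hm2 : 2 ≤ m := by
    by_contra hlt
    have : m = 1 := by omega
    subst this
    omega
  exact SpBig.false_of_sys hn R (sys_PSp n F (CoxeterMatrix.B n).toCoxeterSystem) hm2 hc

/-- **`KfRow (PSp_{2n}(q))`, `n ≥ 2`, `q ≥ 4` even.** -/
theorem kfRow_big (hn : 2 ≤ n) (hF : 2 < Nat.card F) : KfRow.{u} (PSp n F) :=
  ⟨n, _, _, _, _, _, _, bd_PSp n F (by omega), rowEnd_big n F hn hF⟩

/-- All `q`, given the row for `q = 2`. -/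
theorem kfRow_of (hn : 2 ≤ n) (h2 : ∀ (V : Type u) [AddCommGroup V] [Module (ZMod 2) V]
    (T : Subgroup (PSp n F)) (nn : Fin n → PSp n F) (X : (Fin n → ℤ) → Subgroup (PSp n F))
    (ρ : PSp n F →* (V ≃ₗ[ZMod 2] V)) (b : LinearMap.BilinForm (ZMod 2) V) (a : V) (D : Submodule (ZMod 2) V)
    (X0 : Subgroup (PSp n F)) (w : ℕ),
    Row (CoxeterMatrix.B n).toCoxeterSystem (isCartan n) T nn X ρ b a D X0 w →
    (∀ i, Nat.card (X (sr i)) = 2) → False) : KfRow.{u} (PSp n F) := by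
  by_cases hF : 2 < Nat.card F
  · exact kfRow_big n F hn hF
  · have : Fact (Nat.Prime 2) := ⟨Nat.prime_two⟩
    obtain ⟨m, hm, hc⟩ := exists_card F
    have hc2 : Nat.card F = 2 := by
      have h3 : 2 ^ 1 ≤ 2 ^ m := Nat.pow_le_pow_right (by norm_num) hm
      omega
    refine ⟨n, _, _, _, _, _, _, bd_PSp n F (by omega), ?_⟩
    intro V _ _ ρ b a D X0 w R
    exfalso
    have : Finite (CoxeterMatrix.B n).Group := finite_W (CoxeterMatrix.B n).toCoxeterSystem
    refine h2 V _ _ _ ρ b a D X0 w R fun i => ?_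
    rw [card_X (sys_PSp n F (CoxeterMatrix.B n).toCoxeterSystem) (isRoot_sr _ _ i), hc2]

end

end Cfsg.Agent.Omega.EH3.Kf.SpRow

end

section


/-!
# Root groups of order 2: the action on `V` (helper532)

* `mu X x = u x * u (-x) * u x` : the canonical representative of the reflection in `x`; `rp_mu`, `mu_conj`, `conj_mu`;
* `Mr X ρ a r` : `(u r - 1) (mu r a) = a`; true for the moved nodes (`Mr.base`) and conjugates (`Mr.refl`);
* `comm_Sup` : commutators with a fixed element;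
* `exists_x` : the element of `X0` over `u (sr k)`.
-/

set_option autoImplicit false
set_option linter.unusedSectionVars false

namespace Cfsg.Agent.Omega.EH3.Kf.TwoV

open CoxeterSystem Cfsg.Agent.ChevalleyStructure.CoxeterGeom Cfsg.Agent.Tits.Roots Cfsg.Agent.Tits.Core
  Cfsg.Agent.Tits.RootComb Cfsg.Agent.Nodes.Comb Cfsg.Agent.Nodes.Reps Cfsg.Agent.Nodes.BNOf
  Cfsg.Agent.Nodes.StabComb Cfsg.Agent.Nodes.Bruhat Cfsg.Agent.Nodes.OppDec Cfsg.Agent.Nodes.LeviDec
  Cfsg.Agent.Nodes.Coroot Cfsg.Agent.Nodes.PairOf Cfsg.Agent.Nodes.MuSq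
  Cfsg.Agent.Omega.EH3.Kf.Base Cfsg.Agent.Omega.EH3.Kf.Nm Cfsg.Agent.Omega.EH3.Kf.Two
open scoped commutatorElement

variable {I W Y : Type*} [Fintype I] [DecidableEq I] [Group W] [Group Y] {M : CoxeterMatrix I}
  {cs : CoxeterSystem M W} {A : I → I → ℤ} {h : IsCartan M A} {T : Subgroup Y} {n : I → Y}
  {X : (I → ℤ) → Subgroup Y}

/-- the reflection element -/
noncomputable def mu (X : (I → ℤ) → Subgroup Y) (x : I → ℤ) : Y := u X x * u X (-x) * u X x

section

variable (D : Dat cs h T n X)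

include D

theorem mu_sq {x : I → ℤ} (hx : IsRoot cs h x) : mu X x * mu X x = 1 := by
  unfold mu
  calc u X x * u X (-x) * u X x * (u X x * u X (-x) * u X x)
      = u X x * u X (-x) * (u X x * u X x) * u X (-x) * u X x := by group
    _ = u X x * (u X (-x) * u X (-x)) * u X x := by rw [D.u_sq hx]; group
    _ = 1 := by rw [D.u_sq hx.neg, mul_one, D.u_sq hx]

theorem mu_inv {x : I → ℤ} (hx : IsRoot cs h x) : (mu X x)⁻¹ = mu X x := inv_eq_of_mul_eq_one_right (mu_sq D hx)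

theorem rp_mu [Finite W] {x : I → ℤ} (hx : IsRoot cs h x) :
    ∃ w, Rp cs D.rgd.nsys w (mu X x) ∧ w⁻¹ = w ∧ ∀ z, rep cs h w z = z - cpr cs h z x • x := by
  have := Fintype.ofFinite W
  obtain ⟨g, hg, g', hg', w, hw, hwi, hr⟩ := exists_mu' D.rgd hx.neg (D.u_mem hx.neg) (D.u_ne hx.neg)
  rw [neg_neg] at hg hg'
  have hr' : ∀ z, rep cs h w z = z - cpr cs h z x • x := by
    intro z
    rw [hr, cpr_neg_right cs h z hx, neg_smul, smul_neg, neg_neg]
  have hxx : x ≠ -x := by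
    intro e
    have h1 : (2 : ℤ) • x = 0 := by
      rw [two_smul]
      nth_rewrite 2 [e]
      exact add_neg_cancel x
    exact hx.ne_zero ((smul_eq_zero.1 h1).resolve_left two_ne_zero)
  have hne : u X x ≠ u X (-x) := fun e => hxx (D.u_inj hx hx.neg e)
  have e1 : rep cs h w x = -x := by
    rw [hr', cpr_self cs h hx]; module
  have e2 : rep cs h w (-x) = x := by rw [map_neg, e1, neg_neg]
  have c1 := D.conj_u hw hx
  have c2 := D.conj_u hw hx.neg
  rw [e1] at c1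
  rw [e2] at c2
  have key : g = u X x ∧ g' = u X x := by
    rcases (D.mem_iff hx).1 hg with rfl | rfl <;> rcases (D.mem_iff hx).1 hg' with rfl | rfl
    · exfalso
      apply hne
      have h1 : 1 * u X (-x) * 1 * u X (-x) * (1 * u X (-x) * 1)⁻¹ = u X (-x) := by group
      rw [← c2, h1]
    · exfalso
      apply hne
      have h1 : 1 * u X (-x) * u X x * u X x * (1 * u X (-x) * u X x)⁻¹ = u X (-x) * u X x * (u X (-x))⁻¹ := by group
      rw [h1] at c1
      have h2 : u X x = (u X (-x))⁻¹ * (u X (-x) * u X x * (u X (-x))⁻¹) * u X (-x) := by group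
      rw [h2, c1]; group
    · exfalso
      apply hne
      have h1 : u X x * u X (-x) * 1 * u X (-x) * (u X x * u X (-x) * 1)⁻¹ = u X x * u X (-x) * (u X x)⁻¹ := by group
      rw [h1] at c2
      have h2 : u X (-x) = (u X x)⁻¹ * (u X x * u X (-x) * (u X x)⁻¹) * u X x := by group
      rw [h2, c2]; group
    · exact ⟨rfl, rfl⟩
  rw [key.1, key.2] at hw
  exact ⟨w, hw, hwi, hr'⟩

/-- conjugation by the reflection element -/
theorem mu_conj [Finite W] {x y : I → ℤ} (hx : IsRoot cs h x) (hy : IsRoot cs h y) :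
    mu X x * u X y * (mu X x)⁻¹ = u X (y - cpr cs h y x • x) := by
  obtain ⟨w, hw, -, hr⟩ := rp_mu D hx
  rw [D.conj_u hw hy, hr]

theorem conj_mu {w : W} {k : Y} (hk : Rp cs D.rgd.nsys w k) {x : I → ℤ} (hx : IsRoot cs h x) :
    k * mu X x * k⁻¹ = mu X (rep cs h w x) := by
  unfold mu
  rw [← map_neg, ← D.conj_u hk hx, ← D.conj_u hk hx.neg]
  group

/-- reflection elements of reflections -/
theorem mu_conj_mu [Finite W] {x y : I → ℤ} (hx : IsRoot cs h x) (hy : IsRoot cs h y) :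
    mu X x * mu X y * (mu X x)⁻¹ = mu X (y - cpr cs h y x • x) := by
  obtain ⟨w, hw, -, hr⟩ := rp_mu D hx
  rw [conj_mu D hw hy, hr]

/-- orthogonal roots -/
theorem mu_comm_u [Finite W] {x y : I → ℤ} (hx : IsRoot cs h x) (hy : IsRoot cs h y) (h0 : cpr cs h y x = 0) :
    mu X x * u X y = u X y * mu X x := by
  have h1 := mu_conj D hx hy
  rw [h0, zero_smul, sub_zero] at h1
  exact mul_inv_eq_iff_eq_mul.1 h1

end

/-! ### Commutators -/

/-- commutators with a fixed element -/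
theorem comm_Sup {Q : Subgroup Y} {S : Set (I → ℤ)} {g : Y} (hQ : ∀ r ∈ S, ∀ a ∈ X r, ∀ q ∈ Q, a * q = q * a)
    (hg : ∀ r ∈ S, ∀ a ∈ X r, ⁅a, g⁆ ∈ Q) : ∀ s ∈ RGD.Sup X S, ⁅s, g⁆ ∈ Q := by
  let K : Subgroup Y :=
    { carrier := {s | ⁅s, g⁆ ∈ Q ∧ ∀ q ∈ Q, s * q = q * s}
      one_mem' := ⟨by rw [commutatorElement_one_left]; exact one_mem _, fun q _ => by rw [one_mul, mul_one]⟩
      mul_mem' := by
        rintro s t ⟨hs, hs'⟩ ⟨ht, ht'⟩
        refine ⟨?_, fun q hq => by rw [mul_assoc, ht' q hq, ← mul_assoc, hs' q hq, mul_assoc]⟩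
        have h1 : ⁅s * t, g⁆ = s * ⁅t, g⁆ * s⁻¹ * ⁅s, g⁆ := by
          rw [commutatorElement_def, commutatorElement_def, commutatorElement_def]; group
        rw [h1, hs' _ ht, mul_inv_cancel_right]
        exact mul_mem ht hs
      inv_mem' := by
        rintro s ⟨hs, hs'⟩
        have hc : ∀ q ∈ Q, s⁻¹ * q = q * s⁻¹ := fun q hq => by
          have := hs' q hq
          calc s⁻¹ * q = s⁻¹ * (q * s) * s⁻¹ := by group
            _ = q * s⁻¹ := by rw [← this]; group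
        refine ⟨?_, hc⟩
        have h1 : ⁅s⁻¹, g⁆ = s⁻¹ * ⁅s, g⁆⁻¹ * s := by
          rw [commutatorElement_def, commutatorElement_def]; group
        rw [h1, hc _ (inv_mem hs), inv_mul_cancel_right]
        exact inv_mem hs }
  have h1 : RGD.Sup X S ≤ K := RGD.Sup_le fun r hr a ha => ⟨hg r hr a ha, hQ r hr a ha⟩
  exact fun s hs => (h1 hs).1

/-- elements commuting with the generators -/
theorem comm_of_gen {S : Set (I → ℤ)} {g : Y} (hg : ∀ r ∈ S, ∀ a ∈ X r, a * g = g * a) :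
    ∀ s ∈ RGD.Sup X S, s * g = g * s := by
  have h1 : RGD.Sup X S ≤ Subgroup.centralizer {g} := RGD.Sup_le fun r hr a ha => by
    rw [Subgroup.mem_centralizer_singleton_iff]
    exact hg r hr a ha
  intro s hs
  exact Subgroup.mem_centralizer_singleton_iff.1 (h1 hs)

theorem comm_mul_left {s t g : Y} (ht : t * g = g * t) : ⁅s * t, g⁆ = ⁅s, g⁆ := by
  rw [commutatorElement_def, commutatorElement_def]
  calc s * t * g * (s * t)⁻¹ * g⁻¹ = s * (t * g) * t⁻¹ * s⁻¹ * g⁻¹ := by group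
    _ = s * g * s⁻¹ * g⁻¹ := by rw [ht]; group

/-! ### The action on `V` -/

section V

variable {V : Type*} [AddCommGroup V] [Module (ZMod 2) V] {ρ : Y →* (V ≃ₗ[ZMod 2] V)} {a : V}
  {b : LinearMap.BilinForm (ZMod 2) V} {DD : Submodule (ZMod 2) V} {X0 : Subgroup Y} {w0 : ℕ}

theorem vv (v : V) : v + v = 0 := by
  have : v + v = (2 : ZMod 2) • v := by rw [two_smul]
  rw [this, show (2 : ZMod 2) = 0 from rfl, zero_smul]

theorem eq_add_of {v x y : V} (e : v + x = y) : v = y + x := by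
  rw [← e, add_assoc, vv, add_zero]

theorem fix_mul {g k : Y} (hg : ρ g a = a) (hk : ρ k a = a) : ρ (g * k) a = a := by
  rw [rho_mul, hk, hg]

theorem fix_comm {g k : Y} (hg : ρ g a = a) (hk : ρ k a = a) : ρ ⁅g, k⁆ a = a := by
  rw [commutatorElement_def]
  exact fix_mul (fix_mul (fix_mul hg hk) (fix_inv hg)) (fix_inv hk)

theorem mu_fix {x : I → ℤ} (h1 : ρ (u X x) a = a) (h2 : ρ (u X (-x)) a = a) : ρ (mu X x) a = a :=
  fix_mul (fix_mul h1 h2) h1

/-- `(u r - 1) (mu r a) = a` -/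
def Mr (X : (I → ℤ) → Subgroup Y) (ρ : Y →* (V ≃ₗ[ZMod 2] V)) (a : V) (r : I → ℤ) : Prop :=
  ρ (u X r) (ρ (mu X r) a) = ρ (mu X r) a + a

section

variable (D : Dat cs h T n X)

include D

theorem Mr.base [Finite W] [Finite Y] (R : ThmA.Core cs h T n X ρ a X0) {i : I} (hi : ρ (n i) a ≠ a) :
    Mr X ρ a (sr i) := by
  classical
  have hr := isRoot_sr cs h i
  obtain ⟨w, hw, -, hrw⟩ := rp_mu D hr
  have hwi : w = cs.simple i := by
    apply rep_injective cs h
    refine LinearMap.ext fun z => ?_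
    rw [hrw, rep_simple, refl_apply, cpr_sr]
    congr 1
    funext k
    simp [sr, Pi.single_apply]
  subst hwi
  have h1 := (rp_simple cs D.rgd.nsys i).unique hw
  have h2 : ρ (mu X (sr i)) a = ρ (n i) a := by
    have e : mu X (sr i) = n i * ((n i)⁻¹ * mu X (sr i)) := by group
    rw [e, rho_mul, R.fixB _ (RGD.T_le_B h1)]
  unfold Mr
  rw [h2]
  have h3 := ThmA.nm_simple R hi
  unfold Nm at h3
  have h4 : fs (X (sr i)) = {1, u X (sr i)} := by
    ext g
    rw [mem_fs, D.mem_iff hr, Finset.mem_insert, Finset.mem_singleton]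
  rw [h4, Finset.sum_pair (Ne.symm (D.u_ne hr)), rho_one] at h3
  rw [add_comm] at h3
  rw [eq_add_of h3, add_comm]

theorem Mr.act {w : W} {k : Y} (hk : Rp cs D.rgd.nsys w k) (hka : ρ k a = a) {r : I → ℤ} (hr : IsRoot cs h r)
    (H : Mr X ρ a r) : Mr X ρ a (rep cs h w r) := by
  unfold Mr at H ⊢
  rw [← conj_mu D hk hr, ← D.conj_u hk hr]
  have e1 : ρ (k * mu X r * k⁻¹) a = ρ k (ρ (mu X r) a) := by
    rw [rho_mul, rho_mul, fix_inv hka]
  rw [e1]
  have e2 : ρ (k * u X r * k⁻¹) (ρ k (ρ (mu X r) a)) = ρ k (ρ (u X r) (ρ (mu X r) a)) := by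
    rw [rho_mul, rho_mul, rho_inv]
  rw [e2, H, map_add, hka]

theorem Mr.refl [Finite W] {r s : I → ℤ} (hr : IsRoot cs h r) (hs : IsRoot cs h s) (h1 : ρ (u X s) a = a)
    (h2 : ρ (u X (-s)) a = a) (H : Mr X ρ a r) : Mr X ρ a (r - cpr cs h r s • s) := by
  obtain ⟨w, hw, -, hrw⟩ := rp_mu D hs
  rw [← hrw]
  exact H.act D hw (mu_fix h1 h2) hr

theorem Mr.neg [Finite W] {r : I → ℤ} (hr : IsRoot cs h r) (H : Mr X ρ a r) : ρ (u X (-r)) a = ρ (mu X r) a + a := by
  have h1 : u X (-r) = mu X r * u X r * (mu X r)⁻¹ := by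
    rw [mu_conj D hr hr, cpr_self cs h hr]
    congr 1
    module
  rw [h1, mu_inv D hr, rho_mul, rho_mul, H, map_add, ← rho_mul, mu_sq D hr, rho_one, add_comm]

/-! ### Elements of `X0` -/

theorem fix_pos (R : Row cs h T n X ρ b a DD X0 w0) {x : I → ℤ} (hx : IsRoot cs h x) (h0 : 0 ≤ x) :
    ρ (u X x) a = a := R.fixB _ (RGD.X_le_B hx h0 (D.u_mem hx))

theorem fix_J [Finite W] (R : Row cs h T n X ρ b a DD X0 w0) {x : I → ℤ} (hx : x ∈ RootsJ cs h (Mv ρ n a)ᶜ) :
    ρ (u X x) a = a := Opp.PJ_fix R (LJ_le_PJ (X_le_LJ hx (D.u_mem hx.1)))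

theorem refl_mem [Finite W] (R : Row cs h T n X ρ b a DD X0 w0) {r s : I → ℤ} (hr : IsRoot cs h r)
    (hs : IsRoot cs h s) (h1 : ρ (u X s) a = a) (h2 : ρ (u X (-s)) a = a) (H : u X r ∈ X0) :
    u X (r - cpr cs h r s • s) ∈ X0 := by
  rw [← mu_conj D hs hr]
  exact R.norm _ (mu_fix h1 h2) _ H

omit D in
theorem comm_mem_X0 (R : Row cs h T n X ρ b a DD X0 w0) {x g : Y} (hx : x ∈ X0) (hg : ρ g a = a) : ⁅x, g⁆ ∈ X0 := by
  have h1 : ⁅x, g⁆ = x * (g * x⁻¹ * g⁻¹) := by rw [commutatorElement_def]; group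
  rw [h1]
  exact mul_mem hx (R.norm g hg _ (inv_mem hx))

/-- the element of `X0` over `u (sr k)` -/
theorem exists_x [Finite W] [Finite Y] (R : Row cs h T n X ρ b a DD X0 w0) {k : I} (hk : k ∈ Mv ρ n a) :
    ∃ s ∈ RGD.Sup X (NotJ cs h {k} ∩ NotJ cs h (Mv ρ n a)ᶜ), u X (sr k) * s ∈ X0 := by
  have hr := isRoot_sr cs h k
  have hpos : u X (sr k) ∈ RGD.Sup X (RGD.Pos cs h) :=
    RGD.le_Sup (show sr k ∈ RGD.Pos cs h from ⟨hr, sr_nonneg k⟩) (D.u_mem hr)
  obtain ⟨x, hx, hxk⟩ := ThmA.thmA R.core (K := {k}) (Set.singleton_subset_iff.2 hk) _ hpos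
  refine ⟨(u X (sr k))⁻¹ * x, ?_, by rwa [mul_inv_cancel_left]⟩
  have hcl : ∀ J : Set I, Nodes.Unique.Closed cs h (NotJ cs h J) := fun J x hx y hy z hz => by
    refine ⟨hz.1, btwn_nonneg hz hx.2.1 hy.2.1, ?_⟩
    obtain ⟨k, hk, hk0⟩ := hx.2.2
    exact ⟨k, hk, btwn_apply_pos hz hk0 (hy.2.1 k)⟩
  have hsub : ∀ J : Set I, NotJ cs h J ⊆ RGD.Pos cs h := fun J x hx => ⟨hx.1, hx.2.1⟩
  rw [← Nodes.Unique.inf_eq R.rgd (hsub _) (hsub _) (hcl _) (hcl _)]
  have h1 : u X (sr k) ∈ VJ cs h X (Mv ρ n a)ᶜ :=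
    RGD.le_Sup (sr_mem_NotJ (J := (Mv ρ n a)ᶜ) (not_not.2 hk)) (D.u_mem hr)
  exact ⟨hxk, (VJ cs h X (Mv ρ n a)ᶜ).mul_mem ((VJ cs h X (Mv ρ n a)ᶜ).inv_mem h1) (Cov.le_VJ R hx)⟩

end

end V

end Cfsg.Agent.Omega.EH3.Kf.TwoV

end

section


/-!
# `Sp_2n(2)`: the commutator relations in coordinates (helper532)

`E X a b = u X (rt a b)`, `a`, `b` signed indices.
* `comm_E`, `comm_flip`, `comm_A2`, `comm_B2`;
* `fix_E`, `refl_E`, .. : the action on `X0` and `a`.
-/

set_option autoImplicit false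
set_option linter.unusedSectionVars false

namespace Cfsg.Agent.Omega.EH3.Kf.SpTwo

open CoxeterSystem Cfsg.Agent.ChevalleyStructure.CoxeterGeom Cfsg.Agent.Tits.Roots Cfsg.Agent.Tits.Core
  Cfsg.Agent.Tits.RootComb Cfsg.Agent.Nodes.Comb Cfsg.Agent.Nodes.Reps Cfsg.Agent.Nodes.BNOf
  Cfsg.Agent.Nodes.StabComb Cfsg.Agent.Nodes.Bruhat Cfsg.Agent.Nodes.OppDec Cfsg.Agent.Nodes.LeviDec
  Cfsg.Agent.Nodes.Coroot Cfsg.Agent.Nodes.TypeC Cfsg.Agent.Nodes.TypeCForm Cfsg.Agent.Nodes.KindBC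
  Cfsg.Agent.Omega.EH3.Kf.Base Cfsg.Agent.Omega.EH3.Kf.Nm Cfsg.Agent.Omega.EH3.Kf.Two
  Cfsg.Agent.Omega.EH3.Kf.TwoV
open scoped commutatorElement

variable {n : ℕ} {W Y : Type*} [Group W] [Group Y] {cs : CoxeterSystem (CoxeterMatrix.B n) W}
  {T : Subgroup Y} {nn : Fin n → Y} {X : (Fin n → ℤ) → Subgroup Y}

theorem six_B (i j : Fin n) : CoxeterMatrix.B n i j ≠ 6 := by
  show (if i = j then 1 else if (i : ℕ) = n - 1 ∧ (j : ℕ) = n - 2 ∨ (j : ℕ) = n - 1 ∧ (i : ℕ) = n - 2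
        then 4 else (if (j : ℕ) + 1 = i ∨ (i : ℕ) + 1 = j then 3 else 2)) ≠ 6
  split_ifs <;> decide

/-! ### Cartan numbers -/

/-- the scalar product of two signed indices -/
def dt (a c : Fin n × Bool) : ℤ := wt a c.1 * sn c

theorem dt_self (a : Fin n × Bool) : dt a a = 1 := by
  unfold dt; rw [wt_apply_self]; exact sn_mul_self a

theorem dt_ng_right (a c : Fin n × Bool) : dt a (ng c) = -dt a c := by
  unfold dt; rw [ng_fst, sn_ng, mul_neg]

theorem dt_ng_left (a c : Fin n × Bool) : dt (ng a) c = -dt a c := by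
  unfold dt; rw [wt_ng, Pi.neg_apply, neg_mul]

theorem dt_ne {a c : Fin n × Bool} (h : a.1 ≠ c.1) : dt a c = 0 := by
  unfold dt; rw [wt_apply_ne (Ne.symm h), zero_mul]

theorem dt_nonneg {a c : Fin n × Bool} (h : a ≠ ng c) : 0 ≤ dt a c := by
  by_cases h1 : a.1 = c.1
  · have h2 : a = c := by
      obtain ⟨i, s⟩ := a
      obtain ⟨j, t⟩ := c
      simp only at h1
      subst h1
      cases s <;> cases t <;> simp_all [ng]
    rw [h2, dt_self]; norm_num
  · rw [dt_ne h1]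

section

variable [Finite W]

theorem cpr_E (a b : Fin n × Bool) {c d : Fin n × Bool} (hcd : c.1 ≠ d.1) :
    cpr cs (isCartan n) (rt a b) (rt c d) = dt a c + dt b c + (dt a d + dt b d) := by
  rw [cpr_rt cs _ hcd, ee_rt]
  unfold dt
  simp only [Pi.add_apply]
  ring

theorem cpr_EE (a b c : Fin n × Bool) : cpr cs (isCartan n) (rt a b) (rt c c) = dt a c + dt b c := by
  rw [cpr_rt_self cs, ee_rt]
  unfold dt
  simp only [Pi.add_apply]
  ring

theorem cpr_nonneg {a b c d : Fin n × Bool} (hcd : Ok c d) (h1 : a ≠ ng c) (h2 : a ≠ ng d) (h3 : b ≠ ng c)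
    (h4 : b ≠ ng d) : 0 ≤ cpr cs (isCartan n) (rt a b) (rt c d) := by
  have e1 := dt_nonneg h1
  have e2 := dt_nonneg h2
  have e3 := dt_nonneg h3
  have e4 := dt_nonneg h4
  rcases hcd with hcd | rfl
  · rw [cpr_E a b hcd]; omega
  · rw [cpr_EE]; omega

end

/-! ### Root elements -/

/-- the root element of `wt a + wt b` -/
noncomputable def E (X : (Fin n → ℤ) → Subgroup Y) (a b : Fin n × Bool) : Y := u X (rt a b)

theorem E_comm (a b : Fin n × Bool) : E X a b = E X b a := by unfold E; rw [rt_comm]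

theorem ne_ng (a : Fin n × Bool) : a ≠ ng a := by
  obtain ⟨i, s⟩ := a
  cases s <;> simp [ng]

section

variable [Finite W] (D : Dat cs (isCartan n) T nn X)

include D

theorem comm_E {a b c d : Fin n × Bool} (hab : Ok a b) (hcd : Ok c d) (h1 : a ≠ ng c) (h2 : a ≠ ng d)
    (h3 : b ≠ ng c) (h4 : b ≠ ng d) : E X a b * E X c d = E X c d * E X a b :=
  (D.comm_of_nonneg (isRoot_rt cs hcd) (isRoot_rt cs hab) (cpr_nonneg hcd h1 h2 h3 h4)).symm

theorem comm_flip {a b : Fin n × Bool} (hab : a.1 ≠ b.1) : E X a b * E X a (ng b) = E X a (ng b) * E X a b := by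
  refine (D.comm_of_nonneg (isRoot_rt cs (Or.inl hab)) (isRoot_rt cs (Or.inl hab)) ?_)
  rw [cpr_E a (ng b) hab, dt_self, dt_ng_left, dt_ng_left, dt_self, dt_ne hab, dt_ne (Ne.symm hab)]
  norm_num

theorem comm_A2 {a b c : Fin n × Bool} (hab : a.1 ≠ b.1) (hbc : b.1 ≠ c.1) (hac : a.1 ≠ c.1) :
    ⁅E X a b, E X (ng b) c⁆ = E X a c := by
  have h1 : cpr cs (isCartan n) (rt (ng b) c) (rt a b) = -1 := by
    rw [cpr_E _ _ hab, dt_ng_left, dt_ng_left, dt_self, dt_ne hab.symm, dt_ne hac.symm, dt_ne hbc.symm]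
    norm_num
  have h2 : cpr cs (isCartan n) (rt a b) (rt (ng b) c) = -1 := by
    rw [cpr_E _ _ (show (ng b).1 ≠ c.1 from hbc), dt_ng_right, dt_ng_right, dt_self, dt_ne hab, dt_ne hac,
      dt_ne hbc]
    norm_num
  unfold E
  rw [D.comm_one_one (isRoot_rt cs (Or.inl hab)) (isRoot_rt cs (Or.inl (show (ng b).1 ≠ c.1 from hbc))) h1 h2]
  congr 1
  apply ee_injective
  rw [ee_add, ee_rt, ee_rt, ee_rt, wt_ng]
  abel

theorem comm_B2 {a b : Fin n × Bool} (hab : a.1 ≠ b.1) : ⁅E X a a, E X (ng a) b⁆ = E X a b * E X b b := by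
  have h1 : cpr cs (isCartan n) (rt (ng a) b) (rt a a) = -1 := by
    rw [cpr_EE, dt_ng_left, dt_self, dt_ne hab.symm]
    norm_num
  have h2 : cpr cs (isCartan n) (rt a a) (rt (ng a) b) = -2 := by
    rw [cpr_E _ _ (show (ng a).1 ≠ b.1 from hab), dt_ng_right, dt_self, dt_ne hab]
    norm_num
  unfold E
  rw [D.comm_one_two (isRoot_rt cs (Or.inr rfl)) (isRoot_rt cs (Or.inl (show (ng a).1 ≠ b.1 from hab))) h1 h2]
  congr 2
  · apply ee_injective
    rw [ee_add, ee_rt, ee_rt, ee_rt, wt_ng]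
    abel
  · apply ee_injective
    rw [ee_add, ee_smul, ee_rt, ee_rt, ee_rt, wt_ng]
    module

theorem E_ne {a b : Fin n × Bool} (hab : Ok a b) : E X a b ≠ 1 := D.u_ne (isRoot_rt cs hab)

theorem E_sq {a b : Fin n × Bool} (hab : Ok a b) : E X a b * E X a b = 1 := D.u_sq (isRoot_rt cs hab)

end

/-! ### Reflections in coordinates -/

section

variable [Finite W]

theorem refl_short {a b c : Fin n × Bool} (hab : a.1 ≠ b.1) (hbc : b.1 ≠ c.1) (hac : a.1 ≠ c.1) :
    rt a b - cpr cs (isCartan n) (rt a b) (rt (ng b) c) • rt (ng b) c = rt a c := by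
  rw [cpr_E _ _ (show (ng b).1 ≠ c.1 from hbc), dt_ng_right, dt_ng_right, dt_self, dt_ne hab, dt_ne hac,
      dt_ne hbc]
  apply ee_injective
  rw [sub_eq_add_neg, ee_add, ee_neg, ee_smul, ee_rt, ee_rt, ee_rt, wt_ng]
  module

theorem refl_long {a b : Fin n × Bool} (hab : a.1 ≠ b.1) :
    rt a a - cpr cs (isCartan n) (rt a a) (rt (ng a) b) • rt (ng a) b = rt b b := by
  rw [cpr_E _ _ (show (ng a).1 ≠ b.1 from hab), dt_ng_right, dt_self, dt_ne hab]
  apply ee_injective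
  rw [sub_eq_add_neg, ee_add, ee_neg, ee_smul, ee_rt, ee_rt, ee_rt, wt_ng]
  module

theorem neg_rt (a b : Fin n × Bool) : -rt a b = rt (ng a) (ng b) := (rt_ng a b).symm

end

/-! ### The Weyl group on signed indices -/

theorem exists_perm (w : W) : ∃ f : Fin n × Bool → Fin n × Bool,
    (∀ a b, rep cs (isCartan n) w (rt a b) = rt (f a) (f b)) ∧ (∀ a, f (ng a) = ng (f a)) ∧
      ∀ a b, (f a).1 = (f b).1 ↔ a.1 = b.1 := by
  induction w using cs.simple_induction_left with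
  | one =>
    refine ⟨id, fun a b => ?_, fun a => rfl, fun a b => Iff.rfl⟩
    rw [map_one, Module.End.one_apply]; rfl
  | mul_simple_left w i ih =>
    obtain ⟨f, h1, h2, h3⟩ := ih
    refine ⟨fun a => sg i (f a), fun a b => ?_, fun a => ?_, fun a b => ?_⟩
    · apply ee_injective
      rw [rep_mul_apply, rep_simple, ee_refl_of (show ee (rep cs (isCartan n) w (rt a b)) = _ by rw [h1, ee_rt]),
        ee_rt]
    · show sg i (f (ng a)) = ng (sg i (f a))
      rw [h2, sg_ng]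
    · show (sg i (f a)).1 = (sg i (f b)).1 ↔ a.1 = b.1
      rw [sg_fst_eq, h3]

/-! ### Coefficients -/

/-- the roots with positive first coefficient -/
theorem first_form {o : Fin n} (ho : (o : ℕ) = 0) {x : Fin n → ℤ} (hx : IsRoot cs (isCartan n) x) (h0 : 0 ≤ x)
    (hxo : 0 < x o) : ∃ b, Ok (o, true) b ∧ x = rt (o, true) b := by
  obtain ⟨a, b, ha, hab, hok, e⟩ := TwC.exists_pos hx h0
  have h1 := TwC.coef e o
  have hao : a.1 = o := by
    by_contra hne
    have h2 : ¬ a.1 ≤ o := fun h => hne (Fin.ext (by have := Fin.le_def.1 h; omega))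
    have h3 : ¬ b.1 ≤ o := fun h => h2 (hab.trans h)
    rw [if_neg h2, if_neg h3, add_zero] at h1
    split_ifs at h1 <;> omega
  have ha' : a = (o, true) := Prod.ext hao ha
  subst ha'
  exact ⟨b, hok, eq_rt e⟩

/-- the roots with positive last coefficient -/
theorem last_form {l : Fin n} (hl : (l : ℕ) + 1 = n) {x : Fin n → ℤ} (hx : IsRoot cs (isCartan n) x) (h0 : 0 ≤ x)
    (hxl : 0 < x l) : ∃ i j, x = rt (i, true) (j, true) := by
  obtain ⟨a, b, ha, hab, hok, e⟩ := TwC.exists_pos hx h0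
  have h1 := TwC.coef e l
  have h2 : a.1 ≤ l := by rw [Fin.le_def]; have := a.1.2; omega
  have h3 : b.1 ≤ l := by rw [Fin.le_def]; have := b.1.2; omega
  rw [if_neg (by omega), if_pos h2, if_pos h3, ha] at h1
  have hb : b.2 = true := by
    by_contra hb
    rw [Bool.not_eq_true] at hb
    rw [hb] at h1
    simp only [TwC.sn] at h1
    simp at h1
    omega
  refine ⟨a.1, b.1, ?_⟩
  rw [← ha, show ((b.1, a.2) : Fin n × Bool) = b from Prod.ext rfl (by rw [ha, hb])]
  exact eq_rt e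

theorem coef_zero {o : Fin n} (ho : (o : ℕ) = 0) {a b : Fin n × Bool} (ha : a.1 ≠ o) (hb : b.1 ≠ o) :
    rt a b o = 0 := by
  have h1 := TwC.coef (ee_rt a b) o
  have h2 : ¬ a.1 ≤ o := fun h => ha (Fin.ext (by have := Fin.le_def.1 h; omega))
  have h3 : ¬ b.1 ≤ o := fun h => hb (Fin.ext (by have := Fin.le_def.1 h; omega))
  rw [if_neg h2, if_neg h3, add_zero] at h1
  split_ifs at h1 <;> omega

theorem coef_last {l : Fin n} (hl : (l : ℕ) + 1 = n) {i j : Fin n} {s : Bool} : rt (i, s) (j, !s) l = 0 := by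
  have h1 := TwC.coef (ee_rt (i, s) (j, !s)) l
  have h2 : i ≤ l := by rw [Fin.le_def]; have := i.2; omega
  have h3 : j ≤ l := by rw [Fin.le_def]; have := j.2; omega
  rw [if_neg (by omega)] at h1
  simp only at h1
  rw [if_pos h2, if_pos h3] at h1
  cases s <;> simp only [TwC.sn, Bool.not_false, Bool.not_true, if_true] at h1 ⊢ <;> simp at h1 <;> omega

end Cfsg.Agent.Omega.EH3.Kf.SpTwo

end

section


/-!
# `Sp_2n(2)`, `n ≥ 3`: the case `Mv = {α_1}` (helper532)

`X0 = R = ⟨X (e_1 ± e_j), X (2 e_1)⟩`; `(u (2e_1) - 1) (mu (2e_1) a) = a`, and this contradicts (X4).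
-/

set_option autoImplicit false
set_option linter.unusedSectionVars false

namespace Cfsg.Agent.Omega.EH3.Kf.SpTwo

open CoxeterSystem Cfsg.Agent.ChevalleyStructure.CoxeterGeom Cfsg.Agent.Tits.Roots Cfsg.Agent.Tits.Core
  Cfsg.Agent.Tits.RootComb Cfsg.Agent.Nodes.Comb Cfsg.Agent.Nodes.Reps Cfsg.Agent.Nodes.BNOf
  Cfsg.Agent.Nodes.StabComb Cfsg.Agent.Nodes.Bruhat Cfsg.Agent.Nodes.OppDec Cfsg.Agent.Nodes.LeviDec
  Cfsg.Agent.Nodes.Coroot Cfsg.Agent.Nodes.TypeC Cfsg.Agent.Nodes.TypeCForm Cfsg.Agent.Nodes.KindBC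
  Cfsg.Agent.Omega.EH3.Kf.Base Cfsg.Agent.Omega.EH3.Kf.Nm Cfsg.Agent.Omega.EH3.Kf.Two
  Cfsg.Agent.Omega.EH3.Kf.TwoV
open scoped commutatorElement

variable {n : ℕ} {W Y : Type*} [Group W] [Group Y] {cs : CoxeterSystem (CoxeterMatrix.B n) W}
  {T : Subgroup Y} {nn : Fin n → Y} {X : (Fin n → ℤ) → Subgroup Y}
  {V : Type*} [AddCommGroup V] [Module (ZMod 2) V] {ρ : Y →* (V ≃ₗ[ZMod 2] V)} {a : V}
  {b : LinearMap.BilinForm (ZMod 2) V} {DD : Submodule (ZMod 2) V} {X0 : Subgroup Y} {w0 : ℕ}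

section

variable [Finite W] [Finite Y] (D : Dat cs (isCartan n) T nn X)
  (R : Row cs (isCartan n) T nn X ρ b a DD X0 w0) {o : Fin n} (ho : (o : ℕ) = 0) (hK : Mv ρ nn a = {o})

include D R ho hK

theorem F_fixJ {c d : Fin n × Bool} (hok : Ok c d) (hc : c.1 ≠ o) (hd : d.1 ≠ o) : ρ (E X c d) a = a := by
  refine fix_J D R ⟨isRoot_rt cs hok, fun k hk => ?_⟩
  rw [hK] at hk
  have hk' : k = o := not_not.1 hk
  subst hk'
  exact coef_zero ho hc hd

omit hK in
theorem F_fixP {d : Fin n × Bool} (hok : Ok (o, true) d) : ρ (E X (o, true) d) a = a :=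
  fix_pos D R (isRoot_rt cs hok) (TwC.nonneg_of (ee_rt _ _) rfl (Fin.le_def.2 (by simp only; omega)))

omit D R in
theorem F_form {r : Fin n → ℤ} (hr : r ∈ NotJ cs (isCartan n) (Mv ρ nn a)ᶜ) :
    ∃ c, Ok (o, true) c ∧ r = rt (o, true) c := by
  obtain ⟨k, hk, hk0⟩ := hr.2.2
  rw [hK] at hk
  have hk' : k = o := not_not.1 hk
  subst hk'
  exact first_form ho hr.1 hr.2.1 hk0

/-- the elements `u (e_1 + e_2) u (2 e_1)`, `u (e_1 + e_3)` of `X0` -/
theorem F_mem (p q : Fin n) (hp : (p : ℕ) = 1) (hq : (q : ℕ) = 2) :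
    E X (o, true) (p, true) * E X (o, true) (o, true) ∈ X0 ∧ E X (o, true) (q, true) ∈ X0 := by
  have hop : o ≠ p := fun e => by rw [e] at ho; omega
  have hoq : o ≠ q := fun e => by rw [e] at ho; omega
  have hpq : p ≠ q := fun e => by rw [e] at hp; omega
  have hko : o ∈ Mv ρ nn a := by rw [hK]; rfl
  obtain ⟨s, hs, hx⟩ := exists_x D R hko
  have hso : (sr o : Fin n → ℤ) = rt (o, true) (p, false) := by
    rw [sr_eq_rt, nx, dif_pos (by have := q.2; omega)]
    congr 2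
    exact Fin.ext (by simp only; omega)
  rw [hso] at hx
  change E X (o, true) (p, false) * s ∈ X0 at hx
  set g := E X (p, true) (p, true) with hg
  have hgfix : ρ g a = a := F_fixJ D R ho hK (Or.inr rfl) hop.symm hop.symm
  have hsg : s * g = g * s := by
    refine comm_of_gen ?_ s hs
    rintro r ⟨hr1, hr2⟩ a' ha'
    obtain ⟨c, hok, rfl⟩ := F_form ho hK hr2
    have hc : c ≠ (p, false) := by
      rintro rfl
      obtain ⟨k, hk, hk0⟩ := hr1.2.2
      rw [← hso, sr_ne (fun e => hk (by rw [e]; rfl))] at hk0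
      exact absurd hk0 (lt_irrefl _)
    rcases (D.mem_iff (isRoot_rt cs hok)).1 ha' with rfl | rfl
    · rw [one_mul, mul_one]
    · refine comm_E D hok (Or.inr rfl) ?_ ?_ hc hc <;> exact fun e => hop (congrArg Prod.fst e)
  have h1 : ⁅E X (o, true) (p, false) * s, g⁆ ∈ X0 := comm_mem_X0 R hx hgfix
  rw [comm_mul_left hsg] at h1
  have h2 : ⁅E X (o, true) (p, false), g⁆ = (E X (o, true) (p, true) * E X (o, true) (o, true))⁻¹ := by
    have h3 := comm_B2 D (a := (p, true)) (b := (o, true)) hop.symm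
    rw [E_comm (o, true) (p, false), E_comm (o, true) (p, true), ← h3, commutatorElement_inv]
    rfl
  rw [h2] at h1
  have h3 := inv_mem h1
  rw [inv_inv] at h3
  refine ⟨h3, ?_⟩
  have h4 : ρ (E X (p, false) (q, true)) a = a := F_fixJ D R ho hK (Or.inl hpq) hop.symm hoq.symm
  have h5 := comm_mem_X0 R h3 h4
  have h6 : E X (o, true) (o, true) * E X (p, false) (q, true) = E X (p, false) (q, true) * E X (o, true) (o, true) := by
    refine comm_E D (Or.inr rfl) (Or.inl hpq) ?_ ?_ ?_ ?_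
    · exact fun e => hop (congrArg Prod.fst e)
    · exact fun e => hoq (congrArg Prod.fst e)
    · exact fun e => hop (congrArg Prod.fst e)
    · exact fun e => hoq (congrArg Prod.fst e)
  rw [comm_mul_left h6] at h5
  have h7 := comm_A2 D (a := (o, true)) (b := (p, true)) (c := (q, true)) hop hpq hoq
  rw [← h7]
  exact h5

/-- `X0` contains all `u (e_1 ± e_j)`, `u (2 e_1)` -/
theorem F_all (hn : 3 ≤ n) {c : Fin n × Bool} (hok : Ok (o, true) c) : E X (o, true) c ∈ X0 := by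
  set p : Fin n := ⟨1, by omega⟩ with hp
  set q : Fin n := ⟨2, by omega⟩ with hq
  have hop : o ≠ p := fun e => by rw [e] at ho; simp [hp] at ho
  have hoq : o ≠ q := fun e => by rw [e] at ho; simp [hq] at ho
  have hpq : p ≠ q := fun e => by rw [hp, hq, Fin.mk.injEq] at e; omega
  obtain ⟨h1, h2⟩ := F_mem D R ho hK p q rfl rfl
  -- passing from one index to another
  have step : ∀ {c d : Fin n × Bool}, c.1 ≠ o → d.1 ≠ o → c.1 ≠ d.1 → E X (o, true) c ∈ X0 → E X (o, true) d ∈ X0 := by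
    intro c d hc hd hcd hm
    have h3 := refl_mem D R (isRoot_rt cs (Or.inl (Ne.symm hc) : Ok (o, true) c))
      (isRoot_rt cs (Or.inl hcd : Ok (ng c) d))
      (F_fixJ D R ho hK (Or.inl hcd : Ok (ng c) d) hc hd)
      (by rw [neg_rt]; exact F_fixJ D R ho hK (Or.inl hcd : Ok (ng (ng c)) (ng d)) hc hd) hm
    rw [refl_short (Ne.symm hc) hcd (Ne.symm hd)] at h3
    exact h3
  have hq' : ∀ {d : Fin n × Bool}, d.1 ≠ o → E X (o, true) d ∈ X0 := by
    intro d hd
    by_cases hdq : d.1 = q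
    · have h3 : E X (o, true) (p, true) ∈ X0 := step hoq.symm hop.symm (Ne.symm hpq) h2
      exact step hop.symm hd (by rw [hdq]; exact hpq) h3
    · exact step hoq.symm hd (Ne.symm hdq) h2
  by_cases hc : c.1 = o
  · rcases hok with hok | rfl
    · exact absurd hc.symm hok
    · exact (mul_mem_cancel_left (hq' (d := (p, true)) hop.symm)).1 h1
  · exact hq' hc

/-- `(u r - 1) (mu r a) = a` for the roots `r = e_1 ± e_j` -/
theorem F_Mr (hn : 3 ≤ n) {c : Fin n × Bool} (hc : c.1 ≠ o) : Mr X ρ a (rt (o, true) c) := by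
  set p : Fin n := ⟨1, by omega⟩ with hp
  set q : Fin n := ⟨2, by omega⟩ with hq
  have hop : o ≠ p := fun e => by rw [e] at ho; simp [hp] at ho
  have hoq : o ≠ q := fun e => by rw [e] at ho; simp [hq] at ho
  have hpq : p ≠ q := fun e => by rw [hp, hq, Fin.mk.injEq] at e; omega
  have hko : o ∈ Mv ρ nn a := by rw [hK]; rfl
  have hso : (sr o : Fin n → ℤ) = rt (o, true) (p, false) := by
    rw [sr_eq_rt, nx, dif_pos (by omega)]
    congr 2
    exact Fin.ext (by simp only [hp]; omega)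
  have h0 : Mr X ρ a (rt (o, true) (p, false)) := by
    rw [← hso]
    exact Mr.base D R.core hko
  have step : ∀ {c d : Fin n × Bool}, c.1 ≠ o → d.1 ≠ o → c.1 ≠ d.1 → Mr X ρ a (rt (o, true) c) →
      Mr X ρ a (rt (o, true) d) := by
    intro c d hc hd hcd hm
    have h3 := Mr.refl D (isRoot_rt cs (Or.inl (Ne.symm hc) : Ok (o, true) c))
      (isRoot_rt cs (Or.inl hcd : Ok (ng c) d))
      (F_fixJ D R ho hK (Or.inl hcd : Ok (ng c) d) hc hd)
      (by rw [neg_rt]; exact F_fixJ D R ho hK (Or.inl hcd : Ok (ng (ng c)) (ng d)) hc hd) hm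
    rwa [refl_short (Ne.symm hc) hcd (Ne.symm hd)] at h3
  by_cases hdp : c.1 = p
  · have h3 : Mr X ρ a (rt (o, true) (q, true)) := step hop.symm hoq.symm hpq h0
    exact step hoq.symm hc (by rw [hdp]; exact Ne.symm hpq) h3
  · exact step hop.symm hc (Ne.symm hdp) h0

/-- **the relation** : `(u (2 e_1) - 1) (mu (2 e_1) a) = a` -/
theorem F_rel (hn : 3 ≤ n) : Mr X ρ a (rt (o, true) (o, true)) := by
  set p : Fin n := ⟨1, by omega⟩ with hp
  have hop : o ≠ p := fun e => by rw [e] at ho; simp [hp] at ho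
  set r : Fin n → ℤ := rt (o, true) (o, true) with hr
  have hrr : IsRoot cs (isCartan n) r := isRoot_rt cs (Or.inr rfl)
  have hta : ρ (u X r) a = a := F_fixP D R ho (Or.inr rfl)
  set z : V := ρ (mu X r) a with hz
  set σ : V := a + z + ρ (u X r) z with hσ
  -- `σ` is fixed by `X0`
  have hfix : ∀ c, Ok (o, true) c → ρ (E X (o, true) c) σ = σ := by
    intro c hok
    by_cases hc : c.1 = o
    · have hc' : (o, true) = c := by
        rcases hok with h1 | h1
        · exact absurd hc.symm h1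
        · exact h1
      rw [← hc']
      show ρ (u X r) σ = σ
      rw [hσ, map_add, map_add, hta, ← rho_mul (u X r) (u X r), D.u_sq hrr, rho_one]
      abel
    · -- the root `β = e_1 - c`
      have hβ : IsRoot cs (isCartan n) (rt (o, true) (ng c)) := isRoot_rt cs (Or.inl (Ne.symm hc))
      have hcc : IsRoot cs (isCartan n) (rt c c) := isRoot_rt cs (Or.inr rfl)
      have hM : Mr X ρ a (rt (o, true) (ng c)) := F_Mr D R ho hK hn (c := ng c) hc
      have hβn := hM.neg D hβ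
      set v : V := ρ (mu X (rt (o, true) (ng c))) a with hv
      have hcf : ρ (u X (rt c c)) a = a := F_fixJ D R ho hK (Or.inr rfl) hc hc
      have hcf' : ρ (u X (-rt c c)) a = a := by
        rw [neg_rt]; exact F_fixJ D R ho hK (Or.inr rfl) hc hc
      -- `mu β` maps `2 c` to `2 e_1`
      have hrefl : rt c c - cpr cs (isCartan n) (rt c c) (rt (o, true) (ng c)) • rt (o, true) (ng c) = r := by
        have h1 := refl_long (cs := cs) (a := c) (b := (o, true)) hc
        rwa [rt_comm (ng c) (o, true)] at h1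
      have m1 : ρ (mu X r) v = v := by
        rw [hv, ← hrefl, ← mu_conj_mu D hβ hcc, rho_mul, rho_mul, ← rho_mul (mu X (rt (o, true) (ng c)))⁻¹,
          inv_mul_cancel, rho_one, mu_fix hcf hcf']
      have m2 : ρ (u X r) v = v := by
        rw [hv, ← hrefl, ← mu_conj D hβ hcc, rho_mul, rho_mul, ← rho_mul (mu X (rt (o, true) (ng c)))⁻¹,
          inv_mul_cancel, rho_one, hcf]
      -- `y = u (e_1 + c)`
      set y := E X (o, true) c with hy
      have hroot : IsRoot cs (isCartan n) (rt (o, true) c) := isRoot_rt cs (Or.inl (Ne.symm hc))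
      have hrefl2 : rt (o, true) c - cpr cs (isCartan n) (rt (o, true) c) r • r = -rt (o, true) (ng c) := by
        rw [neg_rt, ng_ng, hr, cpr_EE, dt_self, dt_ne hc]
        apply ee_injective
        rw [sub_eq_add_neg, ee_add, ee_neg, ee_smul, ee_rt, ee_rt, ee_rt, wt_ng]
        module
      have hyz : ρ y z = z + v := by
        have h1 : y * mu X r = mu X r * u X (-rt (o, true) (ng c)) := by
          rw [← hrefl2, ← mu_conj D hrr hroot, mu_inv D hrr]
          calc y * mu X r = (mu X r * mu X r) * y * mu X r := by rw [mu_sq D hrr, one_mul]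
            _ = mu X r * (mu X r * y * mu X r) := by group
        rw [hz, ← rho_mul, h1, rho_mul, hβn, map_add, m1, add_comm]
      have hya : ρ y a = a := F_fixP D R ho hok
      have hty : y * u X r = u X r * y := by
        refine comm_E D hok (Or.inr rfl) ?_ ?_ ?_ ?_
        · exact ne_ng _
        · exact ne_ng _
        · exact fun e => hc (congrArg Prod.fst e)
        · exact fun e => hc (congrArg Prod.fst e)
      have hytz : ρ y (ρ (u X r) z) = ρ (u X r) z + v := by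
        rw [← rho_mul, hty, rho_mul, hyz, map_add, m2]
      rw [hσ, map_add, map_add, hya, hyz, hytz]
      have : a + (z + v) + (ρ (u X r) z + v) = a + z + ρ (u X r) z + (v + v) := by abel
      rw [this, vv, add_zero]
  have hfix' : ∀ x ∈ X0, ρ x σ = σ := by
    have h1 : VJ cs (isCartan n) X (Mv ρ nn a)ᶜ ≤ ThmA.St ρ σ := by
      refine RGD.Sup_le fun r' hr' g hg => ?_
      obtain ⟨c, hok, rfl⟩ := F_form ho hK hr'
      rcases (D.mem_iff (isRoot_rt cs hok)).1 hg with rfl | rfl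
      · exact one_mem _
      · exact hfix c hok
    intro x hx
    exact h1 (Cov.le_VJ R hx)
  rcases R.fix σ hfix' with h0 | h0
  · -- `σ = 0`
    show ρ (u X r) z = z + a
    rw [hσ] at h0
    have h1 : ρ (u X r) z = a + z + (a + z + ρ (u X r) z) := by
      have : a + z + (a + z + ρ (u X r) z) = (a + a) + (z + z) + ρ (u X r) z := by abel
      rw [this, vv, vv]; abel
    rw [h1, h0, add_zero, add_comm]
  · -- `σ = a`
    exfalso
    have h1 : ρ (u X r) z = z := by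
      have h2 : ρ (u X r) z = a + z + (a + z + ρ (u X r) z) := by
        have : a + z + (a + z + ρ (u X r) z) = (a + a) + (z + z) + ρ (u X r) z := by abel
        rw [this, vv, vv]; abel
      rw [h2, ← hσ, h0]
      have : a + z + a = (a + a) + z := by abel
      rw [this, vv, zero_add]
    have h2 : ρ (E X (o, false) (o, false)) a = a := by
      have h3 : E X (o, false) (o, false) = mu X r * u X r * mu X r := by
        have h4 := mu_conj D hrr hrr
        rw [mu_inv D hrr] at h4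
        rw [h4, cpr_self cs _ hrr]
        show u X (rt (ng (o, true)) (ng (o, true))) = _
        rw [← neg_rt]
        congr 1
        module
      rw [h3, rho_mul, rho_mul]
      show ρ (mu X r) (ρ (u X r) z) = a
      rw [h1, hz, ← rho_mul, mu_sq D hrr, rho_one]
    have h3 : ρ (E X (o, true) (p, true)) a = a := F_fixP D R ho (Or.inl hop)
    have h4 := fix_comm h2 h3
    have h5 := comm_B2 D (a := (o, false)) (b := (p, true)) hop
    change ⁅E X (o, false) (o, false), E X (o, true) (p, true)⁆ = _ at h5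
    rw [h5] at h4
    have h6 : ρ (E X (p, true) (p, true)) a = a := F_fixJ D R ho hK (Or.inr rfl) hop.symm hop.symm
    rw [rho_mul, h6] at h4
    -- `-(e_1 - e_2)`
    have hM : Mr X ρ a (rt (o, true) (p, false)) := F_Mr D R ho hK hn (c := (p, false)) hop.symm
    have h7 := hM.neg D (isRoot_rt cs (Or.inl hop))
    rw [neg_rt] at h7
    change ρ (E X (o, false) (p, true)) a = _ at h7
    rw [h4] at h7
    have h8 : ρ (mu X (rt (o, true) (p, false))) a = 0 := by
      have := eq_add_of h7.symm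
      rw [this, vv]
    have h9 := congrArg (ρ (mu X (rt (o, true) (p, false)))⁻¹) h8
    rw [rho_inv, map_zero] at h9
    exact R.a_ne h9

/-- **the case `Mv = {α_1}`** -/
theorem first_false (hn : 3 ≤ n) : False := by
  set p : Fin n := ⟨1, by omega⟩ with hp
  have hop : o ≠ p := fun e => by rw [e] at ho; simp [hp] at ho
  set r : Fin n → ℤ := rt (o, true) (o, true) with hr
  have hrr : IsRoot cs (isCartan n) r := isRoot_rt cs (Or.inr rfl)
  have hrel : Mr X ρ a r := F_rel D R ho hK hn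
  have htX : u X r ∈ X0 := F_all D R ho hK hn (c := (o, true)) (Or.inr rfl)
  obtain ⟨w, k, hk, h1, h2⟩ := Opp.opp R (S := {r}) (by
    rintro r' rfl
    exact ⟨hrr, u X r, D.u_mem hrr, htX, D.u_ne hrr⟩)
  have h3 := h2 r rfl
  obtain ⟨f, hf, hfn, hf1⟩ := exists_perm (cs := cs) w⁻¹
  -- `w⁻¹ e_1 = -e_1`
  have hfo : f (o, true) = (o, false) := by
    obtain ⟨c, hok, e⟩ := F_form ho hK h3
    rw [hr, hf, neg_rt] at e
    have e2 := congrArg ee e
    rw [ee_rt, ee_rt] at e2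
    have h4 : ng (f (o, true)) = (o, true) := by
      rcases wt_add_eq (Or.inr rfl) hok e2 with ⟨h5, -⟩ | ⟨-, h5⟩
      · exact h5
      · exact h5
    rw [← ng_ng (f (o, true)), h4]
    rfl
  set d : V := dl ρ (u X r) (ρ k a) with hd
  have hd2 : d = ρ k (ρ (mu X r) a) := by
    have h4 : u X r * k = k * u X (-r) := by
      have h5 := D.conj_u hk.inv hrr
      rw [hr, hf, hfo, inv_inv, ← hr] at h5
      have h6 : -r = rt (o, false) (o, false) := by rw [hr, neg_rt]; rfl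
      rw [h6, ← h5]; group
    rw [hd, dl, ← rho_mul, h4, rho_mul, hrel.neg D hrr, map_add, add_assoc, vv, add_zero]
  have hfix : ∀ y ∈ X0, ρ y d = d := by
    have h4 : VJ cs (isCartan n) X (Mv ρ nn a)ᶜ ≤ ThmA.St ρ d := by
      refine RGD.Sup_le fun r' hr' g hg => ?_
      obtain ⟨c, hok, rfl⟩ := F_form ho hK hr'
      rcases (D.mem_iff (isRoot_rt cs hok)).1 hg with rfl | rfl
      · exact one_mem _
      · rw [ThmA.mem_St, hd2]
        have hroot := isRoot_rt cs hok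
        have h5 := D.conj_u hk.inv hroot
        rw [hf, hfo, inv_inv] at h5
        have hokc : Ok (o, false) (f c) := by
          rcases hok with h6 | h6
          · left
            have h7 : (f (o, true)).1 ≠ (f c).1 := fun e => h6 ((hf1 _ _).1 e)
            rwa [hfo] at h7
          · right
            rw [← h6, hfo]
        have hroot' : IsRoot cs (isCartan n) (rt (o, false) (f c)) := isRoot_rt cs hokc
        -- the reflection
        have h6 : ∃ c', Ok (o, true) c' ∧ rt (o, false) (f c) - cpr cs (isCartan n) (rt (o, false) (f c)) r • r =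
            rt (o, true) c' := by
          rcases hokc with h7 | h7
          · refine ⟨f c, Or.inl h7, ?_⟩
            rw [hr, cpr_EE, show ((o, false) : Fin n × Bool) = ng (o, true) from rfl, dt_ng_left, dt_self,
              dt_ne (c := (o, true)) (Ne.symm h7)]
            apply ee_injective
            rw [sub_eq_add_neg, ee_add, ee_neg, ee_smul, ee_rt, ee_rt, ee_rt, wt_ng]
            module
          · refine ⟨(o, true), Or.inr rfl, ?_⟩
            rw [← h7, hr, cpr_EE, show ((o, false) : Fin n × Bool) = ng (o, true) from rfl, dt_ng_left, dt_self]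
            apply ee_injective
            rw [sub_eq_add_neg, ee_add, ee_neg, ee_smul, ee_rt, ee_rt, wt_ng]
            module
        obtain ⟨c', hokc', ec'⟩ := h6
        have h7 := mu_conj D hrr hroot'
        rw [ec', mu_inv D hrr] at h7
        have h8 : u X (rt (o, true) c) * (k * mu X r) = k * mu X r * u X (rt (o, true) c') := by
          rw [← h7, ← h5]
          calc u X (rt (o, true) c) * (k * mu X r) = k * 1 * (k⁻¹ * u X (rt (o, true) c) * k) * mu X r := by group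
            _ = k * (mu X r * mu X r) * (k⁻¹ * u X (rt (o, true) c) * k) * mu X r := by rw [mu_sq D hrr]
            _ = _ := by group
        rw [← rho_mul k, ← rho_mul, h8, rho_mul,
          show ρ (u X (rt (o, true) c')) a = a from F_fixP D R ho hokc']
    intro y hy
    exact h4 (Cov.le_VJ R hy)
  obtain ⟨y, hy, t, ht, h4⟩ := R.tri (u X r) htX (D.u_ne hrr) _ h1
  apply h4
  rw [← hd]
  have h5 : dl ρ y d = 0 := by rw [dl, hfix y hy, vv]
  rw [h5, map_zero, LinearMap.zero_apply]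

end

end Cfsg.Agent.Omega.EH3.Kf.SpTwo

end

section


/-!
# `Sp_2n(2)`, `n ≥ 3`: the case `Mv = {α_n}` (helper532)

`X0 = ⟨X (e_i + e_j), X (2 e_i)⟩`; `n ≥ 4` is impossible by the filtration, `n = 3` by (X4).
-/

set_option autoImplicit false
set_option linter.unusedSectionVars false

namespace Cfsg.Agent.Omega.EH3.Kf.SpTwo

open CoxeterSystem Cfsg.Agent.ChevalleyStructure.CoxeterGeom Cfsg.Agent.Tits.Roots Cfsg.Agent.Tits.Core
  Cfsg.Agent.Tits.RootComb Cfsg.Agent.Nodes.Comb Cfsg.Agent.Nodes.Reps Cfsg.Agent.Nodes.BNOf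
  Cfsg.Agent.Nodes.StabComb Cfsg.Agent.Nodes.Bruhat Cfsg.Agent.Nodes.OppDec Cfsg.Agent.Nodes.LeviDec
  Cfsg.Agent.Nodes.Coroot Cfsg.Agent.Nodes.TypeC Cfsg.Agent.Nodes.TypeCForm Cfsg.Agent.Nodes.KindBC
  Cfsg.Agent.Omega.EH3.Kf.Base Cfsg.Agent.Omega.EH3.Kf.Nm Cfsg.Agent.Omega.EH3.Kf.Two
  Cfsg.Agent.Omega.EH3.Kf.TwoV
open scoped commutatorElement

variable {n : ℕ} {W Y : Type*} [Group W] [Group Y] {cs : CoxeterSystem (CoxeterMatrix.B n) W}
  {T : Subgroup Y} {nn : Fin n → Y} {X : (Fin n → ℤ) → Subgroup Y}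
  {V : Type*} [AddCommGroup V] [Module (ZMod 2) V] {ρ : Y →* (V ≃ₗ[ZMod 2] V)} {a : V}
  {b : LinearMap.BilinForm (ZMod 2) V} {DD : Submodule (ZMod 2) V} {X0 : Subgroup Y} {w0 : ℕ}

theorem ok_pp (i j : Fin n) (s : Bool) : Ok (i, s) (j, s) := by
  by_cases h : i = j
  · right; rw [h]
  · left; exact h

/-- the reflection element of `2 e_i` -/
noncomputable def NN (X : (Fin n → ℤ) → Subgroup Y) (i : Fin n) : Y := mu X (rt (i, true) (i, true))

section

variable [Finite W] (D : Dat cs (isCartan n) T nn X)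

include D

theorem NN_sq (i : Fin n) : NN X i * NN X i = 1 := mu_sq D (isRoot_rt cs (Or.inr rfl))

theorem NN_inv (i : Fin n) : (NN X i)⁻¹ = NN X i := mu_inv D (isRoot_rt cs (Or.inr rfl))

/-- `NN i` and root elements not involving `i` -/
theorem NN_comm {i : Fin n} {c d : Fin n × Bool} (hok : Ok c d) (hc : c.1 ≠ i) (hd : d.1 ≠ i) :
    E X c d * NN X i = NN X i * E X c d := by
  refine (mu_comm_u D (isRoot_rt cs (Or.inr rfl)) (isRoot_rt cs hok) ?_).symm
  rw [cpr_EE, dt_ne (c := (i, true)) hc, dt_ne (c := (i, true)) hd, add_zero]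

/-- `NN i` and root elements involving `i` -/
theorem NN_E {i : Fin n} {s : Bool} {c : Fin n × Bool} (hc : c.1 ≠ i) :
    E X (i, s) c * NN X i = NN X i * E X (i, !s) c := by
  have h1 := mu_conj D (isRoot_rt cs (Or.inr rfl : Ok ((i, true) : Fin n × Bool) (i, true)))
    (isRoot_rt cs (Or.inl (Ne.symm hc) : Ok (i, s) c))
  have h2 : rt (i, s) c - cpr cs (isCartan n) (rt (i, s) c) (rt (i, true) (i, true)) • rt (i, true) (i, true) =
      rt (i, !s) c := by
    rw [cpr_EE, dt_ne (c := (i, true)) hc]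
    apply ee_injective
    cases s
    · rw [show ((i, false) : Fin n × Bool) = ng (i, true) from rfl, dt_ng_left, dt_self, sub_eq_add_neg, ee_add,
        ee_neg, ee_smul, ee_rt, ee_rt, ee_rt, wt_ng, Bool.not_false]
      module
    · rw [dt_self, sub_eq_add_neg, ee_add, ee_neg, ee_smul, ee_rt, ee_rt, ee_rt, Bool.not_true,
        show ((i, false) : Fin n × Bool) = ng (i, true) from rfl, wt_ng]
      module
  rw [h2] at h1
  show u X (rt (i, s) c) * mu X (rt (i, true) (i, true)) = mu X (rt (i, true) (i, true)) * u X (rt (i, !s) c)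
  rw [← h1]
  have h3 := NN_sq D i
  have h4 := NN_inv D i
  unfold NN at h3 h4
  rw [h4]
  calc u X (rt (i, s) c) * mu X (rt (i, true) (i, true)) = (mu X (rt (i, true) (i, true)) *
        mu X (rt (i, true) (i, true))) * (u X (rt (i, s) c) * mu X (rt (i, true) (i, true))) := by rw [h3, one_mul]
    _ = _ := by group

theorem NN_comm_NN {i j : Fin n} (hij : i ≠ j) : NN X i * NN X j = NN X j * NN X i := by
  have h1 := mu_conj_mu D (isRoot_rt cs (Or.inr rfl : Ok ((i, true) : Fin n × Bool) (i, true)))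
    (isRoot_rt cs (Or.inr rfl : Ok ((j, true) : Fin n × Bool) (j, true)))
  rw [cpr_EE, dt_ne (c := (i, true)) (Ne.symm hij), add_zero, zero_smul, sub_zero] at h1
  exact mul_inv_eq_iff_eq_mul.1 h1

end

section

variable [Finite W] [Finite Y] (D : Dat cs (isCartan n) T nn X)
  (R : Row cs (isCartan n) T nn X ρ b a DD X0 w0) {l : Fin n} (hl : (l : ℕ) + 1 = n) (hK : Mv ρ nn a = {l})

include D R hl hK

theorem L_fix {i j : Fin n} {s : Bool} (hij : i ≠ j) : ρ (E X (i, s) (j, !s)) a = a := by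
  refine fix_J D R ⟨isRoot_rt cs (Or.inl hij), fun k hk => ?_⟩
  rw [hK] at hk
  have hk' : k = l := not_not.1 hk
  subst hk'
  exact coef_last hl

omit hl hK in
theorem L_fixP (i j : Fin n) : ρ (E X (i, true) (j, true)) a = a := by
  rcases le_total i j with h | h
  · exact fix_pos D R (isRoot_rt cs (ok_pp i j true)) (TwC.nonneg_of (ee_rt _ _) rfl h)
  · rw [E_comm]
    exact fix_pos D R (isRoot_rt cs (ok_pp j i true)) (TwC.nonneg_of (ee_rt _ _) rfl h)

omit D R in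
theorem L_form {r : Fin n → ℤ} (hr : r ∈ NotJ cs (isCartan n) (Mv ρ nn a)ᶜ) :
    ∃ i j, r = rt (i, true) (j, true) := by
  obtain ⟨k, hk, hk0⟩ := hr.2.2
  rw [hK] at hk
  have hk' : k = l := not_not.1 hk
  subst hk'
  exact last_form hl hr.1 hr.2.1 hk0

omit R hl hK in
theorem L_comm (i j i' j' : Fin n) : E X (i, true) (j, true) * E X (i', true) (j', true) =
    E X (i', true) (j', true) * E X (i, true) (j, true) := by
  refine comm_E D (ok_pp _ _ _) (ok_pp _ _ _) ?_ ?_ ?_ ?_ <;> exact fun e => by simp [ng] at e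

/-- the roots `e_i + e_k`, `i ≠ k`, `i, k ≠ l` -/
def QQ (l : Fin n) : Set (Fin n → ℤ) := {r | ∃ i k, i ≠ k ∧ i ≠ l ∧ k ≠ l ∧ r = rt (i, true) (k, true)}

theorem L_y {j : Fin n} (hj : j ≠ l) : ∃ q ∈ RGD.Sup X (QQ l),
    q * (E X (l, true) (j, true) * E X (j, true) (j, true)) ∈ X0 := by
  have hkl : l ∈ Mv ρ nn a := by rw [hK]; rfl
  obtain ⟨s, hs, hx⟩ := exists_x D R hkl
  have hso : (sr l : Fin n → ℤ) = rt (l, true) (l, true) := by
    rw [sr_eq_rt, nx, dif_neg (by omega)]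
  rw [hso] at hx
  change E X (l, true) (l, true) * s ∈ X0 at hx
  set g := E X (j, true) (l, false) with hg
  have hgfix : ρ g a = a := L_fix D R hl hK hj
  have hcomm : ∀ i k, ∀ a' ∈ X (rt (i, true) (k, true)), ∀ q ∈ RGD.Sup X (QQ l), a' * q = q * a' := by
    intro i k a' ha' q hq
    rcases (D.mem_iff (isRoot_rt cs (ok_pp i k true))).1 ha' with rfl | rfl
    · rw [one_mul, mul_one]
    · refine (comm_of_gen ?_ q hq).symm
      rintro r ⟨i', k', -, -, -, rfl⟩ a'' ha''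
      rcases (D.mem_iff (isRoot_rt cs (ok_pp i' k' true))).1 ha'' with rfl | rfl
      · rw [one_mul, mul_one]
      · exact L_comm D i' k' i k
  have hmemQ : ∀ i k, i ≠ k → i ≠ l → k ≠ l → E X (i, true) (k, true) ∈ RGD.Sup X (QQ l) := by
    intro i k h1 h2 h3
    exact RGD.le_Sup (show rt (i, true) (k, true) ∈ QQ l from ⟨i, k, h1, h2, h3, rfl⟩)
      (D.u_mem (isRoot_rt cs (ok_pp i k true)))
  have hgen : ∀ k, k ≠ l → ⁅E X (k, true) (l, true), g⁆ ∈ RGD.Sup X (QQ l) := by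
    intro k hk
    by_cases hkj : k = j
    · subst hkj
      have h1 : E X (k, true) (l, true) * g = g * E X (k, true) (l, true) :=
        comm_flip D (a := (k, true)) (b := (l, true)) hk
      rw [commutatorElement_eq_one_iff_mul_comm.2 h1]
      exact one_mem _
    · have h1 := comm_A2 D (a := (k, true)) (b := (l, true)) (c := (j, true)) hk (Ne.symm hj) hkj
      rw [hg, E_comm (j, true) (l, false)]
      change ⁅E X (k, true) (l, true), E X (l, false) (j, true)⁆ = _ at h1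
      rw [h1]
      exact hmemQ k j hkj hk hj
  have hsg : ⁅s, g⁆ ∈ RGD.Sup X (QQ l) := by
    refine comm_Sup ?_ ?_ s hs
    · rintro r ⟨-, hr2⟩ a' ha' q hq
      obtain ⟨i, k, rfl⟩ := L_form hl hK hr2
      exact hcomm i k a' ha' q hq
    · rintro r ⟨hr1, hr2⟩ a' ha'
      obtain ⟨i, k, rfl⟩ := L_form hl hK hr2
      rcases (D.mem_iff (isRoot_rt cs (ok_pp i k true))).1 ha' with rfl | rfl
      · rw [commutatorElement_one_left]; exact one_mem _
      change ⁅E X (i, true) (k, true), g⁆ ∈ _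
      by_cases hil : i = l
      · by_cases hkl' : k = l
        · exfalso
          rw [hil, hkl', ← hso] at hr1
          obtain ⟨k', hk', hk0⟩ := hr1.2.2
          rw [sr_ne (fun e => hk' (by rw [e]; rfl))] at hk0
          exact absurd hk0 (lt_irrefl _)
        · rw [hil, E_comm]
          exact hgen k hkl'
      · by_cases hkl' : k = l
        · rw [hkl']
          exact hgen i hil
        · have h1 : E X (i, true) (k, true) * g = g * E X (i, true) (k, true) := by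
            refine comm_E D (ok_pp _ _ _) (Or.inl hj) ?_ ?_ ?_ ?_
            · exact fun e => by simp [ng] at e
            · exact fun e => hil (congrArg Prod.fst e)
            · exact fun e => by simp [ng] at e
            · exact fun e => hkl' (congrArg Prod.fst e)
          rw [commutatorElement_eq_one_iff_mul_comm.2 h1]
          exact one_mem _
  refine ⟨⁅s, g⁆, hsg, ?_⟩
  have h1 := comm_mem_X0 R hx hgfix
  have h2 : ⁅E X (l, true) (l, true) * s, g⁆ = E X (l, true) (l, true) * ⁅s, g⁆ * (E X (l, true) (l, true))⁻¹ *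
      ⁅E X (l, true) (l, true), g⁆ := by
    rw [commutatorElement_def, commutatorElement_def, commutatorElement_def]; group
  have h3 := comm_B2 D (a := (l, true)) (b := (j, true)) (Ne.symm hj)
  change ⁅E X (l, true) (l, true), E X (l, false) (j, true)⁆ = _ at h3
  have h5 : E X (l, true) (l, true) * ⁅s, g⁆ = ⁅s, g⁆ * E X (l, true) (l, true) :=
    hcomm l l _ (D.u_mem (isRoot_rt cs (ok_pp l l true))) _ hsg
  have h6 : ⁅E X (l, true) (l, true), g⁆ = E X (l, true) (j, true) * E X (j, true) (j, true) := by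
    rw [hg, E_comm (j, true) (l, false), h3]
  rw [h2, h5, h6] at h1
  have h4 : ⁅s, g⁆ * E X (l, true) (l, true) * (E X (l, true) (l, true))⁻¹ *
      (E X (l, true) (j, true) * E X (j, true) (j, true)) =
      ⁅s, g⁆ * (E X (l, true) (j, true) * E X (j, true) (j, true)) := by group
  rw [← h4]
  exact h1

theorem L_short {i j : Fin n} (hij : i ≠ j) (hi : i ≠ l) (hj : j ≠ l) : E X (j, true) (i, true) ∈ X0 := by
  obtain ⟨q, hq, hy⟩ := L_y D R hl hK hj
  set g := E X (i, true) (l, false) with hg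
  have hgfix : ρ g a = a := L_fix D R hl hK hi
  have h1 := comm_mem_X0 R hy hgfix
  have c1 : E X (j, true) (j, true) * g = g * E X (j, true) (j, true) := by
    refine comm_E D (ok_pp _ _ _) (Or.inl hi) ?_ ?_ ?_ ?_
    · exact fun e => by simp [ng] at e
    · exact fun e => hj (congrArg Prod.fst e)
    · exact fun e => by simp [ng] at e
    · exact fun e => hj (congrArg Prod.fst e)
  have c2 : q * g = g * q := by
    refine comm_of_gen ?_ q hq
    rintro r ⟨i', k', h1, h2, h3, rfl⟩ a' ha'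
    rcases (D.mem_iff (isRoot_rt cs (ok_pp i' k' true))).1 ha' with rfl | rfl
    · rw [one_mul, mul_one]
    · refine comm_E D (ok_pp _ _ _) (Or.inl hi) ?_ ?_ ?_ ?_
      · exact fun e => by simp [ng] at e
      · exact fun e => h2 (congrArg Prod.fst e)
      · exact fun e => by simp [ng] at e
      · exact fun e => h3 (congrArg Prod.fst e)
  have c3 : q * E X (j, true) (i, true) = E X (j, true) (i, true) * q := by
    refine comm_of_gen ?_ q hq
    rintro r ⟨i', k', h1, h2, h3, rfl⟩ a' ha'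
    rcases (D.mem_iff (isRoot_rt cs (ok_pp i' k' true))).1 ha' with rfl | rfl
    · rw [one_mul, mul_one]
    · exact L_comm D _ _ _ _
  rw [← mul_assoc, comm_mul_left c1] at h1
  have h2 : ⁅q * E X (l, true) (j, true), g⁆ = q * ⁅E X (l, true) (j, true), g⁆ * q⁻¹ * ⁅q, g⁆ := by
    rw [commutatorElement_def, commutatorElement_def, commutatorElement_def]; group
  have h3 := comm_A2 D (a := (j, true)) (b := (l, true)) (c := (i, true)) hj (Ne.symm hi) (Ne.symm hij)
  change ⁅E X (j, true) (l, true), E X (l, false) (i, true)⁆ = _ at h3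
  rw [h2, commutatorElement_eq_one_iff_mul_comm.2 c2, mul_one, hg, E_comm (l, true) (j, true),
    E_comm (i, true) (l, false), h3, c3, mul_inv_cancel_right] at h1
  exact h1

/-- `X0` contains all `u (e_i + e_k)` -/
theorem L_short' (hn : 3 ≤ n) {i k : Fin n} (hik : i ≠ k) : E X (i, true) (k, true) ∈ X0 := by
  have key : ∀ i, i ≠ l → E X (i, true) (l, true) ∈ X0 := by
    intro i hi
    obtain ⟨m, hmi, hml⟩ : ∃ m : Fin n, m ≠ i ∧ m ≠ l := by
      by_cases hi0 : (i : ℕ) = 0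
      · exact ⟨⟨1, by omega⟩, fun e => by rw [← e] at hi0; simp at hi0, fun e => by
          rw [← e] at hl; simp only at hl; omega⟩
      · exact ⟨⟨0, by omega⟩, fun e => hi0 (by rw [← e]), fun e => by
          rw [← e] at hl; simp only at hl; omega⟩
    have h1 := L_short D R hl hK hmi hml hi
    have h3 := refl_mem D R (isRoot_rt cs (Or.inl (Ne.symm hmi) : Ok (i, true) (m, true)))
      (isRoot_rt cs (Or.inl hml : Ok (ng (m, true)) (l, true)))
      (L_fix D R hl hK (s := false) hml)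
      (by rw [neg_rt]; exact L_fix D R hl hK (s := true) hml) h1
    rw [refl_short (Ne.symm hmi) hml hi] at h3
    exact h3
  by_cases hkl : k = l
  · subst hkl
    exact key i hik
  · by_cases hil : i = l
    · subst hil
      rw [E_comm]
      exact key k hkl
    · exact L_short D R hl hK (Ne.symm hik) hkl hil

/-- `X0` contains all `u (2 e_i)` -/
theorem L_long (hn : 3 ≤ n) (i : Fin n) : E X (i, true) (i, true) ∈ X0 := by
  have key : ∀ i, i ≠ l → E X (i, true) (i, true) ∈ X0 := by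
    intro i hi
    obtain ⟨q, hq, hy⟩ := L_y D R hl hK hi
    have hq0 : q ∈ X0 := by
      refine (RGD.Sup_le ?_ : RGD.Sup X (QQ l) ≤ X0) hq
      rintro r ⟨i', k', h1, h2, h3, rfl⟩ a' ha'
      rcases (D.mem_iff (isRoot_rt cs (ok_pp i' k' true))).1 ha' with rfl | rfl
      · exact one_mem _
      · exact L_short' D R hl hK hn h1
    have h1 := (mul_mem_cancel_left hq0).1 hy
    exact (mul_mem_cancel_left (L_short' D R hl hK hn (Ne.symm hi))).1 h1
  by_cases hil : i = l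
  · subst hil
    have h0 : (⟨0, by omega⟩ : Fin n) ≠ i := fun e => by rw [← e] at hl; simp only at hl; omega
    have h1 := key _ h0
    have h3 := refl_mem D R (isRoot_rt cs (Or.inr rfl : Ok ((⟨0, by omega⟩, true) : Fin n × Bool) (⟨0, by omega⟩, true)))
      (isRoot_rt cs (Or.inl h0 : Ok (ng (⟨0, by omega⟩, true)) (i, true)))
      (L_fix D R hl hK (s := false) h0)
      (by rw [neg_rt]; exact L_fix D R hl hK (s := true) h0) h1
    rw [refl_long h0] at h3
    exact h3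
  · exact key i hil

/-- `(u r - 1) (mu r a) = a` for the roots `r = 2 e_i` -/
theorem L_Mr (i : Fin n) : Mr X ρ a (rt (i, true) (i, true)) := by
  have hkl : l ∈ Mv ρ nn a := by rw [hK]; rfl
  have hso : (sr l : Fin n → ℤ) = rt (l, true) (l, true) := by
    rw [sr_eq_rt, nx, dif_neg (by omega)]
  have h0 : Mr X ρ a (rt (l, true) (l, true)) := by
    rw [← hso]
    exact Mr.base D R.core hkl
  by_cases hil : i = l
  · rw [hil]; exact h0
  · have h3 := Mr.refl D (isRoot_rt cs (Or.inr rfl : Ok ((l, true) : Fin n × Bool) (l, true)))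
      (isRoot_rt cs (Or.inl (Ne.symm hil) : Ok (ng (l, true)) (i, true)))
      (L_fix D R hl hK (s := false) (Ne.symm hil))
      (by rw [neg_rt]; exact L_fix D R hl hK (s := true) (Ne.symm hil)) h0
    rwa [refl_long (Ne.symm hil)] at h3

end

end Cfsg.Agent.Omega.EH3.Kf.SpTwo

end

section


/-!
# `Sp_2n(2)`, `n ≥ 3`: the case `Mv = {α_n}`, second part (helper532)

* `L_rel` : `(u (e_p + e_q) - 1) (NN p (NN q a)) = a`;
* `last_false` : contradiction.
-/

set_option autoImplicit false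
set_option linter.unusedSectionVars false

namespace Cfsg.Agent.Omega.EH3.Kf.SpTwo

open CoxeterSystem Cfsg.Agent.ChevalleyStructure.CoxeterGeom Cfsg.Agent.Tits.Roots Cfsg.Agent.Tits.Core
  Cfsg.Agent.Tits.RootComb Cfsg.Agent.Nodes.Comb Cfsg.Agent.Nodes.Reps Cfsg.Agent.Nodes.BNOf
  Cfsg.Agent.Nodes.StabComb Cfsg.Agent.Nodes.Bruhat Cfsg.Agent.Nodes.OppDec Cfsg.Agent.Nodes.LeviDec
  Cfsg.Agent.Nodes.Coroot Cfsg.Agent.Nodes.TypeC Cfsg.Agent.Nodes.TypeCForm Cfsg.Agent.Nodes.KindBC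
  Cfsg.Agent.Omega.EH3.Kf.Base Cfsg.Agent.Omega.EH3.Kf.Nm Cfsg.Agent.Omega.EH3.Kf.Two
  Cfsg.Agent.Omega.EH3.Kf.TwoV
open scoped commutatorElement

variable {n : ℕ} {W Y : Type*} [Group W] [Group Y] {cs : CoxeterSystem (CoxeterMatrix.B n) W}
  {T : Subgroup Y} {nn : Fin n → Y} {X : (Fin n → ℤ) → Subgroup Y}
  {V : Type*} [AddCommGroup V] [Module (ZMod 2) V] {ρ : Y →* (V ≃ₗ[ZMod 2] V)} {a : V}
  {b : LinearMap.BilinForm (ZMod 2) V} {DD : Submodule (ZMod 2) V} {X0 : Subgroup Y} {w0 : ℕ}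

section

variable [Finite W] [Finite Y] (D : Dat cs (isCartan n) T nn X)
  (R : Row cs (isCartan n) T nn X ρ b a DD X0 w0) {l : Fin n} (hl : (l : ℕ) + 1 = n) (hK : Mv ρ nn a = {l})

include D R hl hK

theorem NN_cancel (i : Fin n) (v : V) : ρ (NN X i) (ρ (NN X i) v) = v := by
  rw [← rho_mul, NN_sq D, rho_one]

theorem NN_swap {i j : Fin n} (hij : i ≠ j) (v : V) : ρ (NN X i) (ρ (NN X j) v) = ρ (NN X j) (ρ (NN X i) v) := by
  rw [← rho_mul, ← rho_mul, NN_comm_NN D hij]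

/-- `E (2 e_i) (NN i a) = NN i a + a` -/
theorem L_Mr' (i : Fin n) : ρ (E X (i, true) (i, true)) (ρ (NN X i) a) = ρ (NN X i) a + a := L_Mr D R hl hK i

/-- moving `NN` to the left -/
theorem E_NN {i : Fin n} {c d : Fin n × Bool} (hok : Ok c d) (hc : c.1 ≠ i) (hd : d.1 ≠ i) (v : V) :
    ρ (E X c d) (ρ (NN X i) v) = ρ (NN X i) (ρ (E X c d) v) := by
  rw [← rho_mul, NN_comm D hok hc hd, rho_mul]

theorem E_NN' {i : Fin n} {s : Bool} {c : Fin n × Bool} (hc : c.1 ≠ i) (v : V) :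
    ρ (E X (i, s) c) (ρ (NN X i) v) = ρ (NN X i) (ρ (E X (i, !s) c) v) := by
  rw [← rho_mul, NN_E D hc, rho_mul]

/-- **the relation** -/
theorem L_rel {p q : Fin n} (hpq : p ≠ q) : ρ (E X (p, true) (q, true)) (ρ (NN X p) (ρ (NN X q) a)) =
    ρ (NN X p) (ρ (NN X q) a) + a := by
  set x := E X (p, true) (q, true) with hx
  set z : V := ρ (NN X p) (ρ (NN X q) a) with hz
  have hz' : z = ρ (NN X q) (ρ (NN X p) a) := by rw [hz, NN_swap D R hl hK hpq]
  set ζ : V := ρ x z + z + a with hζ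
  have hxx : x * x = 1 := E_sq D (ok_pp p q true)
  have hxa : ρ x a = a := L_fixP D R p q
  -- `x` fixes `NN p a` and `NN q a`
  have hxp : ρ x (ρ (NN X p) a) = ρ (NN X p) a := by
    rw [hx, E_NN' D R hl hK (c := (q, true)) (Ne.symm hpq)]
    congr 1
    have h1 := L_fix D R hl hK (s := false) hpq
    exact h1
  have hxq : ρ x (ρ (NN X q) a) = ρ (NN X q) a := by
    rw [hx, E_comm, E_NN' D R hl hK (c := (p, true)) hpq]
    congr 1
    exact L_fix D R hl hK (s := false) (Ne.symm hpq)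
  -- root elements with an index outside `{p, q}`
  have hA : ∀ i j, i ≠ p → i ≠ q → ρ (E X (i, true) (j, true)) z = z := by
    intro i j hip hiq
    by_cases hjp : j = p
    · subst hjp
      rw [hz, E_comm, E_NN' D R hl hK (c := (i, true)) hip, E_NN D R hl hK (Or.inl (Ne.symm hip)) hpq hiq]
      congr 2
      exact L_fix D R hl hK (s := false) (Ne.symm hip)
    · by_cases hjq : j = q
      · subst hjq
        rw [hz', E_comm, E_NN' D R hl hK (c := (i, true)) hiq, E_NN D R hl hK (Or.inl (Ne.symm hiq)) (Ne.symm hpq) hip]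
        congr 2
        exact L_fix D R hl hK (s := false) (Ne.symm hiq)
      · rw [hz, E_NN D R hl hK (ok_pp i j true) hip hjp, E_NN D R hl hK (ok_pp i j true) hiq hjq,
          L_fixP D R i j]
  have key : ∀ i j, ρ (E X (i, true) (j, true)) ζ = ζ := by
    intro i j
    have hc : E X (i, true) (j, true) * x = x * E X (i, true) (j, true) := L_comm D i j p q
    have h1 : ρ (E X (i, true) (j, true)) ζ = ρ x (ρ (E X (i, true) (j, true)) z) +
        ρ (E X (i, true) (j, true)) z + a := by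
      rw [hζ, map_add, map_add, ← rho_mul, hc, rho_mul, L_fixP D R i j]
    have hfixz : ρ (E X (i, true) (j, true)) z = z → ρ (E X (i, true) (j, true)) ζ = ζ := by
      intro h2; rw [h1, h2]
    have hmov : ∀ v, ρ x v = v → ρ (E X (i, true) (j, true)) z = z + v → ρ (E X (i, true) (j, true)) ζ = ζ := by
      intro v hv h2
      rw [h1, h2, map_add, hv, hζ]
      have : ρ x z + v + (z + v) + a = ρ x z + z + a + (v + v) := by abel
      rw [this, vv, add_zero]
    by_cases hip : i = p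
    · by_cases hjp : j = p
      · rw [hip, hjp] at hmov ⊢
        refine hmov (ρ (NN X q) a) hxq ?_
        rw [hz', E_NN D R hl hK (Or.inr rfl) hpq hpq, L_Mr' D R hl hK, map_add]
      · by_cases hjq : j = q
        · rw [hip, hjq]
          show ρ x ζ = ζ
          rw [hζ, map_add, map_add, ← rho_mul, hxx, rho_one, hxa]
          abel
        · refine hfixz ?_
          rw [E_comm]
          exact hA j i hjp hjq
    · by_cases hiq : i = q
      · by_cases hjq : j = q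
        · rw [hiq, hjq] at hmov ⊢
          refine hmov (ρ (NN X p) a) hxp ?_
          rw [hz, E_NN D R hl hK (Or.inr rfl) (Ne.symm hpq) (Ne.symm hpq), L_Mr' D R hl hK, map_add]
        · by_cases hjp : j = p
          · rw [hiq, hjp, E_comm]
            show ρ x ζ = ζ
            rw [hζ, map_add, map_add, ← rho_mul, hxx, rho_one, hxa]
            abel
          · refine hfixz ?_
            rw [E_comm]
            exact hA j i hjp hjq
      · exact hfixz (hA i j hip hiq)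
  have hfix' : ∀ x ∈ X0, ρ x ζ = ζ := by
    have h1 : VJ cs (isCartan n) X (Mv ρ nn a)ᶜ ≤ ThmA.St ρ ζ := by
      refine RGD.Sup_le fun r' hr' g hg => ?_
      obtain ⟨i, j, rfl⟩ := L_form hl hK hr'
      rcases (D.mem_iff (isRoot_rt cs (ok_pp i j true))).1 hg with rfl | rfl
      · exact one_mem _
      · exact key i j
    intro x hx
    exact h1 (Cov.le_VJ R hx)
  have e1 : ρ x z = z + a + ζ := by
    rw [hζ]
    have : z + a + (ρ x z + z + a) = ρ x z + (z + z) + (a + a) := by abel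
    rw [this, vv, vv, add_zero, add_zero]
  rcases R.fix ζ hfix' with h0 | h0
  · rw [e1, h0, add_zero]
  · exfalso
    rw [h0, add_assoc, vv, add_zero] at e1
    -- `E (-e_p) (-e_q)` fixes `a`
    have h2 : ρ (E X (p, false) (q, false)) a = a := by
      have h3 : ρ (NN X p) (ρ (NN X q) (ρ (E X (p, false) (q, false)) a)) = ρ x z := by
        rw [hx, hz, E_NN' D R hl hK (c := (q, true)) (Ne.symm hpq)]
        congr 1
        rw [E_comm, E_comm (p, !true) (q, true), E_NN' D R hl hK (c := (p, !true)) hpq]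
        rfl
      rw [e1, hz] at h3
      exact (ρ (NN X q)).injective ((ρ (NN X p)).injective h3)
    have h4 := fix_comm (L_fixP D R p p) h2
    have h5 := comm_B2 D (a := (p, true)) (b := (q, false)) hpq
    change ⁅E X (p, true) (p, true), E X (p, false) (q, false)⁆ = _ at h5
    rw [h5] at h4
    have h6 : ρ (E X (q, false) (q, false)) a = a := by
      have h7 : ρ (E X (p, true) (q, false)) a = a := L_fix D R hl hK (s := true) hpq
      have h8 : ρ (E X (p, true) (q, false)) (ρ (E X (q, false) (q, false)) a) =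
          ρ (E X (p, true) (q, false)) a := by rw [← rho_mul, h4, h7]
      exact (ρ (E X (p, true) (q, false))).injective h8
    have h7 := (L_Mr D R hl hK q).neg D (isRoot_rt cs (ok_pp q q true))
    rw [neg_rt] at h7
    change ρ (E X (q, false) (q, false)) a = _ at h7
    rw [h6] at h7
    have h8 : ρ (mu X (rt (q, true) (q, true))) a = 0 := by
      have := eq_add_of h7.symm
      rw [this, vv]
    have h9 := congrArg (ρ (mu X (rt (q, true) (q, true)))⁻¹) h8
    rw [rho_inv, map_zero] at h9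
    exact R.a_ne h9

theorem L_relneg {p q : Fin n} (hpq : p ≠ q) : ρ (E X (p, false) (q, false)) a =
    ρ (NN X p) (ρ (NN X q) a) + a := by
  have h3 : ρ (NN X p) (ρ (NN X q) (ρ (E X (p, false) (q, false)) a)) =
      ρ (E X (p, true) (q, true)) (ρ (NN X p) (ρ (NN X q) a)) := by
    rw [E_NN' D R hl hK (c := (q, true)) (Ne.symm hpq)]
    congr 1
    rw [E_comm, E_comm (p, !true) (q, true), E_NN' D R hl hK (c := (p, !true)) hpq]
    rfl
  rw [L_rel D R hl hK hpq] at h3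
  have h4 := congrArg (fun v => ρ (NN X q) (ρ (NN X p) v)) h3
  simp only [map_add] at h4
  rw [NN_cancel D R hl hK, NN_cancel D R hl hK, NN_cancel D R hl hK, NN_cancel D R hl hK] at h4
  rw [h4, add_comm, NN_swap D R hl hK hpq]

theorem L_Mrneg (i : Fin n) : ρ (E X (i, false) (i, false)) a = ρ (NN X i) a + a := by
  have h7 := (L_Mr D R hl hK i).neg D (isRoot_rt cs (ok_pp i i true))
  rw [neg_rt] at h7
  exact h7

/-- `n ≥ 4` -/
theorem last_four (hn : 4 ≤ n) : False := by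
  have hlong : ∀ i, E X (i, true) (i, true) ∈ X0 := L_long D R hl hK (by omega)
  -- `(t_i - 1) (NN i a) = a`
  have s0 : ∀ i, dl ρ (E X (i, true) (i, true)) (ρ (NN X i) a) = a := by
    intro i
    rw [dl, L_Mr' D R hl hK]
    have : ρ (NN X i) a + a + ρ (NN X i) a = a + (ρ (NN X i) a + ρ (NN X i) a) := by abel
    rw [this, vv, add_zero]
  have s1 : ∀ i j v, i ≠ j → dl ρ (E X (i, true) (i, true)) (ρ (NN X j) v) =
      ρ (NN X j) (dl ρ (E X (i, true) (i, true)) v) := by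
    intro i j v hij
    rw [dl, dl, E_NN D R hl hK (Or.inr rfl) hij hij, map_add]
  set i0 : Fin n := ⟨0, by omega⟩ with h0
  set i1 : Fin n := ⟨1, by omega⟩ with h1
  set i2 : Fin n := ⟨2, by omega⟩ with h2
  set i3 : Fin n := ⟨3, by omega⟩ with h3
  have n01 : i0 ≠ i1 := fun e => by rw [h0, h1, Fin.mk.injEq] at e; omega
  have n02 : i0 ≠ i2 := fun e => by rw [h0, h2, Fin.mk.injEq] at e; omega
  have n03 : i0 ≠ i3 := fun e => by rw [h0, h3, Fin.mk.injEq] at e; omega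
  have n12 : i1 ≠ i2 := fun e => by rw [h1, h2, Fin.mk.injEq] at e; omega
  have n13 : i1 ≠ i3 := fun e => by rw [h1, h3, Fin.mk.injEq] at e; omega
  have n23 : i2 ≠ i3 := fun e => by rw [h2, h3, Fin.mk.injEq] at e; omega
  have l0 : Orth.Lv b a DD 0 (ρ (NN X i0) (ρ (NN X i1) (ρ (NN X i2) (ρ (NN X i3) a)))) := trivial
  have l1 := Orth.lv_dl R (hlong i3) l0
  rw [s1 _ _ _ n03.symm, s1 _ _ _ n13.symm, s1 _ _ _ n23.symm, s0] at l1
  have l2 := Orth.lv_dl R (hlong i2) l1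
  rw [s1 _ _ _ n02.symm, s1 _ _ _ n12.symm, s0] at l2
  have l3 := Orth.lv_dl R (hlong i1) l2
  rw [s1 _ _ _ n01.symm, s0] at l3
  have l4 := Orth.lv_dl R (hlong i0) l3
  rw [s0] at l4
  exact R.a_ne l4

/-- `n = 3` -/
theorem last_three (hn : n = 3) : False := by
  have hn3 : 3 ≤ n := by omega
  have hlong : ∀ i, E X (i, true) (i, true) ∈ X0 := L_long D R hl hK hn3
  obtain ⟨w, k, hk, h1, h2⟩ := Opp.opp R (S := {r | ∃ i, r = rt (i, true) (i, true)}) (by
    rintro r' ⟨i, rfl⟩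
    exact ⟨isRoot_rt cs (Or.inr rfl), _, D.u_mem (isRoot_rt cs (Or.inr rfl)), hlong i, D.u_ne (isRoot_rt cs (Or.inr rfl))⟩)
  obtain ⟨f, hf, hfn, hf1⟩ := exists_perm (cs := cs) w⁻¹
  -- `w⁻¹ e_i = -e_{π i}`
  set π : Fin n → Fin n := fun i => (f (i, true)).1 with hπ
  have hfo : ∀ i, f (i, true) = (π i, false) := by
    intro i
    have h3 := h2 _ ⟨i, rfl⟩
    obtain ⟨c, d, e⟩ := L_form hl hK h3
    rw [hf, neg_rt] at e
    have e2 := congrArg ee e
    rw [ee_rt, ee_rt] at e2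
    rcases wt_add_eq (Or.inr rfl) (ok_pp c d true) e2 with ⟨h5, -⟩ | ⟨h5, -⟩ <;>
    · have h6 := congrArg Prod.snd h5
      simp only [ng_snd] at h6
      refine Prod.ext rfl ?_
      show (f (i, true)).2 = false
      revert h6
      cases (f (i, true)).2 <;> simp
  have hπinj : ∀ i j, i ≠ j → π i ≠ π j := fun i j hij e => hij ((hf1 (i, true) (j, true)).1 e)
  -- conjugation by `k`
  have hconj : ∀ i j v, ρ (E X (i, true) (j, true)) (ρ k v) = ρ k (ρ (E X (π i, false) (π j, false)) v) := by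
    intro i j v
    have h5 := D.conj_u hk.inv (isRoot_rt cs (ok_pp i j true))
    rw [hf, hfo, hfo, inv_inv] at h5
    have h6 : E X (i, true) (j, true) * k = k * E X (π i, false) (π j, false) := by
      unfold E
      rw [← h5]; group
    rw [← rho_mul, h6, rho_mul]
  set p : Fin n := ⟨0, by omega⟩ with hp
  set q : Fin n := ⟨1, by omega⟩ with hq
  set m : Fin n := ⟨2, by omega⟩ with hm
  have hpq : p ≠ q := fun e => by rw [hp, hq, Fin.mk.injEq] at e; omega
  have hpm : p ≠ m := fun e => by rw [hp, hm, Fin.mk.injEq] at e; omega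
  have hqm : q ≠ m := fun e => by rw [hq, hm, Fin.mk.injEq] at e; omega
  have hcase : ∀ i : Fin n, i = p ∨ i = q ∨ i = m := by
    intro i
    have h4 := i.2
    have h5 : (i : ℕ) = 0 ∨ (i : ℕ) = 1 ∨ (i : ℕ) = 2 := by omega
    rcases h5 with h5 | h5 | h5
    · exact Or.inl (Fin.ext h5)
    · exact Or.inr (Or.inl (Fin.ext h5))
    · exact Or.inr (Or.inr (Fin.ext h5))
  have hxX : E X (p, true) (q, true) ∈ X0 := L_short' D R hl hK hn3 hpq
  set x := E X (p, true) (q, true) with hx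
  set z : V := ρ (NN X (π p)) (ρ (NN X (π q)) a) with hz
  have hz' : z = ρ (NN X (π q)) (ρ (NN X (π p)) a) := by rw [hz, NN_swap D R hl hK (hπinj _ _ hpq)]
  set d : V := dl ρ x (ρ k a) with hd
  have hd2 : d = ρ k z := by
    rw [hd, dl, hx, hconj, L_relneg D R hl hK (hπinj _ _ hpq), map_add, add_assoc, vv, add_zero]
  -- the elements of `X0` other than `E m m` fix `d`
  have g1 : ∀ i j, i ≠ m → ρ (E X (i, true) (j, true)) d = d := by
    intro i j him
    rw [hd2, hconj]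
    congr 1
    by_cases hjm : j = m
    · rw [hjm]
      rcases hcase i with hi | hi | hi
      · rw [hi, hz, E_NN' D R hl hK (c := (π m, false)) (hπinj _ _ hpm.symm),
          E_NN D R hl hK (c := (π p, !false)) (d := (π m, false)) (Or.inl (hπinj _ _ hpm)) (hπinj _ _ hpq)
            (hπinj _ _ hqm.symm)]
        congr 2
        exact L_fix D R hl hK (s := true) (hπinj _ _ hpm)
      · rw [hi, hz', E_NN' D R hl hK (c := (π m, false)) (hπinj _ _ hqm.symm),
          E_NN D R hl hK (c := (π q, !false)) (d := (π m, false)) (Or.inl (hπinj _ _ hqm)) (hπinj _ _ hpq.symm)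
            (hπinj _ _ hpm.symm)]
        congr 2
        exact L_fix D R hl hK (s := true) (hπinj _ _ hqm)
      · exact absurd hi him
    · -- `i, j ∈ {p, q}`
      have hpp : ∀ i, ρ (E X (i, false) (i, false)) (ρ (NN X i) a) = ρ (NN X i) a := by
        intro i
        have h5 := L_Mrneg D R hl hK i
        have h6 := congrArg (ρ (NN X i)) (L_Mr' D R hl hK i)
        rw [map_add, NN_cancel D R hl hK] at h6
        -- `E(-2e_i) = NN i E(2e_i) NN i`
        have h7 := mu_conj D (isRoot_rt cs (Or.inr rfl : Ok ((i, true) : Fin n × Bool) (i, true)))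
          (isRoot_rt cs (Or.inr rfl : Ok ((i, true) : Fin n × Bool) (i, true)))
        rw [cpr_self cs _ (isRoot_rt cs (Or.inr rfl : Ok ((i, true) : Fin n × Bool) (i, true)))] at h7
        have h8 : rt (i, true) (i, true) - (2 : ℤ) • rt (i, true) (i, true) = rt (i, false) (i, false) := by
          have : rt ((i, true) : Fin n × Bool) (i, true) - (2 : ℤ) • rt (i, true) (i, true) = -rt (i, true) (i, true) := by
            module
          rw [this, neg_rt]
          rfl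
        rw [h8] at h7
        have h9 : E X (i, false) (i, false) * NN X i = NN X i * E X (i, true) (i, true) := by
          show u X (rt (i, false) (i, false)) * NN X i = NN X i * u X (rt (i, true) (i, true))
          rw [← h7]
          show NN X i * u X (rt (i, true) (i, true)) * (NN X i)⁻¹ * NN X i = _
          rw [inv_mul_cancel_right]
        rw [← rho_mul, h9, rho_mul, L_fixP D R]
      rcases hcase i with hi | hi | hi
      · rcases hcase j with hj | hj | hj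
        · rw [hi, hj, hz', E_NN D R hl hK (c := (π p, false)) (d := (π p, false)) (Or.inr rfl) (hπinj _ _ hpq)
            (hπinj _ _ hpq), hpp]
        · rw [hi, hj]
          have h5 := L_relneg D R hl hK (hπinj _ _ hpq)
          -- `y (y a) = a`
          have h6 := congrArg (ρ (E X (π p, false) (π q, false))) h5
          rw [← rho_mul, E_sq D (ok_pp _ _ _), rho_one, map_add, h5] at h6
          show ρ (E X (π p, false) (π q, false)) z = z
          have h7 : ρ (E X (π p, false) (π q, false)) z + (z + a) = a := h6.symm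
          have h8 := eq_add_of h7
          rw [h8]
          have : a + (z + a) = z + (a + a) := by abel
          rw [this, vv, add_zero]
        · exact absurd hj hjm
      · rcases hcase j with hj | hj | hj
        · rw [hi, hj, E_comm]
          have h5 := L_relneg D R hl hK (hπinj _ _ hpq)
          have h6 := congrArg (ρ (E X (π p, false) (π q, false))) h5
          rw [← rho_mul, E_sq D (ok_pp _ _ _), rho_one, map_add, h5] at h6
          show ρ (E X (π p, false) (π q, false)) z = z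
          have h7 : ρ (E X (π p, false) (π q, false)) z + (z + a) = a := h6.symm
          have h8 := eq_add_of h7
          rw [h8]
          have : a + (z + a) = z + (a + a) := by abel
          rw [this, vv, add_zero]
        · rw [hi, hj, hz, E_NN D R hl hK (c := (π q, false)) (d := (π q, false)) (Or.inr rfl) (hπinj _ _ hpq.symm)
            (hπinj _ _ hpq.symm), hpp]
        · exact absurd hj hjm
      · exact absurd hi him
  set t := E X (m, true) (m, true) with ht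
  have htt : t * t = 1 := E_sq D (ok_pp m m true)
  set e' : V := dl ρ t d with he'
  have g2 : ∀ y ∈ X0, ρ y e' = e' := by
    have h4 : VJ cs (isCartan n) X (Mv ρ nn a)ᶜ ≤ ThmA.St ρ e' := by
      refine RGD.Sup_le fun r' hr' g hg => ?_
      obtain ⟨i, j, rfl⟩ := L_form hl hK hr'
      rcases (D.mem_iff (isRoot_rt cs (ok_pp i j true))).1 hg with rfl | rfl
      · exact one_mem _
      · show ρ (E X (i, true) (j, true)) e' = e'
        have h5 : E X (i, true) (j, true) * t = t * E X (i, true) (j, true) := L_comm D i j m m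
        have h6 : ρ (E X (i, true) (j, true)) d = d → ρ (E X (i, true) (j, true)) e' = e' := by
          intro h7
          rw [he', dl, map_add, ← rho_mul, h5, rho_mul, h7]
        by_cases him : i = m
        · by_cases hjm : j = m
          · rw [him, hjm]
            show ρ t e' = e'
            rw [he', dl, map_add, ← rho_mul, htt, rho_one, add_comm]
          · refine h6 ?_
            rw [E_comm]
            exact g1 j i hjm
        · exact h6 (g1 i j him)
    intro y hy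
    exact h4 (Cov.le_VJ R hy)
  have g3 := R.fix e' g2
  -- all `y ∈ X0` : `(y - 1) d ∈ {0, a}`
  have g4 : ∀ y ∈ VJ cs (isCartan n) X (Mv ρ nn a)ᶜ, dl ρ y d = 0 ∨ dl ρ y d = a := by
    let K : Subgroup Y :=
      { carrier := {y | ρ y a = a ∧ (dl ρ y d = 0 ∨ dl ρ y d = a)}
        one_mem' := ⟨rho_one a, Or.inl (by rw [dl, rho_one, vv])⟩
        mul_mem' := by
          rintro y y' ⟨h5, h6⟩ ⟨h7, h8⟩
          refine ⟨fix_mul h5 h7, ?_⟩
          have h9 : dl ρ (y * y') d = ρ y (dl ρ y' d) + dl ρ y d := by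
            rw [dl, dl, dl, map_add, rho_mul]
            have : ρ y (ρ y' d) + ρ y d + (ρ y d + d) = ρ y (ρ y' d) + d + (ρ y d + ρ y d) := by abel
            rw [this, vv, add_zero]
          rw [h9]
          rcases h6 with h6 | h6 <;> rcases h8 with h8 | h8 <;> rw [h6, h8]
          · left; rw [map_zero, add_zero]
          · right; rw [h5, add_zero]
          · right; rw [map_zero, zero_add]
          · left; rw [h5, vv]
        inv_mem' := by
          rintro y ⟨h5, h6⟩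
          refine ⟨fix_inv h5, ?_⟩
          have h9 : dl ρ y⁻¹ d = ρ y⁻¹ (dl ρ y d) := by
            rw [dl, dl, map_add, rho_inv, add_comm]
          rw [h9]
          rcases h6 with h6 | h6 <;> rw [h6]
          · left; rw [map_zero]
          · right; exact fix_inv h5 }
    have h5 : VJ cs (isCartan n) X (Mv ρ nn a)ᶜ ≤ K := by
      refine RGD.Sup_le fun r' hr' g hg => ?_
      obtain ⟨i, j, rfl⟩ := L_form hl hK hr'
      rcases (D.mem_iff (isRoot_rt cs (ok_pp i j true))).1 hg with rfl | rfl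
      · exact one_mem _
      · refine ⟨L_fixP D R i j, ?_⟩
        show dl ρ (E X (i, true) (j, true)) d = 0 ∨ dl ρ (E X (i, true) (j, true)) d = a
        by_cases him : i = m
        · by_cases hjm : j = m
          · rw [him, hjm]
            exact g3
          · left
            rw [E_comm, dl, g1 j i hjm, vv]
        · left
          rw [dl, g1 i j him, vv]
    exact fun y hy => (h5 hy).2
  obtain ⟨y, hy, t', ht', h4⟩ := R.tri x hxX (E_ne D (ok_pp p q true)) _ h1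
  apply h4
  rw [← hd]
  rcases g4 y (Cov.le_VJ R hy) with h5 | h5
  · rw [h5, map_zero, LinearMap.zero_apply]
  · rw [h5]
    exact R.one t' ht' _

/-- **the case `Mv = {α_n}`** -/
theorem last_false (hn : 3 ≤ n) : False := by
  rcases Nat.lt_or_ge 3 n with h | h
  · exact last_four D R hl hK h
  · exact last_three D R hl hK (by omega)

end

end Cfsg.Agent.Omega.EH3.Kf.SpTwo

end

end
end

-- part: Mrg/Omega/EH3/Kf/TableAll
section
-- merged: Cfsg.Agent.Mrg.Omega.EH3.Kf.SpTwo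
section

section


/-!
# The row `Sp_2n(2)`, `n ≥ 3` (helper532)

`false` : there is no `Row` of type `C_n`, `n ≥ 3`, with all root groups of order `2`.
-/

set_option autoImplicit false
set_option linter.unusedSectionVars false

namespace Cfsg.Agent.Omega.EH3.Kf.SpTwo

open CoxeterSystem Cfsg.Agent.ChevalleyStructure.CoxeterGeom Cfsg.Agent.Tits.Roots Cfsg.Agent.Tits.Core
  Cfsg.Agent.Tits.RootComb Cfsg.Agent.Nodes.Comb Cfsg.Agent.Nodes.Reps Cfsg.Agent.Nodes.BNOf
  Cfsg.Agent.Nodes.StabComb Cfsg.Agent.Nodes.Bruhat Cfsg.Agent.Nodes.OppDec Cfsg.Agent.Nodes.LeviDec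
  Cfsg.Agent.Nodes.Coroot Cfsg.Agent.Nodes.TypeC Cfsg.Agent.Nodes.TypeCForm Cfsg.Agent.Nodes.KindBC
  Cfsg.Agent.Omega.EH3.Kf.Base Cfsg.Agent.Omega.EH3.Kf.Nm Cfsg.Agent.Omega.EH3.Kf.Two
  Cfsg.Agent.Omega.EH3.Kf.TwoV Cfsg.Agent.Omega.EH3.Kf.Lead
open scoped commutatorElement

/-! ### The weight of a set of nodes -/

section General

variable {I W Y V : Type*} [Fintype I] [DecidableEq I] [Group W] [Group Y] [AddCommGroup V]
    [Module (ZMod 2) V] {M : CoxeterMatrix I} {cs : CoxeterSystem M W} {A : I → I → ℤ} {h : IsCartan M A}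
    {T : Subgroup Y} {n : I → Y} {X : (I → ℤ) → Subgroup Y} {ρ : Y →* (V ≃ₗ[ZMod 2] V)}
    {b : LinearMap.BilinForm (ZMod 2) V} {a : V} {DD : Submodule (ZMod 2) V} {X0 : Subgroup Y} {w : ℕ}

open Classical in
/-- the weight with value `1` on `K` and `2` on the other simple roots -/
noncomputable def wK (K : Set I) : (I → ℤ) →+ ℤ where
  toFun x := ∑ j, x j * (if j ∈ K then 1 else 2)
  map_zero' := by simp
  map_add' x y := by
    rw [← Finset.sum_add_distrib]
    exact Finset.sum_congr rfl fun j _ => by rw [Pi.add_apply, add_mul]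

open Classical in
theorem wK_apply (K : Set I) (x : I → ℤ) : wK K x = ∑ j, x j * (if j ∈ K then 1 else 2) := rfl

open Classical in
theorem wK_sr (K : Set I) (i : I) : wK K (sr i) = if i ∈ K then 1 else 2 := by
  rw [wK_apply, Finset.sum_eq_single i]
  · rw [sr_self, one_mul]
  · intro j _ hj
    rw [sr_ne hj, zero_mul]
  · intro hi; exact absurd (Finset.mem_univ i) hi

theorem wK_pos (K : Set I) (i : I) : 0 < wK K (sr i) := by
  rw [wK_sr]; split_ifs <;> norm_num

theorem two_le_wK {K : Set I} {j : I} (hj : j ∉ K) {x : I → ℤ} (hx : 0 ≤ x) (hxj : 0 < x j) : 2 ≤ wK K x := by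
  classical
  rw [wK_apply]
  have h1 : x j * (if j ∈ K then 1 else 2) ≤ ∑ j, x j * (if j ∈ K then 1 else 2) :=
    Finset.single_le_sum (f := fun j => x j * (if j ∈ K then 1 else 2)) (fun i _ => by
      have := hx i
      simp only [Pi.zero_apply] at this
      split_ifs <;> omega) (Finset.mem_univ j)
  rw [if_neg hj] at h1
  omega

/-- **the simple roots of all nodes moving `a` are leading roots of `X0` for one weight** -/
theorem idlK [Finite W] [Finite Y] (R : Row cs h T n X ρ b a DD X0 w) (Dt : Dat cs h T n X) {k : I}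
    (hk : k ∈ Mv ρ n a) : Idl cs h X (wK (Mv ρ n a)) X0 (sr k) := by
  have hP : (sr k : I → ℤ) ∈ RGD.Pos cs h := ⟨isRoot_sr cs h k, sr_nonneg k⟩
  obtain ⟨x, hx, ho⟩ := ThmA.thmA R.core (K := Mv ρ n a) subset_rfl (u X (sr k))
    (RGD.le_Sup hP (Dt.u_mem hP.1))
  refine ⟨x, hx, hP, u X (sr k), Dt.u_mem hP.1, Dt.u_ne hP.1, (u X (sr k))⁻¹ * x, ?_, by group⟩
  refine RGD.Sup_mono (fun z hz => ?_) ho
  obtain ⟨hz, hz0, j, hj, hzj⟩ := hz
  refine ⟨⟨hz, hz0⟩, ?_⟩
  rw [wK_sr, if_pos hk]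
  exact two_le_wK hj hz0 hzj

theorem idlK_add [Finite W] [Finite Y] (R : Row cs h T n X ρ b a DD X0 w) (Dt : Dat cs h T n X) {K : Set I}
    {r s : I → ℤ} (hr : Idl cs h X (wK K) X0 r) (hr0 : r ∈ RGD.Pos cs h) (hs : s ∈ RGD.Pos cs h)
    (hp : cpr cs h s r < 0) : Idl cs h X (wK K) X0 (r + s) :=
  Idl.add (Obt.Obt.of_dat Dt).strict (wK_pos K) R.rgd
    (fun g hg x hx => R.norm g (R.fixB g (RGD.U_le_B hg)) x hx) hr hs ((Obt.Obt.of_dat Dt).cst _ hr0 _ hs hp)

theorem idlK_false [Finite W] [Finite Y] (R : Row cs h T n X ρ b a DD X0 w) (Dt : Dat cs h T n X) {K : Set I}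
    {r s : I → ℤ} (hr : Idl cs h X (wK K) X0 r) (hs : Idl cs h X (wK K) X0 s) (hr0 : r ∈ RGD.Pos cs h)
    (hs0 : s ∈ RGD.Pos cs h) (hp : cpr cs h s r < 0) : False :=
  Idl.false (Obt.Obt.of_dat Dt).strict (wK_pos K) ((Obt.Obt.of_dat Dt).inf_bot R.rgd (wK_pos K))
    (fun _ hx _ hy => Cov.comm_X0 R hx hy) hr hs ((Obt.Obt.of_dat Dt).cst _ hr0 _ hs0 hp)

end General

variable {n : ℕ} {W Y : Type*} [Group W] [Group Y] {cs : CoxeterSystem (CoxeterMatrix.B n) W}
  {T : Subgroup Y} {nn : Fin n → Y} {X : (Fin n → ℤ) → Subgroup Y}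
  {V : Type*} [AddCommGroup V] [Module (ZMod 2) V] {ρ : Y →* (V ≃ₗ[ZMod 2] V)} {a : V}
  {b : LinearMap.BilinForm (ZMod 2) V} {DD : Submodule (ZMod 2) V} {X0 : Subgroup Y} {w0 : ℕ}

theorem pos_rt {a b : Fin n × Bool} (hok : Ok a b) (ha : a.2 = true) (hab : a.1 ≤ b.1) :
    rt a b ∈ RGD.Pos cs (isCartan n) := ⟨isRoot_rt cs hok, TwC.nonneg_of (ee_rt _ _) ha hab⟩

theorem rt_add_rt (a b c : Fin n × Bool) : rt a b + rt (ng b) c = rt a c := by
  apply ee_injective
  rw [ee_add, ee_rt, ee_rt, ee_rt, wt_ng]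
  abel

/-- two leading roots `e_i - e_l`, `e_j + e_l` -/
theorem end_false [Finite W] [Finite Y] (D : Dat cs (isCartan n) T nn X)
    (R : Row cs (isCartan n) T nn X ρ b a DD X0 w0) {K : Set (Fin n)} {i j l : Fin n} (hij : i ≠ j) (hil : i < l)
    (hjl : j < l) (h1 : Idl cs (isCartan n) X (wK K) X0 (rt (i, true) (l, false)))
    (h2 : Idl cs (isCartan n) X (wK K) X0 (rt (j, true) (l, true))) : False := by
  refine idlK_false R D h2 h1 (pos_rt (Or.inl hjl.ne) rfl hjl.le) (pos_rt (Or.inl hil.ne) rfl hil.le) ?_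
  rw [cpr_E _ _ (c := (j, true)) (d := (l, true)) hjl.ne, dt_ne (c := (j, true)) hij,
    dt_ne (c := (j, true)) hjl.ne', dt_ne (c := (l, true)) hil.ne,
    show ((l, false) : Fin n × Bool) = ng (l, true) from rfl, dt_ng_left, dt_self]
  norm_num

/-- `Mv` contains a node which is neither the first nor the last -/
theorem int_false [Finite W] [Finite Y] (D : Dat cs (isCartan n) T nn X)
    (R : Row cs (isCartan n) T nn X ρ b a DD X0 w0) {k : Fin n} (hk : k ∈ Mv ρ nn a) (h0 : (k : ℕ) ≠ 0)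
    (h1 : (k : ℕ) + 1 ≠ n) : False := by
  have hk2 := k.2
  set l : Fin n := ⟨n - 1, by omega⟩ with hl
  set o : Fin n := ⟨0, by omega⟩ with ho
  set k' : Fin n := ⟨k + 1, by omega⟩ with hk'
  have hok : o < k := by rw [Fin.lt_def]; simp only [ho]; omega
  have hkl : k < l := by rw [Fin.lt_def]; simp only [hl]; omega
  have hsr : (sr k : Fin n → ℤ) = rt (k, true) (k', false) := by
    rw [sr_eq_rt, nx, dif_pos (by omega)]
  have s1 := idlK R D hk
  rw [hsr] at s1
  -- `e_k - e_l`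
  have s2 : Idl cs (isCartan n) X (wK (Mv ρ nn a)) X0 (rt (k, true) (l, false)) := by
    by_cases hk'l : k' = l
    · rw [hk'l] at s1
      exact s1
    · have hk'l' : k' < l := by
        refine lt_of_le_of_ne ?_ hk'l
        rw [Fin.le_def]; simp only [hk', hl]; omega
      have hkk' : k < k' := by rw [Fin.lt_def]; simp [hk']
      have h2 := idlK_add R D (s := rt (k', true) (l, false)) s1 (pos_rt (Or.inl hkk'.ne) rfl hkk'.le)
        (pos_rt (Or.inl hk'l'.ne) rfl hk'l'.le) (by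
          rw [cpr_E _ _ (c := (k, true)) (d := (k', false)) hkk'.ne, dt_ne (c := (k, true)) hkk'.ne',
            dt_ne (c := (k, true)) hkl.ne', dt_ne (a := (l, false)) (c := (k', false)) hk'l'.ne',
            show ((k', false) : Fin n × Bool) = ng (k', true) from rfl, dt_ng_right, dt_self]
          norm_num)
      have h3 := rt_add_rt (k, true) (k', false) (l, false)
      change rt (k, true) (k', false) + rt (k', true) (l, false) = _ at h3
      rwa [h3] at h2
  have p1 : rt (k, true) (l, false) ∈ RGD.Pos cs (isCartan n) := pos_rt (Or.inl hkl.ne) rfl hkl.le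
  -- `e_k + e_l`
  have s3 : Idl cs (isCartan n) X (wK (Mv ρ nn a)) X0 (rt (k, true) (l, true)) := by
    have h2 := idlK_add R D (s := rt (l, true) (l, true)) s2 p1 (pos_rt (Or.inr rfl) rfl le_rfl) (by
      rw [cpr_E _ _ (c := (k, true)) (d := (l, false)) hkl.ne, dt_ne (c := (k, true)) hkl.ne',
        show ((l, false) : Fin n × Bool) = ng (l, true) from rfl, dt_ng_right, dt_self]
      norm_num)
    have h3 := rt_add_rt (k, true) (l, false) (l, true)
    change rt (k, true) (l, false) + rt (l, true) (l, true) = _ at h3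
    rwa [h3] at h2
  -- `e_0 - e_l`
  have s4 : Idl cs (isCartan n) X (wK (Mv ρ nn a)) X0 (rt (o, true) (l, false)) := by
    have h2 := idlK_add R D (s := rt (o, true) (k, false)) s2 p1 (pos_rt (Or.inl hok.ne) rfl hok.le) (by
      rw [cpr_E _ _ (c := (k, true)) (d := (l, false)) hkl.ne, dt_ne (c := (k, true)) hok.ne,
        dt_ne (c := (l, false)) (hok.trans hkl).ne, dt_ne (c := (l, false)) hkl.ne,
        show ((k, false) : Fin n × Bool) = ng (k, true) from rfl, dt_ng_left, dt_self]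
      norm_num)
    have h3 := rt_add_rt (o, true) (k, false) (l, false)
    change rt (o, true) (k, false) + rt (k, true) (l, false) = _ at h3
    rwa [add_comm, h3] at h2
  exact end_false D R hok.ne (hok.trans hkl) hkl s4 s3

/-- `Mv` contains the first and the last node -/
theorem ends_false [Finite W] [Finite Y] (D : Dat cs (isCartan n) T nn X)
    (R : Row cs (isCartan n) T nn X ρ b a DD X0 w0) (hn : 3 ≤ n) {o l : Fin n} (ho : (o : ℕ) = 0)
    (hl : (l : ℕ) + 1 = n) (hko : o ∈ Mv ρ nn a) (hkl : l ∈ Mv ρ nn a) : False := by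
  set k : Fin n := ⟨1, by omega⟩ with hk
  have hok : o < k := by rw [Fin.lt_def]; simp only [hk]; omega
  have hkl' : k < l := by rw [Fin.lt_def]; simp only [hk]; omega
  have hsr : (sr o : Fin n → ℤ) = rt (o, true) (k, false) := by
    rw [sr_eq_rt, nx, dif_pos (by omega)]
    congr 2
    exact Fin.ext (by simp only [hk]; omega)
  have hsl : (sr l : Fin n → ℤ) = rt (l, true) (l, true) := by
    rw [sr_eq_rt, nx, dif_neg (by omega)]
  have s1 := idlK R D hko
  rw [hsr] at s1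
  have s2 := idlK R D hkl
  rw [hsl] at s2
  have pk : rt (k, true) (l, false) ∈ RGD.Pos cs (isCartan n) := pos_rt (Or.inl hkl'.ne) rfl hkl'.le
  -- `e_0 - e_l`
  have s4 : Idl cs (isCartan n) X (wK (Mv ρ nn a)) X0 (rt (o, true) (l, false)) := by
    have h2 := idlK_add R D (s := rt (k, true) (l, false)) s1 (pos_rt (Or.inl hok.ne) rfl hok.le) pk (by
      rw [cpr_E _ _ (c := (o, true)) (d := (k, false)) hok.ne, dt_ne (c := (o, true)) hok.ne',
        dt_ne (c := (o, true)) (hok.trans hkl').ne', dt_ne (a := (l, false)) (c := (k, false)) hkl'.ne',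
        show ((k, false) : Fin n × Bool) = ng (k, true) from rfl, dt_ng_right, dt_self]
      norm_num)
    have h3 := rt_add_rt (o, true) (k, false) (l, false)
    change rt (o, true) (k, false) + rt (k, true) (l, false) = _ at h3
    rwa [h3] at h2
  -- `e_1 + e_l`
  have s3 : Idl cs (isCartan n) X (wK (Mv ρ nn a)) X0 (rt (k, true) (l, true)) := by
    have h2 := idlK_add R D (s := rt (k, true) (l, false)) s2 (pos_rt (Or.inr rfl) rfl le_rfl) pk (by
      rw [cpr_EE, dt_ne (c := (l, true)) hkl'.ne,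
        show ((l, false) : Fin n × Bool) = ng (l, true) from rfl, dt_ng_left, dt_self]
      norm_num)
    have h3 := rt_add_rt (k, true) (l, false) (l, true)
    change rt (k, true) (l, false) + rt (l, true) (l, true) = _ at h3
    rwa [add_comm, h3] at h2
  exact end_false D R hok.ne (hok.trans hkl') hkl' s4 s3

/-- **`Sp_2n(2)`, `n ≥ 3`.** -/
theorem false (hn : 3 ≤ n) [Finite Y] (cs : CoxeterSystem (CoxeterMatrix.B n) W)
    (R : Row cs (isCartan n) T nn X ρ b a DD X0 w0) (h2 : ∀ i, Nat.card (X (sr i)) = 2) : False := by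
  have : Finite W := finite_W cs
  have D : Dat cs (isCartan n) T nn X := ⟨R.rgd, h2, six_B⟩
  set o : Fin n := ⟨0, by omega⟩ with ho
  set l : Fin n := ⟨n - 1, by omega⟩ with hl
  have hol : o ≠ l := fun e => by rw [ho, hl, Fin.mk.injEq] at e; omega
  have hl1 : (l : ℕ) + 1 = n := by simp only [hl]; omega
  have hsub : ∀ k ∈ Mv ρ nn a, k = o ∨ k = l := by
    intro k hk
    by_contra hcon
    push Not at hcon
    refine int_false D R hk (fun e => hcon.1 (Fin.ext (by simp only [ho]; exact e))) fun e => hcon.2 (Fin.ext ?_)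
    simp only [hl]; omega
  obtain ⟨k, hk⟩ := TwC.mv_nonempty R
  by_cases hko : o ∈ Mv ρ nn a
  · by_cases hkl : l ∈ Mv ρ nn a
    · exact ends_false D R hn rfl hl1 hko hkl
    · refine first_false D R (o := o) rfl ?_ hn
      ext j
      constructor
      · intro hj
        rcases hsub j hj with rfl | rfl
        · rfl
        · exact absurd hj hkl
      · rintro rfl
        exact hko
  · refine last_false D R (l := l) hl1 ?_ hn
    ext j
    constructor
    · intro hj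
      rcases hsub j hj with rfl | rfl
      · exact absurd hj hko
      · rfl
    · rintro rfl
      rcases hsub k hk with rfl | rfl
      · exact absurd hk hko
      · exact hk

end Cfsg.Agent.Omega.EH3.Kf.SpTwo

end

section


/-!
# EH3, Lie rows: the field `omm` of `Table.Rows` (helper94, helper944)
-/

set_option autoImplicit false

namespace Cfsg.Agent.Omega.EH3.Kf.FamOmm

open Cfsg Cfsg.Agent.TitsThree Cfsg.Agent.TitsThree.WittFrame Cfsg.Agent.TitsThree.WBridge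
  Cfsg.Agent.TitsThree.FrameCN Cfsg.Agent.TitsThree.KSideO Cfsg.Agent.LieClassical.OrthForms
  Cfsg.Agent.LieClassical.OrthSimple Cfsg.Agent.Nodes.WittAll

universe u

theorem kfRow_minus {F : Type*} [Field F] [Fintype F] [CharP F 2] {m : ℕ} (hm : 3 ≤ m) (a b : F)
    (hab : ∀ z₁ z₂ : F, z₁ ^ 2 + a * z₁ * z₂ + b * z₂ ^ 2 = 0 → z₁ = 0 ∧ z₂ = 0) :
    FamRow.KfRow.{u} (POmega F (quadFormMinus m F a b)) := by
  have : Finite (POmega F (quadFormMinus m F a b)) := Quotient.finite _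
  rw [← coe_minusForm] at *
  have hG := KFacts.SpecMinus.good_minus (F := F) (m := m) (by omega) a b hab
  obtain ⟨p0, hp0⟩ := KFacts.SpecMinus.adm_minus m a b hab
  exact TwOmm.kfRow_of_bd m hm a b hab (model (wminus m F a b hab) hG ⟨p0, hp0⟩)
    (OMinusBd.ambT a b hab (by omega) hG) (OMinusBd.exists_h_minus a b hab)
    (OMinusBd.bd_minus a b hab (by omega) hG ⟨p0, hp0⟩ (OMinusBd.ambT a b hab (by omega) hG) hp0)

/-- **The field `omm` of `Table.Rows`.** -/
theorem omm (F : Type) [Field F] [Fintype F] [CharP F 2] (m : ℕ) (a b : F) (hm : 4 ≤ m)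
    (hab : ∀ z₁ z₂ : F, z₁ ^ 2 + a * z₁ * z₂ + b * z₂ ^ 2 = 0 → z₁ = 0 ∧ z₂ = 0) :
    Main.Fam.{u} (POmega F (quadFormMinus (m - 1) F a b)) :=
  Or.inr (kfRow_minus (by omega) a b hab).toU

end Cfsg.Agent.Omega.EH3.Kf.FamOmm

end

end

-- merged: Cfsg.Agent.Mrg.Omega.EH3.Kf.TwE6
section

/-!
# EH3, Lie rows in characteristic 2: `²E₆(q)` (helper827)

* `commGen` : the root groups of the positive non-simple roots lie in `⁅U, U⁆`, every even `q`;
* `rowEnd` : there is no `Row` for `²E₆(q)`;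
* `kfRow` : `KfRow (twistedE6 K q)`.
-/

set_option autoImplicit false
set_option linter.unusedSectionVars false
set_option maxHeartbeats 400000

namespace Cfsg.Agent.Omega.EH3.Kf.TwE6

open CoxeterSystem Cfsg.Agent.ChevalleyStructure.CoxeterGeom Cfsg.Agent.Tits.Roots Cfsg.Agent.Tits.Core
  Cfsg.Agent.Tits.RootComb Cfsg.Agent.Tits.Exchange Cfsg.Agent.Nodes.Reps Cfsg.Agent.Nodes.BNOf
  Cfsg.Agent.Nodes.Coroot Cfsg.Agent.Nodes.LeviDec Cfsg.Agent.KFacts.RgdSL Cfsg.Agent.KFacts.RgdTI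
  Cfsg.Agent.Nodes.RGDTwE6 Cfsg.Agent.Nodes.RGDTwCoordE6 Cfsg.Agent.Nodes.RGDTwCoord
  Cfsg.Agent.Nodes.RGDTwComE6 Cfsg.Agent.Nodes.RGDTwActE6 Cfsg.Agent.Nodes.RGDTwTab
  Cfsg.Agent.KFacts.TwESix.Comb Cfsg.Agent.KFacts.RgdPerf
  Cfsg.Agent.Omega.EH3.Kf.Base Cfsg.Agent.Omega.EH3.Kf.Goal Cfsg.Agent.Omega.EH3.Kf.FamRow
open Cfsg.Lie
open scoped commutatorElement

universe u v

/-! ### Tables -/

/-- nonnegative coordinates -/
def nn0 (z : Fin 4 → ℤ) : Bool := decide (∀ k, 0 ≤ z k)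

theorem nn0_iff {z : Fin 4 → ℤ} : nn0 z = true ↔ 0 ≤ z := by
  unfold nn0
  rw [decide_eq_true_eq]
  exact Iff.rfl

private noncomputable def _root_.Cfsg.Agent.LsF.fb2cee8_0 : {f // @Cfsg.Agent.KFacts.TwESix.Comb.rts = f} := ⟨_, by first | (delta Cfsg.Agent.KFacts.TwESix.Comb.rts; rewrite [Cfsg.Agent.LsF.ineg_pat, Cfsg.Agent.LsF.vecCons_eq]; exact rfl) | exact rfl⟩
private noncomputable def _root_.Cfsg.Agent.LsF.fb2cee8_1 : {f // @Cfsg.Agent.Omega.EH3.Kf.TwE6.nn0 = f} := ⟨_, by first | (delta Cfsg.Agent.Omega.EH3.Kf.TwE6.nn0; rewrite [Cfsg.Agent.LsF.idecLe_eq, Cfsg.Agent.LsF.dForallFin_eq, Cfsg.Agent.LsF.decide_eq]; exact rfl) | exact rfl⟩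
private noncomputable def _root_.Cfsg.Agent.LsF.fb2cee8_2 : {f // @Cfsg.Agent.KFacts.TwESix.Comb.bf = f} := ⟨_, by first | (delta Cfsg.Agent.KFacts.TwESix.Comb.bf; rewrite [Cfsg.Agent.LsF.iadd_pat, Cfsg.Agent.LsF.imul_pat, Cfsg.Agent.LsF.isub_pat]; exact rfl) | exact rfl⟩
set_option maxRecDepth 20000 in
theorem tab : ∀ r ∈ rts, nn0 r = true → (∀ i, r ≠ sr i) →
    (∃ z ∈ rts, ∃ w ∈ rts, nn0 z = true ∧ nn0 w = true ∧ r = z + w ∧ bf z z = bf w w ∧ 2 * bf z w = - bf z z) ∨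
    (∃ z ∈ rts, ∃ w ∈ rts, nn0 z = true ∧ nn0 w = true ∧ r = z + w ∧ bf z z = 2 ∧ bf w w = 2 ∧ bf r r = 4) ∨
    (∃ z ∈ rts, ∃ w ∈ rts, nn0 z = true ∧ nn0 w = true ∧ r = z + w ∧ bf z z = 4 ∧ bf w w = 2) := by
  (refine of_decide_eq_true ?_; (try (delta Cfsg.Agent.Tits.Roots.sr Function.update Pi.single; rewrite [Cfsg.Agent.LsF.padd_pat, Cfsg.Agent.LsF.dPiF_pat, Cfsg.Agent.LsF.fb2cee8_0.2, Cfsg.Agent.LsF.fb2cee8_1.2, Cfsg.Agent.LsF.fb2cee8_2.2, Cfsg.Agent.LsF.iadd_pat, Cfsg.Agent.LsF.imul_pat, Cfsg.Agent.LsF.ineg_pat, Cfsg.Agent.LsF.instIDecEq_eq, Cfsg.Agent.LsF.dAnd_eq, Cfsg.Agent.LsF.dOr_eq, Cfsg.Agent.LsF.dNot_eq, Cfsg.Agent.LsF.dFinEq_eq, Cfsg.Agent.LsF.dBoolEq_eq, Cfsg.Agent.LsF.dBAll_eq, Cfsg.Agent.LsF.dBEx_eq, Cfsg.Agent.LsF.dForallFin_eq, Cfsg.Agent.LsF.dAllP_eq, Cfsg.Agent.LsF.dite_eq, Cfsg.Agent.LsF.decide_eq])); decide +kernel)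

theorem tab2 : ∀ k : Fin 4, ∃ z ∈ rts, ∃ w ∈ rts, nn0 z = true ∧ nn0 w = true ∧ 0 < z k ∧ 0 < w k ∧
    bf z z = bf w w ∧ 2 * bf z w = - bf z z := by
  decide +kernel

theorem Qv_eq (z : Fin 4 → ℤ) : Qv z = bf z z := by
  unfold Qv Q4 bf
  ring

section Group

variable {K : Type u} [Field K] [Fintype K] {q : ℕ} {φ : K →+* K}
variable {W : Type*} [Group W] (cs : CoxeterSystem CoxeterMatrix.F₄ W)
variable (hφ : ∀ x, φ x = x ^ q) (hqq : ∀ t : K, (t ^ q) ^ q = t)

omit [Fintype K] in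
theorem exists_trace [CharP K 2] (hne : ∃ t : K, φ t ≠ t) {c : K} (hc : φ c = c)
    (hφφ : ∀ t, φ (φ t) = t) : ∃ b : K, b + φ b = c := by
  obtain ⟨t, ht⟩ := hne
  have hd : t + φ t ≠ 0 := fun h => ht (CharTwo.add_eq_zero.1 h).symm
  refine ⟨c / (t + φ t) * t, ?_⟩
  rw [map_mul, map_div₀, map_add, hφφ, hc, add_comm (φ t) t, ← mul_add, div_mul_cancel₀ _ hd]

omit [Fintype K] in
theorem exists_ne [Fintype K] (hφ : ∀ x, φ x = x ^ q) (hK : Fintype.card K = q ^ 2) (hq1 : 1 < q) :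
    ∃ t : K, φ t ≠ t := by
  by_contra hno
  push Not at hno
  have h1 := ChevalleyStructure.FixedCard.card_fixed hq1 hK
  have h2 : Nat.card {x : K // x ^ q = x} = q ^ 2 := by
    rw [← hK, ← Nat.card_eq_fintype_card]
    exact Nat.card_congr (Equiv.subtypeUnivEquiv fun x => by rw [← hφ, hno])
  rw [h2] at h1
  nlinarith

include hφ hqq

theorem NN_ne {r s : ℕ} (hr : r < chevE6.nroots) (hs : s < chevE6.nroots) (h : 2 ≤ dgE6 r s) :
    ((Nodes.RGDTwCoord.NN dgE6 Nodes.RGDTwCoordE6.dl r s : ℤ) : K) ≠ 0 := by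
  have h1 := congrArg (Int.cast : ℤ → K) ((twC hφ hqq).NN_sq hr hs h)
  rw [Int.cast_mul, Int.cast_one] at h1
  exact left_ne_zero_of_mul (by rw [h1]; exact one_ne_zero)

variable {z w : Fin 4 → ℤ}

/-- **A long root as the sum of two short roots.** -/
theorem le_trace [CharP K 2] (hne : ∃ t : K, φ t ≠ t) (hz : IsRoot cs isCartan z) (hw : IsRoot cs isCartan w)
    (hzw : IsRoot cs isCartan (z + w)) (sz : bf z z = 2) (sw : bf w w = 2) (lzw : bf (z + w) (z + w) = 4)
    {P : Subgroup ↥(twistedE6 K q)} (h1 : X φ q z ≤ P) (h2 : X φ q w ≤ P) : X φ q (z + w) ≤ ⁅P, P⁆ := by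
  rw [← Qv_eq] at sz sw lzw
  have hk : kd (Nodes.RGDTwCoord.cl chevE6 J O z) (Nodes.RGDTwCoord.cl chevE6 J O w) = 3 := by
    rcases kd_ss hz hw hzw sz sw with h | h
    · exact h
    · obtain ⟨u₀, u₁, h1, -⟩ := facts_short hz hw h
      have hlen := Lg.length hzw lzw
      rw [h1] at hlen; simp at hlen
  have hN : ((N z w : ℤ) : K) ≠ 0 := by
    unfold N
    rw [if_pos hk]
    refine NN_ne hφ hqq (V_of_mem hz (head_mem hz)).1 (V_of_mem hw (last_mem hw)).1 ?_
    unfold kd at hk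
    split_ifs at hk <;> omega
  intro g hg
  obtain ⟨c, hc, rfl⟩ := (mem_X_long hφ hqq hzw lzw g).1 hg
  obtain ⟨b, hb⟩ := exists_trace hne (c := ((N z w : ℤ) : K)⁻¹ * c)
    (by rw [map_mul, map_inv₀, map_intCast, hc]) (phi_phi hφ hqq)
  have h3 := comm_trace hφ hqq hz hw hzw sz sw lzw 1 b
  rw [map_one, one_mul, one_mul, add_comm (φ b) b, hb, mul_inv_cancel_left₀ hN] at h3
  rw [← h3]
  exact Subgroup.commutator_mem_commutator (h1 ((mem_X_short hφ hqq hz sz _).2 ⟨_, rfl⟩))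
    (h2 ((mem_X_short hφ hqq hw sw _).2 ⟨_, rfl⟩))

/-- **A short root as the sum of a long and a short root.** -/
theorem le_quad [CharP K 2] (hne : ∃ t : K, φ t ≠ t) (hz : IsRoot cs isCartan z) (hw : IsRoot cs isCartan w)
    (hzw : IsRoot cs isCartan (z + w)) (lz : bf z z = 4) (sw : bf w w = 2)
    {P : Subgroup ↥(twistedE6 K q)} (h1 : X φ q z ≤ P) (h2 : X φ q w ≤ P) (h3 : X φ q (z + w) ≤ P) :
    X φ q (z + w) ≤ ⁅P, P⁆ := by
  have lz' := lz
  have sw' := sw
  rw [← Qv_eq] at lz sw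
  have hk := kd_quad hz hw hzw lz sw
  have hN : ((N z w : ℤ) : K) ≠ 0 := by
    unfold N
    rw [if_neg (by rw [hk]; decide), if_neg (by rw [hk]; decide)]
    refine NN_ne hφ hqq (V_of_mem hz (head_mem hz)).1 (V_of_mem hw (head_mem hw)).1 ?_
    unfold kd at hk
    split_ifs at hk <;> omega
  intro g hg
  have szw : St (z + w) := (comm_quad hφ hqq hz hw hzw lz sw (φ.map_one) 1).1
  obtain ⟨c, rfl⟩ := (mem_X_short hφ hqq hzw szw g).1 hg
  obtain ⟨-, h4, l4, h5⟩ := comm_quad hφ hqq hz hw hzw lz sw (φ.map_one) (((N z w : ℤ) : K)⁻¹ * c)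
  rw [one_mul, mul_inv_cancel_left₀ hN] at h5
  have e : z + (2 : ℤ) • w = (z + w) + w := by rw [two_smul]; abel
  have h6 : X φ q (z + (2 : ℤ) • w) ≤ ⁅P, P⁆ := by
    rw [e]
    rw [e] at h4 l4
    refine le_trace cs hφ hqq hne hzw hw h4 ?_ sw' ?_ h3 h2
    · rw [← Qv_eq]; exact szw
    · rw [← Qv_eq]; exact l4
  have h7 : x φ q (z + (2 : ℤ) • w) (((N2 z w : ℤ) : K) * (1 * (((N z w : ℤ) : K)⁻¹ * c *
      φ (((N z w : ℤ) : K)⁻¹ * c)))) ∈ X φ q (z + (2 : ℤ) • w) := by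
    refine x_mem hφ hqq h4 (ok_long h4 l4 ?_)
    rw [map_mul, map_mul, map_mul, map_intCast, phi_phi hφ hqq, map_one, mul_comm (φ _) (_ * c)]
  rw [eq_mul_inv_of_mul_eq h5.symm]
  exact mul_mem (Subgroup.commutator_mem_commutator (h1 ((mem_X_long hφ hqq hz lz _).2 ⟨1, φ.map_one, rfl⟩))
    (h2 ((mem_X_short hφ hqq hw sw _).2 ⟨_, rfl⟩))) (inv_mem (h6 h7))

/-- **The root groups of the non-simple roots.** -/
theorem commGen [CharP K 2] (hne : ∃ t : K, φ t ≠ t) : Lev.CommGen cs isCartan (X φ q) := by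
  have : Finite W := finiteW cs
  intro r hr h0 hs
  have hle : ∀ {z}, IsRoot cs isCartan z → nn0 z = true → X φ q z ≤ RGD.Sup (X φ q) (RGD.Pos cs isCartan) :=
    fun hz hz0 => RGD.le_Sup ⟨hz, nn0_iff.1 hz0⟩
  rcases tab r ((mem_rts cs).1 hr) (nn0_iff.2 h0) hs with ⟨z, hz, w, hw, hz0, hw0, rfl, h1, h2⟩ |
    ⟨z, hz, w, hw, hz0, hw0, rfl, h1, h2, h3⟩ | ⟨z, hz, w, hw, hz0, hw0, rfl, h1, h2⟩
  · rw [← mem_rts cs] at hz hw
    exact le_comm_of_comm (rgd cs hφ hqq 2) (a2 cs hz hw h1 h2) (hle hz hz0) (hle hw hw0)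
  · rw [← mem_rts cs] at hz hw
    exact le_trace cs hφ hqq hne hz hw hr h1 h2 h3 (hle hz hz0) (hle hw hw0)
  · rw [← mem_rts cs] at hz hw
    exact le_quad cs hφ hqq hne hz hw hr h1 h2 (hle hz hz0) (hle hw hw0) (hle hr (nn0_iff.2 h0))

/-- **There is no row.** -/
theorem rowEnd [CharP K 2] (hne : ∃ t : K, φ t ≠ t) :
    RowEnd.{v} CoxeterMatrix.F₄ isCartan (T K q) (nn hφ) (X φ q) := by
  intro V _ _ ρ b a D X0 w R
  have : Finite CoxeterMatrix.F₄.Group := finiteW CoxeterMatrix.F₄.toCoxeterSystem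
  exfalso
  have hC := Cov.eq_VJ R (fun u hu => ThmA.thmA R.core le_rfl u hu) (commGen _ hφ hqq hne)
  obtain ⟨k, hk⟩ := Lev.exists_mv R
  obtain ⟨z, hz, w', hw, hz0, hw0, hzk, hwk, h1, h2⟩ := tab2 k
  rw [← mem_rts CoxeterMatrix.F₄.toCoxeterSystem] at hz hw
  have hA := a2 _ hz hw h1 h2
  obtain ⟨u, hu, hu1⟩ := KFacts.RgdPerf.exists_ne R.rgd hA.rx
  obtain ⟨g, hg, hg1⟩ := KFacts.RgdPerf.exists_ne R.rgd hA.rxy
  obtain ⟨v, hv, e⟩ := A2.comm_surj R.rgd hA hu hu1 hg
  apply hg1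
  rw [← e, commutatorElement_eq_one_iff_mul_comm]
  have key : ∀ {z : Fin 4 → ℤ}, IsRoot CoxeterMatrix.F₄.toCoxeterSystem isCartan z → 0 ≤ z → 0 < z k →
      X φ q z ≤ X0 := by
    intro z hz hz0 hzk
    rw [hC]
    exact TwC.X_le_VJ ⟨hz, hz0⟩ hk hzk
  exact Cov.comm_X0 R (key hz (nn0_iff.1 hz0) hzk hu) (key hw (nn0_iff.1 hw0) hwk hv)

/-- **The bundle.** -/
theorem bd [CharP K 2] : Bd CoxeterMatrix.F₄ isCartan (T K q) (nn hφ) (X φ q) where
  fin := finiteW CoxeterMatrix.F₄.toCoxeterSystem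
  rgd := rgd _ hφ hqq 2
  gen := G1_eq_top _ hφ hqq
  ab := KFacts.TwESix.Tor.T_comm
  el := by
    intro i u hu
    obtain ⟨a, ha, rfl⟩ := (mem_X hφ hqq (isRoot_sr CoxeterMatrix.F₄.toCoxeterSystem isCartan i) u).1 hu
    rw [← x_add hφ hqq (isRoot_sr CoxeterMatrix.F₄.toCoxeterSystem isCartan i) ha ha, CharTwo.add_self_eq_zero,
      x_zero hφ hqq (isRoot_sr CoxeterMatrix.F₄.toCoxeterSystem isCartan i)]

end Group

/-- **The row of `²E₆(q)`**, `q` even. -/
theorem kfRow {K : Type u} [Field K] [Fintype K] [CharP K 2] {q : ℕ} (hq : IsPrimePow q)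
    (hK : Fintype.card K = q ^ 2) : KfRow.{v} ↥(twistedE6 K q) := by
  obtain ⟨φ, hφ, hqq⟩ := ChevalleyStructure.TwE6Basic.exists_frob hq hK
  exact ⟨4, CoxeterMatrix.F₄, A, isCartan, T K q, nn hφ, X φ q, bd hφ hqq,
    rowEnd hφ hqq (exists_ne hφ hK hq.one_lt)⟩

end Cfsg.Agent.Omega.EH3.Kf.TwE6

end

-- merged: Cfsg.Agent.Mrg.Omega.EH3.Kf.TwE6Fam
section

/-!
# EH3, Lie rows in characteristic 2: `²E₆(q)`, the literal field of `Table.Rows` (helper827)
-/

set_option autoImplicit false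

namespace Cfsg.Agent.Omega.EH3.Kf.TwE6Fam

open Cfsg Cfsg.Agent.Omega.EH3.Kf.FamRow Cfsg.Agent.Omega.EH3.Kf.FamRowU Cfsg.Agent.Omega.EH3.Kf.Main

universe u

theorem twE6 : ∀ (F : Type) [Field F] [Fintype F] [CharP F 2] (q : ℕ), IsPrimePow q → Fintype.card F = q ^ 2 →
    Fam.{u} (Lie.twistedE6 F q) := fun _ _ _ _ _ hq hF => Fam.of_kfRow (TwE6.kfRow hq hF)

end Cfsg.Agent.Omega.EH3.Kf.TwE6Fam

end

-- merged: Cfsg.Agent.Mrg.Omega.EH3.Kf.TableAll
section

/-!
# EH3, Lie rows: the table, complete (helper227)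

`rows : Table.Rows` and `four_lie` (KF for the groups of Lie type of characteristic 2; the only hypothesis is `End6`,
the case `w = 6`, `End = F_4`).
-/

set_option autoImplicit false

namespace Cfsg.Agent.Omega.EH3.Kf.TableAll

open Cfsg Subgroup Cfsg.Agent.Omega.EH3.Kf.Main Cfsg.Agent.Omega.EH3.Kf.Goal

universe u

theorem psp (F : Type) [Field F] [Fintype F] [CharP F 2] (m : ℕ) (hm : 2 ≤ m) (h2 : m = 2 → 3 ≤ Fintype.card F) :
    Fam.{u} (PSp m F) := by
  by_cases h3 : 3 ≤ m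
  · exact Fam.of_kfRow (SpRow.kfRow_of m F hm fun V _ _ T nn X ρ b a D X0 w R hc => SpTwo.false h3 _ R hc)
  · obtain rfl : m = 2 := by omega
    exact Fam.of_kfRow (SpRow.kfRow_big 2 F le_rfl (by rw [Nat.card_eq_fintype_card]; exact h2 rfl))

/-- **The table.** -/
theorem rows : Table.Rows.{u} := TablePlug.rows ⟨psp, FamOmm.omm, TwE6Fam.twE6⟩

end Cfsg.Agent.Omega.EH3.Kf.TableAll

end
end

private theorem dce_95edb39ebef0 : _root_.True := by
  try have : _root_.True := by simp only [_root_.Cfsg.Agent.Omega.EH3.Kf.Base.dl.eq_1]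
  exact _root_.True.intro
end
end
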